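import Cfsg.Agent.Lib.Invol.ExtraEight.FactsSmall
import Mathlib.Algebra.Group.Basic

/-!
# An involution centraliser of shape 2^{1+8} by (C3 x A6) by 2: linear maps on the model
-/

set_option autoImplicit false

namespace Cfsg.Agent.Invol.ExtraEight

variable {V : Type*} [AddCommGroup V]

/-- The combination of a list of vectors given by the bits of a number. -/
def comb : List V → ℕ → V
  | [], _ => 0
  | x :: e, v => cond (v % 2 == 1) x 0 + comb e (v / 2)

theorem comb_zero (e : List V) : comb e 0 = 0 := by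
  induction e with
  | nil => rfl
  | cons x e ih => simp [comb, ih]

theorem comb_xor (two : ∀ x : V, x + x = 0) (e : List V) (u v : ℕ) : comb e (u ^^^ v) = comb e u + comb e v := by
  induction e generalizing u v with
  | nil => simp [comb]
  | cons x e ih =>
    have h2 : (u ^^^ v) / 2 = u / 2 ^^^ v / 2 := by
      apply Nat.eq_of_testBit_eq; intro i
      simp [Nat.testBit_div_two, Nat.testBit_xor]
    have hm : ((u ^^^ v) % 2 == 1) = ((u % 2 == 1) ^^ (v % 2 == 1)) := by
      rcases Nat.mod_two_eq_zero_or_one u with h | h <;> rcases Nat.mod_two_eq_zero_or_one v with h' | h' <;>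
        · have : (u ^^^ v) % 2 = (u % 2) ^^^ (v % 2) := by
            simpa using Nat.xor_mod_two_pow (a := u) (b := v) (n := 1)
          rw [this, h, h']; rfl
    simp only [comb, h2, ih, hm]
    cases u % 2 == 1 <;> cases v % 2 == 1 <;> simp [add_assoc, add_left_comm, two]
    rw [← add_assoc x x, two, zero_add]

theorem app_zero (g : List ℕ) : app g 0 = 0 := by
  induction g with
  | nil => rfl
  | cons x g ih => simp [app, ih]

theorem app_xor (g : List ℕ) (u v : ℕ) : app g (u ^^^ v) = app g u ^^^ app g v := by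
  induction g generalizing u v with
  | nil => simp [app]
  | cons x g ih =>
    have h2 : (u ^^^ v) / 2 = u / 2 ^^^ v / 2 := by
      apply Nat.eq_of_testBit_eq; intro i
      simp [Nat.testBit_div_two, Nat.testBit_xor]
    have hm : ((u ^^^ v) % 2 == 1) = ((u % 2 == 1) ^^ (v % 2 == 1)) := by
      rcases Nat.mod_two_eq_zero_or_one u with h | h <;> rcases Nat.mod_two_eq_zero_or_one v with h' | h' <;>
        · have : (u ^^^ v) % 2 = (u % 2) ^^^ (v % 2) := by
            simpa using Nat.xor_mod_two_pow (a := u) (b := v) (n := 1)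
          rw [this, h, h']; rfl
    simp only [app, h2, ih, hm]
    generalize app g (u / 2) = p
    generalize app g (v / 2) = q
    cases u % 2 == 1 <;> cases v % 2 == 1 <;>
      (apply Nat.eq_of_testBit_eq; intro i; simp [Nat.testBit_xor]) <;>
      cases x.testBit i <;> cases p.testBit i <;> cases q.testBit i <;> rfl

theorem app_lt {g : List ℕ} (hg : ∀ x ∈ g, x < 256) : ∀ v, app g v < 256 := by
  induction g with
  | nil => intro v; simp [app]
  | cons x g ih =>
    intro v
    refine Nat.xor_lt_two_pow (n := 8) ?_ (ih (fun y hy => hg y (List.mem_cons_of_mem _ hy)) _)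
    cases v % 2 == 1 <;> simp [hg x (List.mem_cons_self ..)]

/-- An additive function commutes with the evaluation. -/
theorem comb_map (f : ℕ → V) (h0 : f 0 = 0) (hf : ∀ u < 256, ∀ v < 256, f (u ^^^ v) = f u + f v)
    {g : List ℕ} (hg : ∀ x ∈ g, x < 256) (v : ℕ) : comb (g.map f) v = f (app g v) := by
  induction g generalizing v with
  | nil => simp [comb, app, h0]
  | cons x g ih =>
    have hg' : ∀ y ∈ g, y < 256 := fun y hy => hg y (List.mem_cons_of_mem _ hy)
    have hx : cond (v % 2 == 1) x 0 < 256 := by cases v % 2 == 1 <;> simp [hg x (List.mem_cons_self ..)]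
    simp only [List.map_cons, comb, app, ih hg', hf _ hx _ (app_lt hg' _)]
    cases v % 2 == 1 <;> simp [h0]

/-- The unit vectors. -/
theorem app_idm' {v : ℕ} (hv : v < 256) : app idm v = v := app_idm v hv

theorem idm_lt : ∀ x ∈ idm, x < 256 := by decide

/-- An additive function is determined by the unit vectors. -/
theorem eq_comb (f : ℕ → V) (h0 : f 0 = 0) (hf : ∀ u < 256, ∀ v < 256, f (u ^^^ v) = f u + f v)
    {v : ℕ} (hv : v < 256) : f v = comb (idm.map f) v := by
  rw [comb_map f h0 hf idm_lt, app_idm v hv]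

theorem app_map (f : ℕ → ℕ) (h0 : f 0 = 0) (hf : ∀ u < 256, ∀ v < 256, f (u ^^^ v) = f u ^^^ f v)
    {g : List ℕ} (hg : ∀ x ∈ g, x < 256) (v : ℕ) : app (g.map f) v = f (app g v) := by
  induction g generalizing v with
  | nil => simp [app, h0]
  | cons x g ih =>
    have hg' : ∀ y ∈ g, y < 256 := fun y hy => hg y (List.mem_cons_of_mem _ hy)
    have hx : cond (v % 2 == 1) x 0 < 256 := by cases v % 2 == 1 <;> simp [hg x (List.mem_cons_self ..)]
    simp only [List.map_cons, app, ih hg', hf _ hx _ (app_lt hg' _)]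
    cases v % 2 == 1 <;> simp [h0]

theorem app_mu (g : List ℕ) {h : List ℕ} (hh : ∀ x ∈ h, x < 256) (v : ℕ) : app (mu g h) v = app g (app h v) :=
  app_map (app g) (app_zero g) (fun u _ w _ => app_xor g u w) hh v

theorem eq_app (f : ℕ → ℕ) (h0 : f 0 = 0) (hf : ∀ u < 256, ∀ v < 256, f (u ^^^ v) = f u ^^^ f v)
    {v : ℕ} (hv : v < 256) : f v = app (idm.map f) v := by
  rw [app_map f h0 hf idm_lt, app_idm v hv]

theorem mats_lt : ∀ g ∈ mats, ∀ x ∈ g, x < 256 := by decide +kernel

theorem mats_length : ∀ g ∈ mats, g.length = 8 := by decide +kernel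

theorem wm_lt (w : List ℕ) : ∀ x ∈ wm w, x < 256 := by
  induction w with
  | nil => exact idm_lt
  | cons i w ih =>
    intro x hx
    obtain ⟨y, hy, rfl⟩ := List.mem_map.1 hx
    refine app_lt ?_ y
    rcases i with _ | _ | _ | _ | _ | i
    iterate 5 exact mats_lt _ (by decide)
    exact idm_lt

theorem app_wm_cons (i : ℕ) (w : List ℕ) (v : ℕ) :
    app (wm (i :: w)) v = app (mats.getD i idm) (app (wm w) v) :=
  app_mu _ (wm_lt w) v

end Cfsg.Agent.Invol.ExtraEight
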