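import Cfsg.Agent.Lib.Invol.ExtraEight.Coord

/-!
# An involution centraliser of shape 2^{1+8} by (C3 x A6) by 2: the normaliser in the model
-/

set_option autoImplicit false
set_option linter.unusedSimpArgs false
set_option maxRecDepth 100000

namespace Cfsg.Agent.Invol.ExtraEight

open Subgroup Equiv

universe u

theorem idm_map_of_length (g : List ℕ) (h : g.length = 8) : idm.map (app g) = g := by
  match g, h with
  | [a, b, c, d, e, f, i, j], _ => simp [idm, app]

theorem six_lt : ∀ g ∈ six, ∀ x ∈ g, x < 256 := by decide +kernel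

theorem words_lt4 : ∀ w ∈ toWords ++ fixWords ++ rWords, ∀ i ∈ w, i < 4 := by decide +kernel

theorem mem_spT : ∀ x1 ∈ NL, ∀ x2 ∈ NL, ∀ x3 ∈ NL, ∀ x4 ∈ NL, sp x1 x2 = true → sp x1 x3 = false →
    sp x2 x3 = false → sp x1 x4 = false → sp x2 x4 = false → sp x3 x4 = true → [x1, x2, x3, x4] ∈ spT := by
  intro x1 h1 x2 h2 x3 h3 x4 h4 a b c d e f
  simp only [spT, List.mem_flatMap, List.mem_map, List.mem_filter]
  exact ⟨x1, h1, x2, ⟨h2, a⟩, x3, ⟨h3, by simp [b, c]⟩, x4, ⟨h4, by simp [d, e, f]⟩, rfl⟩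

theorem word_NL {w : List ℕ} (hw : ∀ i ∈ w, i < 4) {v : ℕ} (hv : v < 256) :
    app (wm w) (app MS v) = app MS (app (wm w) v) ∧ app (wm w) (app OM v) = app OM (app (wm w) v) := by
  induction w with
  | nil =>
    have h1 := ms_lt v hv
    have h2 : app OM v < 256 := app_lt (mats_lt OM (by decide)) v
    exact ⟨by rw [show app (wm []) (app MS v) = app MS v from app_idm _ h1, show app (wm []) v = v from app_idm _ hv],
      by rw [show app (wm []) (app OM v) = app OM v from app_idm _ h2, show app (wm []) v = v from app_idm _ hv]⟩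
  | cons i w ih =>
    have hg : mats.getD i idm ∈ [MA, MB, MJ, MK] := by
      have := hw i (List.mem_cons_self ..)
      rcases i with _ | _ | _ | _ | i
      iterate 4 simp [mats]
      omega
    obtain ⟨a, c⟩ := ih fun j hj => hw j (List.mem_cons_of_mem _ hj)
    obtain ⟨e, f⟩ := mats_ms _ hg (app (wm w) v) (app_lt (wm_lt w) v)
    simp only [app_wm_cons]
    rw [a, c, e, f]
    exact ⟨rfl, rfl⟩

theorem word_mem_NL {w : List ℕ} (hw : ∀ i ∈ w, i < 4) {n : ℕ} (hn : n ∈ NL) : app (wm w) n ∈ NL := by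
  have h := NL_facts.2.1 n hn
  rw [← mem_NL _ (app_lt (wm_lt w) n), ← (word_NL hw h).1, (mem_NL n h).2 hn]

theorem xor_mem_NL {p q : ℕ} (hp : p ∈ NL) (hq : q ∈ NL) : p ^^^ q ∈ NL := by
  have hp' := NL_facts.2.1 p hp
  have hq' := NL_facts.2.1 q hq
  rw [← mem_NL _ (Nat.xor_lt_two_pow (n := 8) hp' hq'), app_xor, (mem_NL p hp').2 hp, (mem_NL q hq').2 hq]

/-- The powers of the scalar. -/
def omp : ℕ → ℕ → ℕ
  | 0, v => v
  | 1, v => app OM v
  | _, v => app OM (app OM v)

namespace Frame.Chart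

variable {G : Type u} [Group G] [Finite G] {F : Frame G} (H : F.Chart)

/-- The image of the real form is one of its three multiples. -/
theorem image_NL {m : G} (hm : m ∈ F.M) :
    ∃ i < 3, ∀ n ∈ NL, ∃ n' ∈ NL, app (H.mat m) n = omp i n' := by
  classical
  set g := fun v => app (H.mat m) v with hg
  have glt : ∀ v, g v < 256 := fun v => app_lt (H.mat_lt m) v
  set S := NL.toFinset.image g
  have hS : S.card ≤ 16 := Finset.card_image_le.trans NL_facts.1.le
  have hmove : ∀ w ∈ toWords ++ fixWords ++ rWords, ∀ x ∈ S, app (wm w) x ∈ S := by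
    intro w hw x hx
    obtain ⟨n, hn, rfl⟩ := Finset.mem_image.1 hx
    rw [List.mem_toFinset] at hn
    obtain ⟨w', hw', e⟩ := H.mat_word hm (words_lt4 w hw)
    exact Finset.mem_image.2 ⟨_, List.mem_toFinset.2 (word_mem_NL hw' hn), (e n (NL_facts.2.1 n hn)).symm⟩
  have homp : ∀ i n, i < 3 → n ∈ NL → ∀ w ∈ toWords ++ fixWords ++ rWords,
      app (wm w) (omp i n) = omp i (app (wm w) n) := by
    intro i n hi hn w hw
    have h := NL_facts.2.1 n hn
    have h1 : app OM n < 256 := app_lt (mats_lt OM (by decide)) n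
    rcases i with _ | _ | i
    · rfl
    · exact (word_NL (words_lt4 w hw) h).2
    · simp only [omp]
      rw [(word_NL (words_lt4 w hw) h1).2, (word_NL (words_lt4 w hw) h).2]
  have h0 : 0 ∈ NL := by decide
  have homp0 : ∀ i, omp i 0 = 0 := fun i => by rcases i with _ | _ | i <;> simp [omp, app_zero]
  have full : ∀ i < 3, ∀ n ∈ NL, n ≠ 0 → omp i n ∈ S → ∀ n' ∈ NL, ∃ n'' ∈ NL, g n' = omp i n'' := by
    intro i hi n hn hn0 hin
    have hsub : NL.toFinset.image (omp i) ⊆ S := by
      intro x hx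
      obtain ⟨n', hn', rfl⟩ := Finset.mem_image.1 hx
      rw [List.mem_toFinset] at hn'
      by_cases h : n' = 0
      · rw [h, homp0]
        exact Finset.mem_image.2 ⟨0, List.mem_toFinset.2 h0, app_zero _⟩
      obtain ⟨⟨w1, hw1, e1⟩, -⟩ := NL_trans n hn hn0
      obtain ⟨-, ⟨w2, hw2, e2⟩⟩ := NL_trans n' hn' h
      have a1 := hmove w1 (by simp [hw1]) _ hin
      rw [homp i n hi hn w1 (by simp [hw1]), e1] at a1
      have a2 := hmove w2 (by simp [hw2]) _ a1
      rwa [homp i 17 hi (by decide) w2 (by simp [hw2]), e2] at a2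
    have hc : (NL.toFinset.image (omp i)).card = 16 := by
      rcases i with _ | _ | _ | i
      · rw [show omp 0 = id from funext fun _ => rfl, Finset.image_id, NL_facts.1]
      · rw [show omp 1 = app OM from funext fun _ => rfl, show NL.toFinset.image (app OM) = (NL.map (app OM)).toFinset by ext; simp]; exact NL_facts.2.2.2.1
      · rw [show omp 2 = fun v => app OM (app OM v) from funext fun _ => rfl, show NL.toFinset.image (fun v => app OM (app OM v)) = (NL.map fun v => app OM (app OM v)).toFinset by ext; simp]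
        exact NL_facts.2.2.2.2.1
      · omega
    have := Finset.eq_of_subset_of_card_le hsub (hS.trans hc.ge)
    intro n' hn'
    have hx : g n' ∈ NL.toFinset.image (omp i) :=
      this ▸ Finset.mem_image.2 ⟨n', List.mem_toFinset.2 hn', rfl⟩
    obtain ⟨n'', hn'', e⟩ := Finset.mem_image.1 hx
    exact ⟨n'', List.mem_toFinset.1 hn'', e.symm⟩
  obtain ⟨p, hp, q, hq, e⟩ := NL_decomp (g 17) (glt 17)
  have hSx : g 17 ∈ S := Finset.mem_image.2 ⟨17, List.mem_toFinset.2 (by decide), rfl⟩
  have hne : g 17 ≠ 0 := fun h => by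
    have := H.mat_inj m hm (u := 17) (v := 0) (by omega) (by omega) (h.trans (app_zero _).symm)
    omega
  by_cases hp0 : p = 0
  · refine ⟨1, by omega, full 1 (by omega) q hq (fun h => hne ?_) ?_⟩
    · rw [e, hp0, h, app_zero]; rfl
    · rwa [e, hp0, Nat.zero_xor] at hSx
  by_cases hq0 : q = 0
  · refine ⟨0, by omega, full 0 (by omega) p hp hp0 ?_⟩
    rwa [e, hq0, app_zero, Nat.xor_zero] at hSx
  by_cases hpq : p = q
  · refine ⟨2, by omega, full 2 (by omega) p hp hp0 ?_⟩
    rwa [e, ← hpq, NL_facts.2.2.2.2.2.2 p hp] at hSx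
  -- a generic vector cannot occur
  exfalso
  obtain ⟨w, hw, ep, eq'⟩ := NL_fix_move p hp q hq hp0 hq0 hpq
  obtain ⟨n1, hn1, en1⟩ := Finset.mem_image.1 (hmove w (by simp [hw]) _ hSx)
  rw [List.mem_toFinset] at hn1
  have hd : app OM (app (wm w) q ^^^ q) ∈ S := by
    refine Finset.mem_image.2 ⟨n1 ^^^ 17, List.mem_toFinset.2 (xor_mem_NL hn1 (by decide)), ?_⟩
    show app (H.mat m) (n1 ^^^ 17) = _
    rw [app_xor]
    show g n1 ^^^ g 17 = _
    rw [en1, e, app_xor, ep, (word_NL (words_lt4 w (by simp [hw])) (NL_facts.2.1 q hq)).2, app_xor]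
    apply Nat.eq_of_testBit_eq; intro i
    simp [Nat.testBit_xor]
    cases p.testBit i <;> cases (app OM (app (wm w) q)).testBit i <;> cases (app OM q).testBit i <;> rfl
  have hdN : app (wm w) q ^^^ q ∈ NL := xor_mem_NL (word_mem_NL (words_lt4 w (by simp [hw])) hq) hq
  have hd0 : app (wm w) q ^^^ q ≠ 0 := fun h => eq' (by
    calc app (wm w) q = (app (wm w) q ^^^ q) ^^^ q := by rw [Nat.xor_assoc, Nat.xor_self, Nat.xor_zero]
      _ = q := by rw [h, Nat.zero_xor])
  obtain ⟨n, hn, en⟩ := full 1 (by omega) _ hdN hd0 hd 17 (by decide)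
  rw [e] at en
  have : p = app OM (n ^^^ q) := by
    rw [app_xor, show app OM n = omp 1 n from rfl, ← en, Nat.xor_assoc, Nat.xor_self, Nat.xor_zero]
  exact (NL_facts.2.2.2.2.2.1 p hp _ (xor_mem_NL hn hq) hp0).1 this

/-- Every matrix of an element of `C(z)` lies in the list. -/
theorem mat_mem {m : G} (hm : m ∈ F.M) : H.mat m ∈ bigList := by
  obtain ⟨i, hi, himg⟩ := H.image_NL hm
  set g := fun v => app (H.mat m) v
  have glt : ∀ v, g v < 256 := fun v => app_lt (H.mat_lt m) v
  have olt : ∀ v, app OM v < 256 := fun v => app_lt (mats_lt OM (by decide)) v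
  -- correct by a semilinear scalar
  obtain ⟨s, hs, h, hh0, hlt, hgh, hom, hN, hq⟩ : ∃ s ∈ six, ∃ h : ℕ → ℕ,
      (∀ u v, h (u ^^^ v) = h u ^^^ h v) ∧ (∀ v, h v < 256) ∧ (∀ v < 256, app s (h v) = g v) ∧
      (∀ v < 256, h (app OM v) = app OM (h v)) ∧ (∀ n ∈ NL, h n ∈ NL) ∧ ∀ v < 256, qf (h v) = qf v := by
    have o3 : ∀ v < 256, app OM (app OM (app OM v)) = v := fun v hv => (ms_isom v hv).2.2.2.1
    have oq : ∀ v < 256, qf (app OM v) = qf v := fun v hv => (ms_isom v hv).2.2.2.2
    have omlt : ∀ j v, v < 256 → omp j v < 256 := fun j v hv => by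
      rcases j with _ | _ | j <;> first | exact hv | exact olt _
    have omq : ∀ j v, v < 256 → qf (omp j v) = qf v := fun j v hv => by
      rcases j with _ | _ | j
      · rfl
      · exact oq v hv
      · exact (oq _ (olt v)).trans (oq v hv)
    have omx : ∀ j u v, omp j (u ^^^ v) = omp j u ^^^ omp j v := fun j u v => by
      rcases j with _ | _ | j
      · rfl
      · exact app_xor _ _ _
      · simp only [omp, app_xor]
    have k1 : ∀ v < 256, omp i (omp ((3 - i) % 3) v) = v := by
      intro v hv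
      rcases i with _ | _ | _ | i
      · rfl
      · exact o3 v hv
      · exact o3 v hv
      · omega
    have k2 : ∀ v < 256, omp ((3 - i) % 3) (omp i v) = v := by
      intro v hv
      rcases i with _ | _ | _ | i
      · rfl
      · exact o3 v hv
      · exact o3 v hv
      · omega
    have k3 : ∀ v < 256, omp ((3 - i) % 3) (app OM v) = app OM (omp ((3 - i) % 3) v) := by
      intro v _
      generalize (3 - i) % 3 = j
      rcases j with _ | _ | j <;> rfl
    rcases H.mat_om hm with hc | hc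
    · refine ⟨[idm, OM, mu OM OM].getD i idm, ?_, fun v => omp ((3 - i) % 3) (g v),
        fun u v => by simp only [g, app_xor, omx], fun v => omlt _ _ (glt v), ?_, ?_, ?_, ?_⟩
      · rcases i with _ | _ | _ | i
        iterate 3 simp [six]
        omega
      · intro v _
        beta_reduce
        refine Eq.trans ?_ (k1 _ (glt v))
        have hlt := omlt ((3 - i) % 3) _ (glt v)
        generalize omp ((3 - i) % 3) (g v) = y at hlt
        rcases i with _ | _ | _ | i
        · exact app_idm y hlt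
        · rfl
        · exact app_mu OM (mats_lt OM (by decide)) y
        · omega
      · intro v hv
        show omp _ (g (app OM v)) = app OM (omp _ (g v))
        rw [show g (app OM v) = app OM (g v) from hc v hv, k3 _ (glt v)]
      · intro n hn
        obtain ⟨n', hn', e⟩ := himg n hn
        show omp _ (g n) ∈ NL
        rw [show g n = omp i n' from e, k2 _ (NL_facts.2.1 n' hn')]
        exact hn'
      · intro v hv
        show qf (omp _ (g v)) = qf v
        rw [omq _ _ (glt v)]
        exact H.mat_isom m hm hv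
    · refine ⟨[MS, mu OM MS, mu OM (mu OM MS)].getD i MS, ?_, fun v => app MS (omp ((3 - i) % 3) (g v)),
        fun u v => by simp only [g, app_xor, omx], fun v => ms_lt _ (omlt _ _ (glt v)), ?_, ?_, ?_, ?_⟩
      · rcases i with _ | _ | _ | i
        iterate 3 simp [six]
        omega
      · intro v _
        beta_reduce
        refine Eq.trans ?_ (k1 _ (glt v))
        have hlt := omlt ((3 - i) % 3) _ (glt v)
        generalize omp ((3 - i) % 3) (g v) = y at hlt
        have h2 := (ms_isom y hlt).2.1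
        have hms : ∀ x ∈ MS, x < 256 := six_lt MS (by simp [six])
        rcases i with _ | _ | _ | i
        · exact h2
        · show app (mu OM MS) (app MS y) = app OM y
          rw [app_mu _ hms, h2]
        · show app (mu OM (mu OM MS)) (app MS y) = app OM (app OM y)
          rw [app_mu _ (six_lt (mu OM MS) (by simp [six])), app_mu _ hms, h2]
        · omega
      · intro v hv
        show app MS (omp _ (g (app OM v))) = app OM (app MS (omp _ (g v)))
        rw [show g (app OM v) = app OM (app OM (g v)) from hc v hv, k3 _ (olt _), k3 _ (glt v)]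
        set y := omp ((3 - i) % 3) (g v)
        have hy : y < 256 := omlt _ _ (glt v)
        rw [(ms_isom _ (olt y)).2.2.1, (ms_isom y hy).2.2.1, o3 _ (olt _)]
      · intro n hn
        obtain ⟨n', hn', e⟩ := himg n hn
        show app MS (omp _ (g n)) ∈ NL
        rw [show g n = omp i n' from e, k2 _ (NL_facts.2.1 n' hn'), (mem_NL n' (NL_facts.2.1 n' hn')).2 hn']
        exact hn'
      · intro v hv
        show qf (app MS (omp _ (g v))) = qf v
        rw [(ms_isom _ (omlt _ _ (glt v))).1, omq _ _ (glt v)]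
        exact H.mat_isom m hm hv
  have hb : ∀ k < 4, NBas.getD k 0 ∈ NL ∧ NBas.getD k 0 < 256 := by decide +kernel
  have hsp : ∀ j < 4, ∀ k < 4, sp (h (NBas.getD j 0)) (h (NBas.getD k 0)) = sp (NBas.getD j 0) (NBas.getD k 0) := by
    intro j hj k hk
    have hlt' : NBas.getD j 0 ^^^ app OM (NBas.getD k 0) < 256 := Nat.xor_lt_two_pow (n := 8) (hb j hj).2 (olt _)
    rw [sp, sp, ← hom _ (hb k hk).2, ← hh0]
    exact hq _ hlt'
  have ht : NBas.map h ∈ spT := by
    obtain ⟨a, b, c, d, eN⟩ : ∃ a b c d, NBas = [a, b, c, d] := ⟨_, _, _, _, rfl⟩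
    rw [eN, List.map_cons, List.map_cons, List.map_cons, List.map_cons, List.map_nil]
    have e0 : NBas.getD 0 0 = a := by rw [eN]; rfl
    have e1 : NBas.getD 1 0 = b := by rw [eN]; rfl
    have e2 : NBas.getD 2 0 = c := by rw [eN]; rfl
    have e3 : NBas.getD 3 0 = d := by rw [eN]; rfl
    have hmem : ∀ x ∈ [a, b, c, d], x ∈ NL := eN ▸ NBas_props
    refine mem_spT _ (hN _ (hmem a (by simp))) _ (hN _ (hmem b (by simp))) _ (hN _ (hmem c (by simp))) _
      (hN _ (hmem d (by simp))) ?_ ?_ ?_ ?_ ?_ ?_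
    · rw [← e0, ← e1, hsp 0 (by omega) 1 (by omega), NBas_sp 0 (by omega) 1 (by omega)]; rfl
    · rw [← e0, ← e2, hsp 0 (by omega) 2 (by omega), NBas_sp 0 (by omega) 2 (by omega)]; rfl
    · rw [← e1, ← e2, hsp 1 (by omega) 2 (by omega), NBas_sp 1 (by omega) 2 (by omega)]; rfl
    · rw [← e0, ← e3, hsp 0 (by omega) 3 (by omega), NBas_sp 0 (by omega) 3 (by omega)]; rfl
    · rw [← e1, ← e3, hsp 1 (by omega) 3 (by omega), NBas_sp 1 (by omega) 3 (by omega)]; rfl
    · rw [← e2, ← e3, hsp 2 (by omega) 3 (by omega), NBas_sp 2 (by omega) 3 (by omega)]; rfl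
  refine List.mem_flatMap.2 ⟨s, hs, List.mem_map.2 ⟨NBas.map h, ht, ?_⟩⟩
  have h0 : h 0 = 0 := by
    have := hh0 0 0
    rwa [Nat.xor_self, Nat.xor_self] at this
  have hNB : ∀ x ∈ NBas, x < 256 := by decide +kernel
  have hlist : NBas.map h ++ (NBas.map h).map (app OM) = (NBas ++ NBas.map (app OM)).map h := by
    rw [List.map_append, List.map_map, List.map_map]
    congr 1
    exact List.map_congr_left fun x hx => (hom x (hNB x hx)).symm
  have hext : ∀ l, l < 8 → app (NBas.map h ++ (NBas.map h).map (app OM)) (bits.getD l 0) = h (2 ^ l) := by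
    intro l hl
    rw [hlist, app_map h h0 (fun u _ v _ => hh0 u v) (by decide +kernel), (basis_bits l hl).1]
  rw [← idm_map_of_length (mu s (ext (NBas.map h))) (by simp [mu, ext, bits]), mat]
  refine List.map_congr_left fun x hx => ?_
  obtain ⟨l, hl, rfl⟩ : ∃ l < 8, x = 2 ^ l := by
    revert hx
    simp [idm]
    rintro (rfl | rfl | rfl | rfl | rfl | rfl | rfl | rfl)
    · exact ⟨0, by omega, rfl⟩
    · exact ⟨1, by omega, rfl⟩
    · exact ⟨2, by omega, rfl⟩
    · exact ⟨3, by omega, rfl⟩
    · exact ⟨4, by omega, rfl⟩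
    · exact ⟨5, by omega, rfl⟩
    · exact ⟨6, by omega, rfl⟩
    · exact ⟨7, by omega, rfl⟩
  have hxlt : 2 ^ l < 256 := idm_lt _ hx
  rw [← H.app_mat m hxlt]
  show app (mu s (ext (NBas.map h))) (2 ^ l) = g (2 ^ l)
  have he : ∀ x ∈ ext (NBas.map h), x < 256 := by
    intro x hx
    obtain ⟨b', -, rfl⟩ := List.mem_map.1 hx
    refine app_lt ?_ _
    rw [hlist]
    exact List.forall_mem_map.2 fun y _ => hlt y
  rw [app_mu _ he, ← hgh _ hxlt]
  congr 1
  rw [← hext l hl]
  rcases l with _ | _ | _ | _ | _ | _ | _ | _ | l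
  iterate 8 simp [ext, bits, app]
  omega

end Frame.Chart

end Cfsg.Agent.Invol.ExtraEight
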