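import Mathlib.GroupTheory.Perm.Sign
import Mathlib.Data.List.Dedup

/-!
# An involution centraliser of shape 2^{1+8} by (C3 x A6) by 2: the finite model

A vector of the eight-dimensional space over the field of two elements is a number below 256, read as four
digits over the field of four elements (2 stands for the cube root of unity); addition is `^^^`. A linear map
is the list of the images of the eight unit vectors.
-/

set_option autoImplicit false
set_option linter.style.longLine false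

namespace Cfsg.Agent.Invol.ExtraEight

/-- Evaluation of a linear map. -/
def app : List ℕ → ℕ → ℕ
  | [], _ => 0
  | x :: g, v => cond (v % 2 == 1) x 0 ^^^ app g (v / 2)

/-- The identity map. -/
def idm : List ℕ := [1, 2, 4, 8, 16, 32, 64, 128]

/-- Composition of linear maps. -/
def mu (g h : List ℕ) : List ℕ := h.map (app g)

/-- The quadratic form: the parity of the number of nonzero digits. -/
def qf (v : ℕ) : Bool :=
  ((v % 4 == 0) ^^ (v / 4 % 4 == 0)) ^^ ((v / 16 % 4 == 0) ^^ (v / 64 % 4 == 0))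

/-- The polar form. -/
def bf (u v : ℕ) : Bool := qf (u ^^^ v) ^^ qf u ^^ qf v

/-- Multiplication by the primitive cube root of unity (the normal subgroup of order 3). -/
def OM : List ℕ :=
  [2, 3, 8, 12, 32, 48, 128, 192]

/-- The first generator of order 3 of the alternating group. -/
def MA : List ℕ :=
  [2, 3, 4, 8, 48, 16, 64, 128]

/-- The second generator of order 3. -/
def MB : List ℕ :=
  [1, 2, 8, 12, 16, 32, 192, 64]

/-- The coordinate shift. -/
def MJ : List ℕ :=
  [4, 8, 16, 32, 64, 128, 1, 2]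

/-- The involution inverting the shift. -/
def MK : List ℕ :=
  [69, 138, 81, 162, 84, 168, 21, 42]

/-- The semilinear involution fixing the real form. -/
def MS : List ℕ :=
  [16, 48, 64, 192, 1, 3, 4, 12]

/-- The real form. -/
def NL : List ℕ :=
  [0, 17, 35, 50, 68, 85, 103, 118, 140, 157, 175, 190, 200, 217, 235, 250]

/-- A symplectic basis of the real form. -/
def NBas : List ℕ :=
  [17, 50, 68, 200]

/-- The coordinates of the standard basis. -/
def bits : List ℕ :=
  [19, 33, 76, 132, 18, 49, 72, 196]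

/-- A point stabiliser in the normaliser. -/
def stabP : List (List ℕ) :=
  [[16, 32, 64, 128, 1, 2, 4, 8],
    [16, 32, 4, 8, 1, 2, 64, 128],
    [16, 32, 12, 4, 1, 2, 128, 192],
    [16, 32, 128, 192, 1, 2, 12, 4],
    [16, 32, 192, 64, 1, 2, 8, 12],
    [16, 32, 8, 12, 1, 2, 192, 64],
    [1, 2, 64, 128, 16, 32, 4, 8],
    [1, 2, 4, 8, 16, 32, 64, 128],
    [1, 2, 12, 4, 16, 32, 128, 192],
    [1, 2, 128, 192, 16, 32, 12, 4],
    [1, 2, 192, 64, 16, 32, 8, 12],
    [1, 2, 8, 12, 16, 32, 192, 64],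
    [84, 168, 81, 162, 69, 138, 21, 42],
    [84, 168, 21, 42, 69, 138, 81, 162],
    [84, 168, 63, 21, 69, 138, 162, 243],
    [84, 168, 162, 243, 69, 138, 63, 21],
    [84, 168, 243, 81, 69, 138, 42, 63],
    [84, 168, 42, 63, 69, 138, 243, 81],
    [69, 138, 81, 162, 84, 168, 21, 42],
    [69, 138, 21, 42, 84, 168, 81, 162],
    [69, 138, 63, 21, 84, 168, 162, 243],
    [69, 138, 162, 243, 84, 168, 63, 21],
    [69, 138, 243, 81, 84, 168, 42, 63],
    [69, 138, 42, 63, 84, 168, 243, 81],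
    [156, 228, 115, 145, 141, 198, 38, 59],
    [156, 228, 38, 59, 141, 198, 115, 145],
    [156, 228, 29, 38, 141, 198, 145, 226],
    [156, 228, 145, 226, 141, 198, 29, 38],
    [156, 228, 226, 115, 141, 198, 59, 29],
    [156, 228, 59, 29, 141, 198, 226, 115],
    [141, 198, 115, 145, 156, 228, 38, 59],
    [141, 198, 38, 59, 156, 228, 115, 145],
    [141, 198, 29, 38, 156, 228, 145, 226],
    [141, 198, 145, 226, 156, 228, 29, 38],
    [141, 198, 226, 115, 156, 228, 59, 29],
    [141, 198, 59, 29, 156, 228, 226, 115],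
    [216, 108, 98, 179, 201, 78, 55, 25],
    [216, 108, 55, 25, 201, 78, 98, 179],
    [216, 108, 46, 55, 201, 78, 179, 209],
    [216, 108, 179, 209, 201, 78, 46, 55],
    [216, 108, 209, 98, 201, 78, 25, 46],
    [216, 108, 25, 46, 201, 78, 209, 98],
    [201, 78, 98, 179, 216, 108, 55, 25],
    [201, 78, 55, 25, 216, 108, 98, 179],
    [201, 78, 46, 55, 216, 108, 179, 209],
    [201, 78, 179, 209, 216, 108, 46, 55],
    [201, 78, 209, 98, 216, 108, 25, 46],
    [201, 78, 25, 46, 216, 108, 209, 98],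
    [1, 3, 4, 12, 16, 48, 64, 192],
    [1, 3, 64, 192, 16, 48, 4, 12],
    [1, 3, 128, 64, 16, 48, 12, 8],
    [1, 3, 12, 8, 16, 48, 128, 64],
    [1, 3, 8, 4, 16, 48, 192, 128],
    [1, 3, 192, 128, 16, 48, 8, 4],
    [16, 48, 4, 12, 1, 3, 64, 192],
    [16, 48, 64, 192, 1, 3, 4, 12],
    [16, 48, 128, 64, 1, 3, 12, 8],
    [16, 48, 12, 8, 1, 3, 128, 64],
    [16, 48, 8, 4, 1, 3, 192, 128],
    [16, 48, 192, 128, 1, 3, 8, 4],
    [69, 207, 21, 63, 84, 252, 81, 243],
    [69, 207, 81, 243, 84, 252, 21, 63],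
    [69, 207, 162, 81, 84, 252, 63, 42],
    [69, 207, 63, 42, 84, 252, 162, 81],
    [69, 207, 42, 21, 84, 252, 243, 162],
    [69, 207, 243, 162, 84, 252, 42, 21],
    [84, 252, 21, 63, 69, 207, 81, 243],
    [84, 252, 81, 243, 69, 207, 21, 63],
    [84, 252, 162, 81, 69, 207, 63, 42],
    [84, 252, 63, 42, 69, 207, 162, 81],
    [84, 252, 42, 21, 69, 207, 243, 162],
    [84, 252, 243, 162, 69, 207, 42, 21],
    [141, 75, 38, 29, 156, 120, 115, 226],
    [141, 75, 115, 226, 156, 120, 38, 29],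
    [141, 75, 145, 115, 156, 120, 29, 59],
    [141, 75, 29, 59, 156, 120, 145, 115],
    [141, 75, 59, 38, 156, 120, 226, 145],
    [141, 75, 226, 145, 156, 120, 59, 38],
    [156, 120, 38, 29, 141, 75, 115, 226],
    [156, 120, 115, 226, 141, 75, 38, 29],
    [156, 120, 145, 115, 141, 75, 29, 59],
    [156, 120, 29, 59, 141, 75, 145, 115],
    [156, 120, 59, 38, 141, 75, 226, 145],
    [156, 120, 226, 145, 141, 75, 59, 38],
    [201, 135, 55, 46, 216, 180, 98, 209],
    [201, 135, 98, 209, 216, 180, 55, 46],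
    [201, 135, 179, 98, 216, 180, 46, 25],
    [201, 135, 46, 25, 216, 180, 179, 98],
    [201, 135, 25, 55, 216, 180, 209, 179],
    [201, 135, 209, 179, 216, 180, 25, 55],
    [216, 180, 55, 46, 201, 135, 98, 209],
    [216, 180, 98, 209, 201, 135, 55, 46],
    [216, 180, 179, 98, 201, 135, 46, 25],
    [216, 180, 46, 25, 201, 135, 179, 98],
    [216, 180, 25, 55, 201, 135, 209, 179],
    [216, 180, 209, 179, 201, 135, 25, 55]]

/-- A point stabiliser in the normaliser. -/
def stabR : List (List ℕ) :=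
  [[1, 2, 4, 8, 16, 32, 64, 128],
    [84, 168, 81, 162, 69, 138, 21, 42],
    [81, 162, 84, 168, 21, 42, 69, 138],
    [4, 8, 1, 2, 64, 128, 16, 32],
    [244, 88, 241, 82, 74, 143, 26, 47],
    [161, 242, 164, 248, 31, 37, 79, 133],
    [164, 248, 161, 242, 79, 133, 31, 37],
    [241, 82, 244, 88, 26, 47, 74, 143],
    [1, 2, 4, 8, 48, 16, 192, 64],
    [244, 88, 241, 82, 197, 74, 53, 26],
    [84, 168, 81, 162, 207, 69, 63, 21],
    [161, 242, 164, 248, 58, 31, 202, 79],
    [4, 8, 1, 2, 192, 64, 48, 16],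
    [241, 82, 244, 88, 53, 26, 197, 74],
    [81, 162, 84, 168, 63, 21, 207, 69],
    [164, 248, 161, 242, 202, 79, 58, 31],
    [1, 2, 4, 8, 32, 48, 128, 192],
    [164, 248, 161, 242, 133, 202, 37, 58],
    [84, 168, 81, 162, 138, 207, 42, 63],
    [241, 82, 244, 88, 47, 53, 143, 197],
    [244, 88, 241, 82, 143, 197, 47, 53],
    [81, 162, 84, 168, 42, 63, 138, 207],
    [161, 242, 164, 248, 37, 58, 133, 202],
    [4, 8, 1, 2, 128, 192, 32, 48],
    [1, 3, 4, 12, 16, 48, 64, 192],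
    [84, 252, 81, 243, 69, 207, 21, 63],
    [4, 12, 1, 3, 64, 192, 16, 48],
    [81, 243, 84, 252, 21, 63, 69, 207],
    [244, 172, 241, 163, 74, 197, 26, 53],
    [161, 83, 164, 92, 31, 58, 79, 202],
    [241, 163, 244, 172, 26, 53, 74, 197],
    [164, 92, 161, 83, 79, 202, 31, 58],
    [1, 3, 4, 12, 48, 32, 192, 128],
    [244, 172, 241, 163, 197, 143, 53, 47],
    [84, 252, 81, 243, 207, 138, 63, 42],
    [161, 83, 164, 92, 58, 37, 202, 133],
    [241, 163, 244, 172, 53, 47, 197, 143],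
    [4, 12, 1, 3, 192, 128, 48, 32],
    [164, 92, 161, 83, 202, 133, 58, 37],
    [81, 243, 84, 252, 63, 42, 207, 138],
    [1, 3, 4, 12, 32, 16, 128, 64],
    [164, 92, 161, 83, 133, 79, 37, 31],
    [84, 252, 81, 243, 138, 69, 42, 21],
    [241, 163, 244, 172, 47, 26, 143, 74],
    [81, 243, 84, 252, 42, 21, 138, 69],
    [244, 172, 241, 163, 143, 74, 47, 26],
    [4, 12, 1, 3, 128, 64, 32, 16],
    [161, 83, 164, 92, 37, 31, 133, 79]]

/-- Words moving every singular vector to a representative. -/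
def orbWords : List (List ℕ) :=
  [[], [0], [0, 0], [0, 0, 3], [0, 0, 3, 0], [0, 0, 3, 0, 1], [0, 0, 3, 0, 4], [0, 0, 3, 0, 4, 4], [0, 0, 3, 1], [0, 0, 3, 1, 1], [0, 0, 3, 1, 1, 4], [0, 0, 3, 1, 1, 4, 4], [0, 0, 3, 1, 2], [0, 0, 3, 1, 3], [0, 0, 3, 1, 3, 0], [0, 0, 3, 1, 4], [0, 0, 3, 1, 4, 4], [0, 0, 3, 2], [0, 0, 3, 4], [0, 0, 3, 4, 4], [0, 0, 4], [0, 0, 4, 4], [0, 2], [0, 2, 2], [0, 2, 2, 1], [0, 2, 2, 1, 3], [0, 2, 2, 3], [0, 2, 2, 3, 0], [0, 2, 2, 3, 4], [0, 2, 2, 4], [0, 2, 3], [0, 2, 3, 0], [0, 2, 3, 0, 3], [0, 2, 3, 0, 4], [0, 2, 3, 4], [0, 2, 3, 4, 4], [0, 2, 4], [0, 2, 4, 4], [0, 3], [0, 3, 0], [0, 3, 0, 0], [0, 3, 0, 2], [0, 3, 0, 4], [0, 3, 1], [0, 3, 1, 1], [0, 3, 1, 1, 3], [0, 3, 1, 1, 4], [0, 3, 1, 1, 4, 4], [0, 3, 1, 4], [0, 3, 1, 4, 4], [0, 3, 2], [0, 3, 2, 1], [0, 3, 2, 4], [0, 3, 2, 4, 4], [0, 3, 4], [0, 3, 4, 4], [0, 4], [0, 4, 4], [1], [1, 1], [1, 1, 2], [1, 1, 2, 3], [1, 1, 2, 3, 0], [1, 1, 3], [1, 2], [1, 2, 2], [1, 2, 4], [1, 3], [1, 3, 0],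 [1, 3, 0, 1], [1, 3, 0, 1, 2], [1, 3, 0, 1, 4], [1, 3, 0, 2], [1, 3, 0, 3], [1, 3, 0, 4], [1, 3, 1], [1, 3, 1, 3], [1, 3, 1, 3, 0], [1, 3, 1, 4], [1, 3, 4], [1, 4], [2], [2, 1], [2, 1, 2], [2, 1, 2, 1], [2, 1, 2, 3], [2, 1, 3], [2, 1, 3, 0], [2, 1, 3, 0, 0], [2, 1, 3, 1], [2, 1, 4], [2, 1, 4, 4], [2, 2], [2, 2, 1], [2, 2, 4], [2, 4], [2, 4, 4], [3], [3, 0], [3, 0, 0], [3, 0, 1], [3, 0, 3], [3, 0, 3, 1], [3, 1], [3, 1, 1], [3, 1, 4], [3, 4], [3, 4, 4], [4], [4, 4]]

/-- Words acting transitively on the real form. -/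
def toWords : List (List ℕ) :=
  [[], [0], [0, 0], [0, 0, 3], [0, 0, 3, 0], [0, 0, 3, 1], [0, 0, 3, 1, 1], [0, 0, 3, 1, 2], [0, 1, 3, 0], [0, 2], [0, 2, 3], [0, 3], [0, 3, 0], [0, 3, 1], [0, 3, 1, 1], [0, 3, 1, 2], [0, 3, 2], [1, 1, 2], [1, 2], [1, 3, 0], [2], [2, 1], [2, 3, 0], [3, 0], [3, 1, 2]]

/-- Words fixing one vector and moving another. -/
def fixWords : List (List ℕ) :=
  [[0], [0, 1, 2, 2], [0, 2, 3, 0, 0], [0, 3, 1, 1, 2], [1], [1, 3, 0, 2], [2, 1, 2, 1], [2, 1, 3, 0], [2, 3], [3]]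

/-- Words generating a point stabiliser. -/
def gensP : List (List ℕ) :=
  [[1], [3]]

/-- The invariant totally singular subspaces through the point. -/
def spacesP : List (List ℕ) :=
  [[0, 17],
    [0, 17, 34, 51],
    [0, 17, 35, 50, 68, 85, 103, 118, 140, 157, 175, 190, 200, 217, 235, 250],
    [0, 17, 68, 85, 140, 157, 200, 217],
    [0, 17, 34, 51, 72, 89, 106, 123, 132, 149, 166, 183, 204, 221, 238, 255],
    [0, 17, 34, 51, 76, 93, 110, 127, 136, 153, 170, 187, 196, 213, 230, 247],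
    [0, 17, 34, 51, 68, 85, 102, 119, 140, 157, 174, 191, 200, 217, 234, 251]]

/-- Words generating a point stabiliser. -/
def gensR : List (List ℕ) :=
  [[3, 2], [0, 1, 4, 4]]

/-- The invariant totally singular subspaces through the point. -/
def spacesR : List (List ℕ) :=
  [[0, 5],
    [0, 5, 10, 15],
    [0, 5, 11, 14, 80, 85, 91, 94, 160, 165, 171, 174, 240, 245, 251, 254],
    [0, 5, 80, 85, 160, 165, 240, 245],
    [0, 5, 10, 15, 80, 85, 90, 95, 160, 165, 170, 175, 240, 245, 250, 255],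
    [0, 5, 10, 15, 96, 101, 106, 111, 176, 181, 186, 191, 208, 213, 218, 223],
    [0, 5, 10, 15, 112, 117, 122, 127, 144, 149, 154, 159, 224, 229, 234, 239]]

/-- The distinguished subspace at a pure point. -/
def W0 : List ℕ :=
  [0, 17, 34, 51, 68, 85, 102, 119, 140, 157, 174, 191, 200, 217, 234, 251]

/-- The three fused involutions. -/
def rWords : List (List ℕ) :=
  [[3, 1, 3, 1], [1, 3, 1, 3], [2, 2, 3]]

/-- The pure vectors defining them. -/
def T12 : List ℕ :=
  [72, 76, 110, 123, 132, 136, 170, 183, 196, 204, 230, 255]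

/-- Three such vectors summing to zero. -/
def three : List ℕ :=
  [72, 132, 204]

/-- Words moving them to the representative. -/
def threeWords : List (List ℕ) :=
  [[2, 1, 4], [0, 2, 4], [2, 4]]

/-- The generators: two elements of order 3, the shift, the involution, and the scalar of order 3. -/
def mats : List (List ℕ) := [MA, MB, MJ, MK, OM]

/-- The map of a word in the generators. -/
def wm : List ℕ → List ℕ
  | [] => idm
  | i :: w => mu (mats.getD i idm) (wm w)

/-- The candidate for the involution inverting the shift, determined by the image of the first basis vector. -/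
def kOf (c : ℕ) : List ℕ :=
  [c, app OM c, app MJ (app MJ (app MJ c)), app OM (app MJ (app MJ (app MJ c))),
    app MJ (app MJ c), app OM (app MJ (app MJ c)), app MJ c, app OM (app MJ c)]

/-- The symplectic form of the real form. -/
def sp (p q : ℕ) : Bool := qf (p ^^^ app OM q)

/-- Images of the symplectic basis under isometries of the real form. -/
def spT : List (List ℕ) :=
  NL.flatMap fun x1 => (NL.filter fun x2 => sp x1 x2).flatMap fun x2 =>
    (NL.filter fun x3 => !sp x1 x3 && !sp x2 x3).flatMap fun x3 =>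
      (NL.filter fun x4 => !sp x1 x4 && !sp x2 x4 && sp x3 x4).map fun x4 => [x1, x2, x3, x4]

/-- The linear map commuting with the scalar with given images of the symplectic basis. -/
def ext (t : List ℕ) : List ℕ := bits.map (app (t ++ t.map (app OM)))

/-- The semilinear scalars. -/
def six : List (List ℕ) := [idm, OM, mu OM OM, MS, mu OM MS, mu OM (mu OM MS)]

/-- The normaliser of the image of `C3 x A6`. -/
def bigList : List (List ℕ) := six.flatMap fun s => spT.map fun t => mu s (ext t)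

/-- Adjoin a vector to a subspace, unless it is no longer totally singular. -/
def addSpan (S : List ℕ) (w : ℕ) : List ℕ :=
  if S.contains w || S.any qf then S else S ++ S.map (· ^^^ w)

/-- One step of the closure under maps. -/
def grow (gs : List (List ℕ)) (S : List ℕ) : List ℕ :=
  gs.foldl (fun S g => (S.map (app g)).foldl addSpan S) S

/-- The closure of a subspace and a vector under maps. -/
def closeS (gs : List (List ℕ)) (S : List ℕ) (w : ℕ) : List ℕ :=
  grow gs (grow gs (grow gs (addSpan S w)))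

/-- The vectors orthogonal to `v`. -/
def perpL (v : ℕ) : List ℕ := (List.range 256).filter fun y => !bf y v

/-- The elements of a stabiliser that may occur in the image of the second extraspecial group. -/
def candL (st : List (List ℕ)) (v : ℕ) (W : List ℕ) : List (List ℕ) :=
  st.filter fun g => (mu g g == idm) && (perpL v).all (fun y => W.contains (app g y ^^^ y)) &&
    W.all (fun y => (app g y ^^^ y == 0) || (app g y ^^^ y == v))

/-- The maps they induce on the subspace. -/
def mapsL (st : List (List ℕ)) (v : ℕ) (W : List ℕ) : List (List ℕ) :=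
  ((candL st v W).map fun g => W.map (app g)).dedup

/-- The two systems of generators of the alternating group of degree 6. -/
def perms : Bool → List (Equiv.Perm (Fin 6))
  | false => [Equiv.swap 0 1 * Equiv.swap 1 2, Equiv.swap 3 4 * Equiv.swap 4 5,
      Equiv.swap 0 3 * Equiv.swap 3 1 * Equiv.swap 1 4 * Equiv.swap 2 5, Equiv.swap 0 1 * Equiv.swap 2 5]
  | true => [Equiv.swap 0 1 * Equiv.swap 1 2 * (Equiv.swap 3 4 * Equiv.swap 4 5),
      Equiv.swap 0 1 * Equiv.swap 1 2 * (Equiv.swap 0 1 * Equiv.swap 1 2) * (Equiv.swap 3 4 * Equiv.swap 4 5),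
      Equiv.swap 0 3 * Equiv.swap 3 1 * Equiv.swap 1 4 * Equiv.swap 2 5, Equiv.swap 0 3 * Equiv.swap 1 4]

/-- The permutation of a word. -/
def wp (b : Bool) : List ℕ → Equiv.Perm (Fin 6)
  | [] => 1
  | i :: w => (perms b).getD i 1 * wp b w

end Cfsg.Agent.Invol.ExtraEight
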