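import Cfsg.Agent.Lib.Invol.ExtraEight.Plane
import Mathlib.Data.Finset.Card

/-!
# An involution centraliser of shape 2^{1+8} by (C3 x A6) by 2: coordinates
-/

set_option autoImplicit false
set_option linter.unusedSectionVars false
set_option linter.unusedSimpArgs false
set_option maxRecDepth 100000

namespace Cfsg.Agent.Invol.ExtraEight

open Subgroup Equiv

universe u

/-- The element of `S3 x S6` of a word. -/
def w36 (b : Bool) : List ℕ → P36
  | [] => 1
  | i :: w => gen36 b i * w36 b w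

theorem w36_eq (b : Bool) : ∀ w : List ℕ, (∀ i ∈ w, i < 4) → w36 b w = (1, wp b w) := by
  intro w
  induction w with
  | nil => intro _; rfl
  | cons i w ih =>
    intro h
    have hi : i < 4 := h i (List.mem_cons_self ..)
    rw [w36, ih fun j hj => h j (List.mem_cons_of_mem _ hj), gen36, if_pos hi, Prod.mk_mul_mk, one_mul, wp]

theorem perm3_conj : ∀ q : Perm (Fin 3), (Perm.sign q = 1 → q * t3 = t3 * q) ∧
    (Perm.sign q = -1 → q * t3 = t3 * t3 * q) := by decide +kernel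

theorem ms_isom : ∀ v < 256, qf (app MS v) = qf v ∧ app MS (app MS v) = v ∧
    app MS (app OM v) = app OM (app OM (app MS v)) ∧ app OM (app OM (app OM v)) = v ∧ qf (app OM v) = qf v := by
  decide +kernel

theorem ms_lt : ∀ v < 256, app MS v < 256 := by decide +kernel

theorem mats_ms : ∀ g ∈ [MA, MB, MJ, MK], ∀ v < 256, app g (app MS v) = app MS (app g v) ∧
    app g (app OM v) = app OM (app g v) := by decide +kernel

theorem NL_facts : NL.toFinset.card = 16 ∧ (∀ v ∈ NL, v < 256) ∧ (17 ∈ NL) ∧ (NL.map (app OM)).toFinset.card = 16 ∧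
    (NL.map fun v => app OM (app OM v)).toFinset.card = 16 ∧
    (∀ p ∈ NL, ∀ q ∈ NL, p ≠ 0 → p ≠ app OM q ∧ p ≠ app OM (app OM q)) ∧
    (∀ p ∈ NL, p ^^^ app OM p = app OM (app OM p)) := by decide +kernel

theorem NBas_sp : ∀ i < 4, ∀ j < 4, sp (NBas.getD i 0) (NBas.getD j 0) =
    decide ((i = 0 ∧ j = 1) ∨ (i = 1 ∧ j = 0) ∨ (i = 2 ∧ j = 3) ∨ (i = 3 ∧ j = 2)) := by decide +kernel

namespace Frame

variable {G : Type u} [Group G] [Finite G] (F : Frame G)

/-- Coordinates on `Q/⟨z⟩`. -/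
structure Chart where
  b : Bool
  C : F.mod.Coords b

theorem exists_chart (p : F.Pair) : Nonempty F.Chart := by
  rcases F.mod.split with ⟨b, ⟨C⟩⟩ | h
  · exact ⟨⟨b, C⟩⟩
  · exact absurd h p.not_small

namespace Chart

variable {F} (H : F.Chart)

/-- The code of a class. -/
noncomputable def code (v : F.V) : ℕ := (H.C.surj v).choose

theorem code_lt (v : F.V) : H.code v < 256 := (H.C.surj v).choose_spec.1

theorem c_code (v : F.V) : H.C.c (H.code v) = v := (H.C.surj v).choose_spec.2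

theorem code_c {n : ℕ} (hn : n < 256) : H.code (H.C.c n) = n :=
  H.C.inj _ (H.code_lt _) _ hn (H.c_code _)

theorem code_add (u v : F.V) : H.code (u + v) = H.code u ^^^ H.code v :=
  H.C.inj _ (H.code_lt _) _ (Nat.xor_lt_two_pow (n := 8) (H.code_lt _) (H.code_lt _))
    (by rw [H.C.add, H.c_code, H.c_code, H.c_code])

theorem c_zero : H.C.c 0 = 0 := by
  have := H.C.add 0 0
  rw [Nat.xor_self] at this
  exact add_eq_right.1 this.symm

theorem code_zero : H.code 0 = 0 := by rw [← H.c_zero, H.code_c (by omega)]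

/-- The coordinate of an element of `Q`. -/
noncomputable def cv (x : G) : ℕ := H.code (F.cls x)

theorem cv_lt (x : G) : H.cv x < 256 := H.code_lt _

theorem cv_mul {x y : G} (hx : x ∈ F.Q) (hy : y ∈ F.Q) : H.cv (x * y) = H.cv x ^^^ H.cv y := by
  rw [cv, F.cls_mul hx hy, H.code_add]; rfl

theorem cv_eq_iff {x y : G} (hx : x ∈ F.Q) (hy : y ∈ F.Q) : H.cv x = H.cv y ↔ x = y ∨ x = y * F.z := by
  rw [← F.cls_eq_iff hx hy]
  exact ⟨fun h => by rw [← H.c_code (F.cls x), ← H.c_code (F.cls y)]; exact congrArg H.C.c h,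
    fun h => congrArg H.code h⟩

theorem cv_zero_iff {x : G} (hx : x ∈ F.Q) : H.cv x = 0 ↔ x = 1 ∨ x = F.z := by
  rw [← F.cls_zero_iff hx]
  exact ⟨fun h => by rw [← H.c_code (F.cls x), show H.code (F.cls x) = 0 from h, H.c_zero],
    fun h => by rw [cv, h, H.code_zero]⟩

theorem cv_one : H.cv 1 = 0 := (H.cv_zero_iff (one_mem _)).2 (Or.inl rfl)

theorem cv_surj {n : ℕ} (hn : n < 256) : ∃ x ∈ F.Q, H.cv x = n := by
  obtain ⟨x, hx, e⟩ := F.cls_surj (H.C.c n)
  exact ⟨x, hx, by rw [cv, e, H.code_c hn]⟩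

theorem qf_code (v : F.V) : qf (H.code v) = F.qv v := by
  rw [← H.C.q _ (H.code_lt v), H.c_code]; rfl

theorem qf_cv {x : G} (hx : x ∈ F.Q) : qf (H.cv x) = true ↔ x * x = F.z := by
  classical
  rw [cv, H.qf_code, F.qv_cls hx, decide_eq_true_iff]

theorem bf_cv {x y : G} (hx : x ∈ F.Q) (hy : y ∈ F.Q) : bf (H.cv x) (H.cv y) = true ↔ x * y ≠ y * x := by
  classical
  rw [bf, cv, cv, ← H.code_add, H.qf_code, H.qf_code, H.qf_code]
  show polar F.qv _ _ = true ↔ _
  rw [F.polar_cls hx hy, decide_eq_true_iff]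

theorem bf_code (u v : F.V) : bf (H.code u) (H.code v) = polar F.qv u v := by
  rw [bf, ← H.code_add, H.qf_code, H.qf_code, H.qf_code]; rfl

/-- The matrix of an element of `C(z)`. -/
noncomputable def mat (m : G) : List ℕ := idm.map fun l => H.code (F.act (F.π m) (H.C.c l))

theorem mat_lt (m : G) : ∀ x ∈ H.mat m, x < 256 := List.forall_mem_map.2 fun _ _ => H.code_lt _

theorem app_mat (m : G) {v : ℕ} (hv : v < 256) : app (H.mat m) v = H.code (F.act (F.π m) (H.C.c v)) :=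
  (eq_app (fun v => H.code (F.act (F.π m) (H.C.c v))) (by simp [H.c_zero, H.code_zero])
    (fun u _ w _ => by rw [H.C.add, map_add, H.code_add]) hv).symm

theorem cv_conj {m x : G} (hm : m ∈ F.M) (hx : x ∈ F.Q) : H.cv (m * x * m⁻¹) = app (H.mat m) (H.cv x) := by
  rw [H.app_mat m (H.cv_lt x), cv, cv, H.c_code, F.act_cls hm hx]

theorem mat_mul {m n : G} (hm : m ∈ F.M) (hn : n ∈ F.M) {v : ℕ} (hv : v < 256) :
    app (H.mat (m * n)) v = app (H.mat m) (app (H.mat n) v) := by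
  obtain ⟨x, hx, rfl⟩ := H.cv_surj hv
  rw [← H.cv_conj (mul_mem hm hn) hx, ← H.cv_conj hn hx, ← H.cv_conj hm (F.norm' hn hx)]
  congr 1; group

theorem mat_Q {q : G} (hq : q ∈ F.Q) {v : ℕ} (hv : v < 256) : app (H.mat q) v = v := by
  obtain ⟨x, hx, rfl⟩ := H.cv_surj hv
  rw [← H.cv_conj (F.Q_le hq) hx, cv, F.cls_conj_Q hq hx]; rfl

theorem π_eq_of_mat {m n : G} (hm : m ∈ F.M) (hn : n ∈ F.M)
    (h : ∀ v < 256, app (H.mat m) v = app (H.mat n) v) : F.π m = F.π n := by
  have hy : F.π (n⁻¹ * m) = 1 := by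
    refine F.mod.faith _ ⟨_, mul_mem (inv_mem hn) hm, rfl⟩ fun v => ?_
    obtain ⟨x, hx, rfl⟩ := F.cls_surj v
    show F.act _ _ = _
    rw [F.act_cls (mul_mem (inv_mem hn) hm) hx]
    have e := h _ (H.cv_lt x)
    rw [← H.cv_conj hm hx, ← H.cv_conj hn hx, H.cv_eq_iff (F.norm' hm hx) (F.norm' hn hx)] at e
    rw [F.cls_eq_iff (F.norm' (mul_mem (inv_mem hn) hm) hx) hx]
    rcases e with e | e
    · left
      calc n⁻¹ * m * x * (n⁻¹ * m)⁻¹ = n⁻¹ * (m * x * m⁻¹) * n := by group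
        _ = x := by rw [e]; group
    · right
      calc n⁻¹ * m * x * (n⁻¹ * m)⁻¹ = n⁻¹ * (m * x * m⁻¹) * n := by group
        _ = x * (n⁻¹ * (F.z * n)) := by rw [e]; group
        _ = x * F.z := by rw [← F.mem_M.1 hn]; group
  rw [F.π_mul' (inv_mem hn) hm, F.π_inv hn, inv_mul_eq_one] at hy
  exact hy.symm

/-- A word is realised in `C(z)`. -/
theorem word : ∀ w : List ℕ, (∀ i ∈ w, i < 5) → ∃ m ∈ F.M, F.π m = w36 H.b w ∧
    ∀ v < 256, app (H.mat m) v = app (wm w) v := by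
  intro w
  induction w with
  | nil => intro _; exact ⟨1, one_mem _, F.π_one, fun v hv => by rw [H.mat_Q (one_mem _) hv]; exact (app_idm v hv).symm⟩
  | cons i w ih =>
    intro h
    obtain ⟨m, hm, hπ, hmat⟩ := ih fun j hj => h j (List.mem_cons_of_mem _ hj)
    have hi : i < 5 := h i (List.mem_cons_self ..)
    have hR : gen36 H.b i ∈ F.R := by
      rw [gen36]; split
      · exact F.mod.a_mem H.b i
      · exact F.mod.t_mem
    obtain ⟨g, hg, hgπ⟩ := hR
    refine ⟨g * m, mul_mem hg hm, by rw [F.π_mul' hg hm, hgπ, hπ]; rfl, fun v hv => ?_⟩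
    have hlt : app (wm w) v < 256 := app_lt (wm_lt w) v
    rw [H.mat_mul hg hm hv, hmat v hv, app_wm_cons, H.app_mat g hlt, hgπ]
    show H.code (F.mod.ρ _ _) = _
    rw [H.C.gen i hi _ hlt, H.code_c]
    refine app_lt ?_ _
    rcases i with _ | _ | _ | _ | _ | i
    iterate 5 exact mats_lt _ (by decide)
    omega

theorem mat_isom (m : G) (hm : m ∈ F.M) {v : ℕ} (hv : v < 256) : qf (app (H.mat m) v) = qf v := by
  rw [H.app_mat m hv, H.qf_code, ← H.C.q v hv]
  exact F.mod.q_inv _ ⟨m, hm, rfl⟩ _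

theorem mat_inj (m : G) (hm : m ∈ F.M) {u v : ℕ} (hu : u < 256) (hv : v < 256)
    (h : app (H.mat m) u = app (H.mat m) v) : u = v := by
  have e1 := H.mat_mul (inv_mem hm) hm hu
  have e2 := H.mat_mul (inv_mem hm) hm hv
  rw [inv_mul_cancel, H.mat_Q (one_mem _) hu, h, ← e2, inv_mul_cancel, H.mat_Q (one_mem _) hv] at e1
  exact e1

theorem mat_om {m : G} (hm : m ∈ F.M) :
    (∀ v < 256, app (H.mat m) (app OM v) = app OM (app (H.mat m) v)) ∨
      ∀ v < 256, app (H.mat m) (app OM v) = app OM (app OM (app (H.mat m) v)) := by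
  obtain ⟨o, ho, hoπ, hom⟩ := H.word [4] (by simp)
  have hom' : ∀ v < 256, app (H.mat o) v = app OM v := fun v hv => by
    rw [hom v hv, app_wm_cons]; exact congrArg _ (app_idm v hv)
  have hπo : F.π o = (t3, 1) := by rw [hoπ]; exact mul_one _
  have olt : ∀ {v : ℕ}, app OM v < 256 := fun {v} => app_lt (mats_lt OM (by decide)) v
  have mlt : ∀ {v : ℕ}, app (H.mat m) v < 256 := fun {v} => app_lt (H.mat_lt m) v
  have key : ∀ (o' : G), o' ∈ F.M → F.π m * F.π o = F.π o' * F.π m → ∀ v < 256,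
      app (H.mat m) (app OM v) = app (H.mat o') (app (H.mat m) v) := fun o' ho' e v hv => by
    rw [← hom' v hv, ← H.mat_mul hm ho hv, ← H.mat_mul ho' hm hv, H.app_mat _ hv, H.app_mat _ hv,
      F.π_mul' hm ho, F.π_mul' ho' hm, e]
  obtain ⟨h1, h2⟩ := perm3_conj (F.π m).1
  rcases Int.units_eq_one_or (Perm.sign (F.π m).1) with hs | hs
  · refine Or.inl fun v hv => ?_
    rw [key o ho (by rw [hπo]; exact Prod.ext (h1 hs) (by simp)) v hv, hom' _ mlt]
  · refine Or.inr fun v hv => ?_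
    rw [key (o * o) (mul_mem ho ho) (by rw [F.π_mul' ho ho, hπo]; exact Prod.ext (h2 hs) (by simp)) v hv,
      H.mat_mul ho ho mlt, hom' _ mlt, hom' _ olt]

/-- The alternating group normalised: a word pulled through a matrix. -/
theorem mat_word {m : G} (hm : m ∈ F.M) {w : List ℕ} (hw : ∀ i ∈ w, i < 4) :
    ∃ w' : List ℕ, (∀ i ∈ w', i < 4) ∧ ∀ v < 256,
      app (wm w) (app (H.mat m) v) = app (H.mat m) (app (wm w') v) := by
  obtain ⟨n, hn, hnπ, hnm⟩ := H.word w fun i hi => (hw i hi).trans (by omega)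
  have hs : Perm.sign (wp H.b w) = 1 := by
    clear hnπ hnm hw
    induction w with
    | nil => exact map_one _
    | cons i w ih => rw [wp, map_mul, ih, Mod.perm_even, one_mul]
  set σ := (F.π m).2⁻¹ * wp H.b w * (F.π m).2
  have hσ : Perm.sign σ = 1 := by
    rw [map_mul, map_mul, map_inv, hs, mul_one, inv_mul_cancel]
  have hc := pcode_cover H.b σ hσ
  rw [List.contains_iff_mem, List.mem_map] at hc
  obtain ⟨w', hw', e⟩ := hc
  have e' : wp H.b w' = σ := Perm.ext fun i => Fin.ext (by rw [pcode_injective, pcode_injective σ, e])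
  have h4 : ∀ i ∈ w', i < 4 := permWords_lt H.b w' hw'
  obtain ⟨n', hn', hn'π, hn'm⟩ := H.word w' fun i hi => (h4 i hi).trans (by omega)
  refine ⟨w', h4, fun v hv => ?_⟩
  rw [← hn'm v hv, ← hnm _ (app_lt (H.mat_lt m) v), ← H.mat_mul hn hm hv, ← H.mat_mul hm hn' hv,
    H.app_mat _ hv, H.app_mat _ hv, F.π_mul' hn hm, F.π_mul' hm hn', hnπ, hn'π, w36_eq _ _ hw, w36_eq _ _ h4, e']
  congr 2
  refine congrArg _ ?_
  refine Prod.ext (by simp) ?_
  show wp H.b w * (F.π m).2 = (F.π m).2 * ((F.π m).2⁻¹ * wp H.b w * (F.π m).2)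
  group

end Chart

end Frame

end Cfsg.Agent.Invol.ExtraEight
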