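import Cfsg.Agent.Lib.Invol.ExtraEight.Fused
import Mathlib.GroupTheory.Transfer

/-!
# An involution centraliser of shape 2^{1+8} by (C3 x A6) by 2: the contradiction
-/

set_option autoImplicit false
set_option linter.unusedSimpArgs false
set_option linter.unusedSectionVars false
set_option maxRecDepth 100000

namespace Cfsg.Agent.Invol.ExtraEight

open Subgroup Equiv

universe u

theorem three_scalar_cases : ∀ p : Perm (Fin 3), p * p * p = 1 ∧ p ≠ 1 → p = t3 ∨ p = t3 * t3 := by decide +kernel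

theorem three_scalar_central : ∀ p q : Perm (Fin 3), (p * p * p = 1 ∧ p ≠ 1) ∧ q * p = p * q →
    Perm.sign q = 1 ∧ (q = 1 ∨ q = p ∨ q = p * p) := by decide +kernel

theorem three_scalar (p : Perm (Fin 3)) (h3 : p * p * p = 1) (h1 : p ≠ 1) :
    (p = t3 ∨ p = t3 * t3) ∧ ∀ q : Perm (Fin 3), q * p = p * q → Perm.sign q = 1 ∧ (q = 1 ∨ q = p ∨ q = p * p) :=
  ⟨three_scalar_cases p ⟨h3, h1⟩, fun q hq => three_scalar_central p q ⟨⟨h3, h1⟩, hq⟩⟩

theorem alt_perfect : commutator ↥(alternatingGroup (Fin 6)) = ⊤ := by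
  haveI : IsSimpleGroup ↥(alternatingGroup (Fin 6)) := alternatingGroup.isSimpleGroup (by simp)
  refine (IsSimpleGroup.eq_bot_or_eq_top_of_normal _ inferInstance).resolve_left fun h => ?_
  have hd : ∃ a b : Perm (Fin 6), Perm.sign a = 1 ∧ Perm.sign b = 1 ∧ a * b ≠ b * a :=
    ⟨r4, i2, by decide +kernel⟩
  obtain ⟨a, b, ha, hb, hne⟩ := hd
  have hm := Subgroup.commutator_mem_commutator (Subgroup.mem_top (⟨a, Perm.mem_alternatingGroup.2 ha⟩ : ↥(alternatingGroup (Fin 6))))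
    (Subgroup.mem_top (⟨b, Perm.mem_alternatingGroup.2 hb⟩ : ↥(alternatingGroup (Fin 6))))
  rw [← commutator_def, h, Subgroup.mem_bot, commutatorElement_eq_one_iff_commute] at hm
  exact hne (congrArg Subtype.val hm.eq)

theorem dihedral_inj : ∀ k l : Fin 4, ∀ s t : Bool,
    cond s i2 1 * r4 ^ k.val = cond t i2 1 * r4 ^ l.val → k = l ∧ s = t := by decide +kernel

theorem c0_sign : Perm.sign c0 = 1 ∧ c0 ≠ 1 := by decide +kernel

namespace Frame.Chart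

variable {G : Type u} [Group G] [Finite G] {F : Frame G} (H : F.Chart)
include H

theorem cv_inv {x : G} (hx : x ∈ F.Q) : H.cv x⁻¹ = H.cv x := by
  have h := H.cv_mul hx (inv_mem hx)
  rw [mul_inv_cancel, H.cv_one] at h
  calc H.cv x⁻¹ = H.cv x ^^^ (H.cv x ^^^ H.cv x⁻¹) := by rw [← Nat.xor_assoc, Nat.xor_self, Nat.zero_xor]
    _ = H.cv x := by rw [← h, Nat.xor_zero]

theorem app_π {m n : G} (h : F.π m = F.π n) : H.mat m = H.mat n := by rw [← H.rmat_π, h, H.rmat_π]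

theorem app_scalar {τ : G} {p : Perm (Fin 3)} (hπ : F.π τ = (p, 1)) :
    (p = t3 → ∀ v < 256, app (H.mat τ) v = app OM v) ∧
      (p = t3 * t3 → ∀ v < 256, app (H.mat τ) v = app OM (app OM v)) := by
  obtain ⟨o, ho, hoπ, hom⟩ := H.word [4] (by simp)
  have hπo : F.π o = (t3, 1) := by rw [hoπ]; exact mul_one _
  have hom' : ∀ v < 256, app (H.mat o) v = app OM v := fun v hv => by
    rw [hom v hv, app_wm_cons]; exact congrArg _ (app_idm v hv)
  refine ⟨fun e v hv => ?_, fun e v hv => ?_⟩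
  · rw [H.app_π (n := o) (by rw [hπ, hπo, e]), hom' v hv]
  · rw [H.app_π (n := o * o) (by rw [hπ, F.π_mul' ho ho, hπo, e]; rfl), H.mat_mul ho ho hv, hom' v hv,
      hom' _ (app_lt (mats_lt OM (by decide)) v)]

/-- An element of order 3 above the normal subgroup of order 3. -/
def IsScalar (τ : G) : Prop := τ ∈ F.M ∧ τ * τ * τ = 1 ∧ ∃ p, p * p * p = 1 ∧ p ≠ 1 ∧ F.π τ = (p, 1)

theorem scalar_fix {τ : G} (hτ : IsScalar (F := F) τ) {q : G} (hq : q ∈ F.Q) (h : τ * q = q * τ) :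
    q = 1 ∨ q = F.z := by
  obtain ⟨hM, -, p, hp3, hp1, hπ⟩ := hτ
  refine (H.cv_zero_iff hq).1 ?_
  have e : app (H.mat τ) (H.cv q) = H.cv q := by
    rw [← H.cv_conj hM hq, mul_inv_eq_iff_eq_mul.2 h]
  have hf := om_fpf _ (H.cv_lt q)
  rcases (three_scalar p hp3 hp1).1 with e' | e'
  · rw [(H.app_scalar hπ).1 e' _ (H.cv_lt q)] at e
    rw [e, e, Nat.xor_self, Nat.zero_xor] at hf
    exact hf
  · rw [(H.app_scalar hπ).2 e' _ (H.cv_lt q)] at e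
    have h3 := (ms_isom _ (H.cv_lt q)).2.2.2.1
    rw [e] at h3
    rw [h3, h3, Nat.xor_self, Nat.zero_xor] at hf
    exact hf

theorem scalar_solve {τ : G} (hτ : IsScalar (F := F) τ) {v : ℕ} (hv : v < 256) :
    ∃ q ∈ F.Q, app (H.mat τ) (H.cv q) ^^^ H.cv q = v := by
  obtain ⟨hM, -, p, hp3, hp1, hπ⟩ := hτ
  have o3 := (ms_isom v hv).2.2.2.1
  have hf := om_fpf v hv
  have e : app OM (app OM v) ^^^ app OM v = v := by
    calc app OM (app OM v) ^^^ app OM v = app OM (app OM v) ^^^ app OM v ^^^ v ^^^ v := by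
          rw [Nat.xor_assoc _ v v, Nat.xor_self, Nat.xor_zero]
      _ = v := by rw [hf, Nat.zero_xor]
  have olt : ∀ u, app OM u < 256 := fun u => app_lt (mats_lt OM (by decide)) u
  rcases (three_scalar p hp3 hp1).1 with e' | e'
  · obtain ⟨q, hq, hqv⟩ := H.cv_surj (olt v)
    exact ⟨q, hq, by rw [(H.app_scalar hπ).1 e' _ (H.cv_lt q), hqv, e]⟩
  · obtain ⟨q, hq, hqv⟩ := H.cv_surj (olt (app OM v))
    refine ⟨q, hq, ?_⟩
    rw [(H.app_scalar hπ).2 e' _ (H.cv_lt q), hqv, o3, Nat.xor_comm, e]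

theorem no_z {τ : G} (hτ : IsScalar (F := F) τ) {m : G} : m * τ * m⁻¹ ≠ F.z * τ := by
  intro h
  have h3 := hτ.2.1
  have hz := F.mem_M.1 hτ.1
  have : (m * τ * m⁻¹) * (m * τ * m⁻¹) * (m * τ * m⁻¹) = F.z := by
    rw [h]
    calc F.z * τ * (F.z * τ) * (F.z * τ) = F.z * (τ * F.z) * (τ * F.z) * τ := by group
      _ = F.z * F.z * τ * (F.z * τ) * τ := by rw [hz]; group
      _ = τ * F.z * τ * τ := by rw [F.zz]; group
      _ = F.z * (τ * τ * τ) := by rw [hz]; group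
      _ = F.z := by rw [h3, mul_one]
  apply F.z_ne
  rw [← this, show m * τ * m⁻¹ * (m * τ * m⁻¹) * (m * τ * m⁻¹) = m * (τ * τ * τ) * m⁻¹ by group, h3]
  group

theorem eq_of_cv {τ m : G} (hτ : IsScalar (F := F) τ) (hd : m * τ * m⁻¹ * τ⁻¹ ∈ F.Q)
    (h : H.cv (m * τ * m⁻¹ * τ⁻¹) = 0) : m * τ = τ * m := by
  rcases (H.cv_zero_iff hd).1 h with e | e
  · exact mul_inv_eq_iff_eq_mul.1 (mul_inv_eq_one.1 e)
  · exact absurd (mul_inv_eq_iff_eq_mul.1 e) (H.no_z hτ)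

/-- An element of the centraliser modulo `Q` lifts to the centraliser. -/
theorem scalar_lift {τ : G} (hτ : IsScalar (F := F) τ) {m : G} (hm : m ∈ F.M)
    (hc : F.π m * F.π τ = F.π τ * F.π m) : ∃ n ∈ F.M, F.π n = F.π m ∧ n * τ = τ * n := by
  have hM := hτ.1
  have hd : m * τ * m⁻¹ * τ⁻¹ ∈ F.Q := (F.π_iff (mul_mem (mul_mem (mul_mem hm hM) (inv_mem hm)) (inv_mem hM))).1 (by
    rw [F.π_mul' (mul_mem (mul_mem hm hM) (inv_mem hm)) (inv_mem hM), F.π_mul' (mul_mem hm hM) (inv_mem hm),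
      F.π_mul' hm hM, F.π_inv hm, F.π_inv hM, hc, mul_inv_cancel_right, mul_inv_cancel])
  obtain ⟨q, hq, hqv⟩ := H.scalar_solve hτ (H.cv_lt (m * τ * m⁻¹ * τ⁻¹))
  have hqM := F.Q_le hq
  refine ⟨q * m, mul_mem hqM hm, by rw [F.π_mul' hqM hm, (F.π_iff hqM).2 hq, one_mul], ?_⟩
  have e : q * m * τ * (q * m)⁻¹ * τ⁻¹ = q * (m * τ * m⁻¹ * τ⁻¹) * (τ * q⁻¹ * τ⁻¹) := by group
  have h2 : τ * q⁻¹ * τ⁻¹ ∈ F.Q := F.norm' hM (inv_mem hq)
  refine H.eq_of_cv hτ (e ▸ mul_mem (mul_mem hq hd) h2) ?_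
  rw [e, H.cv_mul (mul_mem hq hd) h2, H.cv_mul hq hd, H.cv_conj hM (inv_mem hq), H.cv_inv hq]
  have hg : ∀ a b c : ℕ, a ^^^ b = c → b ^^^ c ^^^ a = 0 := by
    intro a b c h; rw [← h, Nat.xor_comm a b, ← Nat.xor_assoc, Nat.xor_self, Nat.zero_xor, Nat.xor_self]
  exact hg _ _ _ hqv

/-- Moving the scalar. -/
theorem scalar_conj {τ : G} (hτ : IsScalar (F := F) τ) {q : G} (hq : q ∈ F.Q) : IsScalar (F := F) (q * τ * q⁻¹) := by
  obtain ⟨hM, h3, p, hp3, hp1, hπ⟩ := hτ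
  have hqM := F.Q_le hq
  refine ⟨mul_mem (mul_mem hqM hM) (inv_mem hqM), ?_, p, hp3, hp1, ?_⟩
  · rw [show q * τ * q⁻¹ * (q * τ * q⁻¹) * (q * τ * q⁻¹) = q * (τ * τ * τ) * q⁻¹ by group, h3]; group
  · rw [F.π_mul' (mul_mem hqM hM) (inv_mem hqM), F.π_mul' hqM hM, F.π_inv hqM, (F.π_iff hqM).2 hq, hπ]
    simp

theorem scalar_adjust {τ f q : G} (hτ : IsScalar (F := F) τ) (hq : q ∈ F.Q) (hf : f ∈ F.M)
    (hd : f * τ * f⁻¹ * τ⁻¹ ∈ F.Q)
    (hu : app (H.mat f) (H.cv q ^^^ app (H.mat τ) (H.cv q)) ^^^ (H.cv q ^^^ app (H.mat τ) (H.cv q)) =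
      H.cv (f * τ * f⁻¹ * τ⁻¹)) : f * (q * τ * q⁻¹) = q * τ * q⁻¹ * f := by
  have hM := hτ.1
  set s := q * (τ * q⁻¹ * τ⁻¹)
  have hs : s ∈ F.Q := mul_mem hq (F.norm' hM (inv_mem hq))
  have e : f * (q * τ * q⁻¹) * f⁻¹ * (q * τ * q⁻¹)⁻¹ = f * s * f⁻¹ * (f * τ * f⁻¹ * τ⁻¹) * s⁻¹ := by
    simp only [s]; group
  refine H.eq_of_cv (H.scalar_conj hτ hq) (e ▸ mul_mem (mul_mem (F.norm' hf hs) hd) (inv_mem hs)) ?_
  rw [e, H.cv_mul (mul_mem (F.norm' hf hs) hd) (inv_mem hs), H.cv_mul (F.norm' hf hs) hd, H.cv_conj hf hs,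
    H.cv_inv hs, H.cv_mul hq (F.norm' hM (inv_mem hq)), H.cv_conj hM (inv_mem hq), H.cv_inv hq, ← hu]
  generalize app (H.mat f) (H.cv q ^^^ app (H.mat τ) (H.cv q)) = a
  generalize H.cv q ^^^ app (H.mat τ) (H.cv q) = b
  rw [← Nat.xor_assoc, Nat.xor_self, Nat.zero_xor, Nat.xor_self]

/-- A scalar centralising the four-group. -/
theorem exists_scalar {f₁ f₂ : G} (h1 : f₁ * f₁ = 1) (h2 : f₂ * f₂ = 1) (h12 : f₁ * f₂ = f₂ * f₁)
    (hM1 : f₁ ∈ F.M) (hM2 : f₂ ∈ F.M) {r₁ r₂ : List ℕ} (hr1 : r₁ ∈ rWords) (hr2 : r₂ ∈ rWords) (hne : r₁ ≠ r₂)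
    (hπ1 : F.π f₁ = (1, wp H.b r₁)) (hπ2 : F.π f₂ = (1, wp H.b r₂)) :
    ∃ τ, IsScalar (F := F) τ ∧ f₁ * τ = τ * f₁ ∧ f₂ * τ = τ * f₂ := by
  obtain ⟨o, ho, hoπ, -⟩ := H.word [4] (by simp)
  have hπo : F.π o = (t3, 1) := by rw [hoπ]; exact mul_one _
  have ho3 : o ^ 3 ∈ F.Q := (F.π_iff (pow_mem ho 3)).1 (by
    rw [pow_succ, pow_two, F.π_mul' (mul_mem ho ho) ho, F.π_mul' ho ho, hπo]
    decide +kernel)
  have hτ : IsScalar (F := F) (o ^ 4) := by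
    refine ⟨pow_mem ho 4, ?_, t3, by decide +kernel, by decide +kernel, ?_⟩
    · rw [← pow_add, ← pow_add, show 4 + 4 + 4 = 3 * 4 from rfl, pow_mul]; exact Frame.Q_two ho3
    · rw [pow_succ, F.π_mul' (pow_mem ho 3) ho, (F.π_iff (pow_mem ho 3)).2 ho3, one_mul, hπo]
  have hmat : ∀ {f : G} {r : List ℕ}, r ∈ rWords → F.π f = (1, wp H.b r) → ∀ v < 256,
      app (H.mat f) v = app (wm r) v := fun {f r} hr hπ v hv => by
    have h4 := words_lt4 r (by simp [hr])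
    obtain ⟨n, hn, hnπ, hnm⟩ := H.word r fun i hi => (h4 i hi).trans (by omega)
    rw [H.app_π (n := n) (by rw [hπ, hnπ, w36_eq _ _ h4]), hnm v hv]
  have hcomm : ∀ {τ f : G} {c : Perm (Fin 6)}, IsScalar (F := F) τ → f ∈ F.M → F.π f = (1, c) →
      f * τ * f⁻¹ * τ⁻¹ ∈ F.Q := fun {τ f c} hτ hf hπ => by
    obtain ⟨hM, -, p, -, -, hπτ⟩ := hτ
    refine (F.π_iff (mul_mem (mul_mem (mul_mem hf hM) (inv_mem hf)) (inv_mem hM))).1 ?_
    rw [F.π_mul' (mul_mem (mul_mem hf hM) (inv_mem hf)) (inv_mem hM), F.π_mul' (mul_mem hf hM) (inv_mem hf),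
      F.π_mul' hf hM, F.π_inv hf, F.π_inv hM, hπ, hπτ]
    simp
  have hfix : ∀ {τ f : G} {r : List ℕ}, IsScalar (F := F) τ → f ∈ F.M → f * f = 1 → r ∈ rWords →
      F.π f = (1, wp H.b r) → app (wm r) (H.cv (f * τ * f⁻¹ * τ⁻¹)) = H.cv (f * τ * f⁻¹ * τ⁻¹) :=
    fun {τ f r} hτ hf hff hr hπ => by
      have hd := hcomm hτ hf hπ
      rw [← hmat hr hπ _ (H.cv_lt _), ← H.cv_conj hf hd]
      have : f * (f * τ * f⁻¹ * τ⁻¹) * f⁻¹ = (f * τ * f⁻¹ * τ⁻¹)⁻¹ := by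
        calc f * (f * τ * f⁻¹ * τ⁻¹) * f⁻¹ = (f * f) * τ * f⁻¹ * τ⁻¹ * f⁻¹ := by group
          _ = τ * f * τ⁻¹ * f⁻¹ := by
              rw [hff, inv_eq_of_mul_eq_one_right hff]; group
          _ = _ := by group
      rw [this, H.cv_inv hd]
  -- first adjustment
  obtain ⟨u, hu, huv⟩ := (rWords_kernel r₁ hr1).2 _ (H.cv_lt _) (hfix hτ hM1 h1 hr1 hπ1)
  obtain ⟨q, hq, hqv⟩ := H.scalar_solve hτ hu
  have hc1 : f₁ * (q * o ^ 4 * q⁻¹) = q * o ^ 4 * q⁻¹ * f₁ := by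
    refine H.scalar_adjust hτ hq hM1 (hcomm hτ hM1 hπ1) ?_
    rw [Nat.xor_comm (H.cv q), hqv, hmat hr1 hπ1 _ hu, huv]
  set τ₁ := q * o ^ 4 * q⁻¹
  have hτ1 := H.scalar_conj hτ hq
  -- second adjustment
  have hd1 : app (wm r₁) (H.cv (f₂ * τ₁ * f₂⁻¹ * τ₁⁻¹)) = H.cv (f₂ * τ₁ * f₂⁻¹ * τ₁⁻¹) := by
    rw [← hmat hr1 hπ1 _ (H.cv_lt _), ← H.cv_conj hM1 (hcomm hτ1 hM2 hπ2)]
    congr 1
    have a : f₁ * τ₁ * f₁⁻¹ = τ₁ := mul_inv_eq_iff_eq_mul.2 hc1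
    have b : f₁ * f₂ * f₁⁻¹ = f₂ := mul_inv_eq_iff_eq_mul.2 h12
    calc f₁ * (f₂ * τ₁ * f₂⁻¹ * τ₁⁻¹) * f₁⁻¹ =
        (f₁ * f₂ * f₁⁻¹) * (f₁ * τ₁ * f₁⁻¹) * (f₁ * f₂ * f₁⁻¹)⁻¹ * (f₁ * τ₁ * f₁⁻¹)⁻¹ := by group
      _ = _ := by rw [a, b]
  obtain ⟨u2, hu2, hu2f, hu2v⟩ := rWords_kernel_pair r₁ hr1 r₂ hr2 hne _ (H.cv_lt _) hd1
    (hfix hτ1 hM2 h2 hr2 hπ2)
  obtain ⟨q2, hq2, hq2v⟩ := H.scalar_solve hτ1 hu2
  refine ⟨q2 * τ₁ * q2⁻¹, H.scalar_conj hτ1 hq2, ?_, ?_⟩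
  · refine H.scalar_adjust hτ1 hq2 hM1 (hcomm hτ1 hM1 hπ1) ?_
    rw [Nat.xor_comm (H.cv q2), hq2v, hmat hr1 hπ1 _ hu2, hu2f, Nat.xor_self,
      show f₁ * τ₁ * f₁⁻¹ * τ₁⁻¹ = 1 by rw [hc1]; group, H.cv_one]
  · refine H.scalar_adjust hτ1 hq2 hM2 (hcomm hτ1 hM2 hπ2) ?_
    rw [Nat.xor_comm (H.cv q2), hq2v, hmat hr2 hπ2 _ hu2, hu2v]

set_option maxHeartbeats 1000000 in
/-- In the centraliser of a scalar, `z` is outside the derived group, and a fused involution inside. -/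
theorem derived {τ f : G} (hτ : IsScalar (F := F) τ) (hf : f ∈ F.M) (hff : f * f = 1) (hfτ : f * τ = τ * f)
    {c : Perm (Fin 6)} (hπf : F.π f = (1, c)) (hc : Perm.sign c = 1)
    (hcc : ∃ σ : Perm (Fin 6), Perm.sign σ = 1 ∧ σ * c * σ⁻¹ = c0) :
    ∃ A : Subgroup G, F.z ∉ A ∧
      (∀ x y : G, x ∈ F.M → x * τ = τ * x → y ∈ F.M → y * τ = τ * y → x * y * x⁻¹ * y⁻¹ ∈ A) ∧
      (∀ x : G, x ∈ F.M → x * τ = τ * x → (F.π x).1 = 1 → Perm.sign (F.π x).2 = 1 → x ∈ A ∨ x * F.z ∈ A) ∧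
      ∀ (f' : G) (c' : Perm (Fin 6)), f' ∈ A → f' ∈ F.M → F.π f' = (1, c') →
        (∃ σ : Perm (Fin 6), Perm.sign σ = 1 ∧ σ * c' * σ⁻¹ = c0) →
          ∃ d e : G, d ∈ F.M ∧ d * τ = τ * d ∧ d * f' = f' * d ∧ e ∈ F.M ∧ e * τ = τ * e ∧ e * f' = f' * e ∧
            d * e * d⁻¹ * e⁻¹ = f' := by
  classical
  obtain ⟨hτM, hτ3, p, hp3, hp1, hπτ⟩ := id hτ
  have hLc : ∀ {x y : G}, x * τ = τ * x → y * τ = τ * y → x * y * τ = τ * (x * y) := fun {x y} hx hy => by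
    rw [mul_assoc, hy, ← mul_assoc, hx, mul_assoc]
  let L : Subgroup G :=
    { carrier := {x | x ∈ F.M ∧ x * τ = τ * x ∧ (F.π x).1 = 1 ∧ Perm.sign (F.π x).2 = 1}
      one_mem' := ⟨one_mem _, by group, by rw [F.π_one]; rfl, by rw [F.π_one]; exact map_one _⟩
      mul_mem' := fun {x y} hx hy => ⟨mul_mem hx.1 hy.1, hLc hx.2.1 hy.2.1,
        by rw [F.π_mul' hx.1 hy.1, Prod.fst_mul, hx.2.2.1, hy.2.2.1, one_mul],
        by rw [F.π_mul' hx.1 hy.1, Prod.snd_mul, map_mul, hx.2.2.2, hy.2.2.2, one_mul]⟩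
      inv_mem' := fun {x} hx => ⟨inv_mem hx.1, (Commute.inv_left (show Commute x τ from hx.2.1)).eq,
        by rw [F.π_inv hx.1, Prod.fst_inv, hx.2.2.1, inv_one],
        by rw [F.π_inv hx.1, Prod.snd_inv, map_inv, hx.2.2.2, inv_one]⟩ }
  have mL : ∀ {x : G}, x ∈ L ↔ x ∈ F.M ∧ x * τ = τ * x ∧ (F.π x).1 = 1 ∧ Perm.sign (F.π x).2 = 1 := Iff.rfl
  have hzτ : F.z * τ = τ * F.z := (F.mem_M.1 hτM).symm
  have hπz : F.π F.z = 1 := (F.π_iff F.z_M).2 F.z_mem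
  have hzL : F.z ∈ L := mL.2 ⟨F.z_M, hzτ, by rw [hπz]; rfl, by rw [hπz]; exact map_one _⟩
  have hfL : f ∈ L := mL.2 ⟨hf, hfτ, by rw [hπf], by rw [hπf]; exact hc⟩
  let φ : ↥L →* ↥(alternatingGroup (Fin 6)) :=
    MonoidHom.mk' (fun x => ⟨(F.π x).2, Perm.mem_alternatingGroup.2 (mL.1 x.2).2.2.2⟩) fun x y =>
      Subtype.ext (by show (F.π ((x : G) * y)).2 = _; rw [F.π_mul' (mL.1 x.2).1 (mL.1 y.2).1]; rfl)
  have hφsurj : ∀ σ : Perm (Fin 6), Perm.sign σ = 1 → ∃ x, x ∈ L ∧ F.π x = (1, σ) := by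
    intro σ hσ
    obtain ⟨m, hm, hmπ⟩ := F.lift 1 σ (map_one _) hσ
    rw [← F.mem_M] at hm
    obtain ⟨n, hn, hnπ, hnτ⟩ := H.scalar_lift hτ hm (by rw [hmπ, hπτ]; simp)
    exact ⟨n, mL.2 ⟨hn, hnτ, by rw [hnπ, hmπ], by rw [hnπ, hmπ]; exact hσ⟩, hnπ.trans hmπ⟩
  have hker : ∀ x ∈ L, F.π x = 1 → x = 1 ∨ x = F.z := fun x hx h =>
    H.scalar_fix hτ ((F.π_iff (mL.1 hx).1).1 h) (mL.1 hx).2.1.symm
  have hπ1 : ∀ x ∈ L, (F.π x).1 = 1 := fun x hx => (mL.1 hx).2.2.1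
  have hzc : ∀ x ∈ L, x * F.z = F.z * x := fun x hx => F.mem_M.1 (mL.1 hx).1
  have hsame : ∀ x ∈ L, ∀ y ∈ L, F.π x = F.π y → x = y ∨ x = y * F.z := by
    intro x hx y hy e
    rcases hker (y⁻¹ * x) (mul_mem (inv_mem hy) hx) (by
      rw [F.π_mul' (inv_mem (mL.1 hy).1) (mL.1 hx).1, F.π_inv (mL.1 hy).1, e, inv_mul_cancel]) with h | h
    · exact Or.inl (inv_mul_eq_one.1 h).symm
    · exact Or.inr (by rw [← h]; group)
  -- every involution of the image lifts to involutions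
  have hlift : ∀ x ∈ L, (∃ σ : Perm (Fin 6), Perm.sign σ = 1 ∧ σ * (F.π x).2 * σ⁻¹ = c0) → x * x = 1 := by
    intro x hx ⟨σ, hσ, eσ⟩
    obtain ⟨σ', hσ', eσ'⟩ := hcc
    obtain ⟨s, hs, hsπ⟩ := hφsurj (σ⁻¹ * σ') (by rw [map_mul, map_inv, hσ, hσ', inv_one, one_mul])
    have hy : s * f * s⁻¹ ∈ L := mul_mem (mul_mem hs hfL) (inv_mem hs)
    have e : F.π x = F.π (s * f * s⁻¹) := by
      rw [F.π_mul' (mul_mem (mL.1 hs).1 hf) (inv_mem (mL.1 hs).1), F.π_mul' (mL.1 hs).1 hf, F.π_inv (mL.1 hs).1,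
        hsπ, hπf]
      refine Prod.ext (by simp [hπ1 x hx]) ?_
      show (F.π x).2 = σ⁻¹ * σ' * c * (σ⁻¹ * σ')⁻¹
      rw [show σ⁻¹ * σ' * c * (σ⁻¹ * σ')⁻¹ = σ⁻¹ * (σ' * c * σ'⁻¹) * σ by group, eσ', ← eσ]
      group
    rcases hsame x hx _ hy e with rfl | rfl
    · exact sq_one_of_conj hff s
    · calc s * f * s⁻¹ * F.z * (s * f * s⁻¹ * F.z) = s * f * s⁻¹ * (F.z * (s * f * s⁻¹)) * F.z := by group
        _ = (s * f * s⁻¹ * (s * f * s⁻¹)) * (F.z * F.z) := by rw [← hzc _ hy]; group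
        _ = 1 := by rw [sq_one_of_conj hff s, F.zz, mul_one]
  -- a dihedral subgroup missing `z`
  obtain ⟨hs4, hs2, hr4, hi2, hinv, hr1, hr2, hi1, hn1, hn2, hn3, hca, hcb, hcd⟩ := dihedral_props
  obtain ⟨r, hr, hrπ⟩ := hφsurj r4 hs4
  obtain ⟨i, hi, hiπ⟩ := hφsurj i2 hs2
  have hrM := (mL.1 hr).1
  have hiM := (mL.1 hi).1
  have hr4' : r * r * (r * r) = 1 := hlift (r * r) (mul_mem hr hr) (by
    rw [F.π_mul' hrM hrM, hrπ]; exact hca)
  have hii : i * i = 1 := hlift i hi (by rw [hiπ]; exact hcb)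
  have hir : i * r * (i * r) = 1 := hlift (i * r) (mul_mem hi hr) (by
    rw [F.π_mul' hiM hrM, hrπ, hiπ]; exact hcd)
  have hri : r * i = i * r⁻¹ := by
    calc r * i = i * i * (r * i * r) * r⁻¹ := by rw [hii]; group
      _ = i * (i * r * (i * r)) * r⁻¹ := by group
      _ = i * r⁻¹ := by rw [hir, mul_one]
  have hrpow : r ^ 4 = 1 := by rw [show r ^ 4 = r * r * (r * r) by simp [pow_succ, mul_assoc], hr4']
  let D : Subgroup G :=
    { carrier := {x | ∃ k : ℤ, x = r ^ k ∨ x = i * r ^ k}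
      one_mem' := ⟨0, Or.inl (by simp)⟩
      mul_mem' := by
        have hcomm : ∀ k : ℤ, r ^ k * i = i * r ^ (-k) := fun k => by
          have h : SemiconjBy i r⁻¹ r := hri.symm
          rw [← (h.zpow_right k).eq, inv_zpow, zpow_neg]
        rintro x y ⟨k, rfl | rfl⟩ ⟨l, rfl | rfl⟩
        · exact ⟨k + l, Or.inl (zpow_add r k l).symm⟩
        · exact ⟨-k + l, Or.inr (by rw [← mul_assoc, hcomm, mul_assoc, ← zpow_add])⟩
        · exact ⟨k + l, Or.inr (by rw [mul_assoc, ← zpow_add])⟩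
        · exact ⟨-k + l, Or.inl (by rw [mul_assoc i, ← mul_assoc (r ^ k) i, hcomm, ← mul_assoc, ← mul_assoc, hii, one_mul,
            ← zpow_add])⟩
      inv_mem' := by
        have hcomm : ∀ k : ℤ, r ^ k * i = i * r ^ (-k) := fun k => by
          have h : SemiconjBy i r⁻¹ r := hri.symm
          rw [← (h.zpow_right k).eq, inv_zpow, zpow_neg]
        rintro x ⟨k, rfl | rfl⟩
        · exact ⟨-k, Or.inl (zpow_neg r k).symm⟩
        · exact ⟨k, Or.inr (by rw [mul_inv_rev, inv_eq_of_mul_eq_one_right hii, ← zpow_neg, hcomm, neg_neg])⟩ }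
  have hred : ∀ {x : G}, x ∈ D → ∃ (k : Fin 4) (s : Bool), x = cond s i 1 * r ^ k.val := by
    rintro x ⟨k, hk⟩
    have h4 : r ^ k = r ^ (k % 4).toNat := by
      rw [← zpow_natCast, Int.toNat_of_nonneg (Int.emod_nonneg k (by norm_num))]
      conv_lhs => rw [← Int.emod_add_mul_ediv k 4, zpow_add, zpow_mul,
        show r ^ (4 : ℤ) = 1 by rw [show (4 : ℤ) = ((4 : ℕ) : ℤ) from rfl, zpow_natCast, hrpow], one_zpow, mul_one]
    have hlt : (k % 4).toNat < 4 := by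
      have := Int.emod_lt_of_pos k (show (0 : ℤ) < 4 by norm_num)
      have := Int.emod_nonneg k (show (4 : ℤ) ≠ 0 by norm_num)
      omega
    rcases hk with rfl | rfl
    · exact ⟨⟨_, hlt⟩, false, by rw [h4]; simp⟩
    · exact ⟨⟨_, hlt⟩, true, by rw [h4]; rfl⟩
  have hπD : ∀ (k : Fin 4) (s : Bool), (cond s i 1 * r ^ k.val ∈ L) ∧ (F.π (cond s i 1 * r ^ k.val)).2 =
      cond s i2 1 * r4 ^ k.val := by
    intro k s
    have hk : r ^ k.val ∈ L ∧ (F.π (r ^ k.val)).2 = r4 ^ k.val := by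
      refine ⟨pow_mem hr _, ?_⟩
      induction k.val with
      | zero => simp [F.π_one]
      | succ n ih => rw [pow_succ, pow_succ, F.π_mul' (pow_mem hrM n) hrM, Prod.snd_mul, ih, hrπ]
    cases s
    · exact ⟨by simpa using hk.1, by simpa using hk.2⟩
    · exact ⟨mul_mem hi hk.1, by
        show (F.π (i * r ^ k.val)).2 = i2 * _
        rw [F.π_mul' hiM (mL.1 hk.1).1, Prod.snd_mul, hiπ, hk.2]⟩
  have hzD : F.z ∉ D := fun h => by
    obtain ⟨k, s, e⟩ := hred h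
    have h1 := (hπD k s).2
    rw [← e, hπz] at h1
    obtain ⟨rfl, rfl⟩ := dihedral_inj k 0 s false (by simpa using h1.symm)
    simp at e
    exact F.z_ne e
  have hDL : D ≤ L := fun x hx => by
    obtain ⟨k, s, rfl⟩ := hred hx
    exact (hπD k s).1
  let T : Subgroup G :=
    { carrier := {x | x ∈ D ∨ x * F.z ∈ D}
      one_mem' := Or.inl (one_mem _)
      mul_mem' := fun {x y} hx hy => by
        rcases hx with hx | hx <;> rcases hy with hy | hy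
        · exact Or.inl (mul_mem hx hy)
        · exact Or.inr (by rw [mul_assoc]; exact mul_mem hx hy)
        · right
          have := hzc y (hDL hy)
          rw [show x * y * F.z = x * F.z * y by rw [mul_assoc, this, mul_assoc]]
          exact mul_mem hx hy
        · left
          have hyL : y ∈ L := by simpa using mul_mem (hDL hy) (inv_mem hzL)
          have e : x * F.z * (y * F.z) = x * y := by
            calc x * F.z * (y * F.z) = x * (F.z * y) * F.z := by group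
              _ = x * y * (F.z * F.z) := by rw [← hzc y hyL]; group
              _ = x * y := by rw [F.zz, mul_one]
          rw [← e]; exact mul_mem hx hy
      inv_mem' := fun {x} hx => by
        rcases hx with hx | hx
        · exact Or.inl (inv_mem hx)
        · right
          have hxL : x ∈ L := by simpa using mul_mem (hDL hx) (inv_mem hzL)
          have e : x⁻¹ * F.z = (x * F.z)⁻¹ := by
            rw [mul_inv_rev, F.z_inv, hzc x⁻¹ (inv_mem hxL)]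
          rw [e]; exact inv_mem hx }
  have hTL : T ≤ L := fun x hx => by
    rcases hx with hx | hx
    · exact hDL hx
    · simpa using mul_mem (hDL hx) (inv_mem hzL)
  have hflip : ∀ {x : G}, x ∈ T → x ∉ D → x * F.z ∈ D := fun hx h => hx.resolve_left h
  let χ : ↥(T.subgroupOf L) →* ℤˣ := MonoidHom.mk' (fun x => if ((x : ↥L) : G) ∈ D then 1 else -1) (by
    rintro ⟨⟨x, hxL⟩, hx⟩ ⟨⟨y, hyL⟩, hy⟩
    rw [mem_subgroupOf] at hx hy
    show (if x * y ∈ D then (1 : ℤˣ) else -1) = (if x ∈ D then 1 else -1) * (if y ∈ D then 1 else -1)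
    by_cases a : x ∈ D <;> by_cases b : y ∈ D
    · simp [a, b, mul_mem a b]
    · have : x * y ∉ D := fun h => b (by simpa using mul_mem (inv_mem a) h)
      simp [a, b, this]
    · have : x * y ∉ D := fun h => a (by simpa using mul_mem h (inv_mem b))
      simp [a, b, this]
    · have e : x * F.z * (y * F.z) = x * y := by
        calc x * F.z * (y * F.z) = x * (F.z * y) * F.z := by group
          _ = x * y * (F.z * F.z) := by rw [← hzc y hyL]; group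
          _ = x * y := by rw [F.zz, mul_one]
      have : x * y ∈ D := e ▸ mul_mem (hflip hx a) (hflip hy b)
      simp [a, b, this])
  -- the orders
  have hcardL : Nat.card ↥L = 720 := by
    have hs : Function.Surjective φ := fun σ => by
      obtain ⟨x, hx, hxπ⟩ := hφsurj σ (Perm.mem_alternatingGroup.1 σ.2)
      exact ⟨⟨x, hx⟩, Subtype.ext (by show (F.π x).2 = _; rw [hxπ])⟩
    have hk : φ.ker = (zpowers F.z).subgroupOf L := by
      ext x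
      rw [MonoidHom.mem_ker, mem_subgroupOf]
      refine ⟨fun h => ?_, fun h => ?_⟩
      · have h2 : (F.π x).2 = 1 := congrArg Subtype.val h
        rcases hker x x.2 (Prod.ext (hπ1 x x.2) h2) with e | e <;> rw [e]
        · exact one_mem _
        · exact mem_zpowers _
      · refine Subtype.ext ?_
        show (F.π x).2 = 1
        rcases F.z_zpowers h with e | e <;> rw [e]
        · rw [F.π_one]; rfl
        · rw [hπz]; rfl
    have h := φ.ker.card_mul_index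
    rw [index_ker, MonoidHom.range_eq_top.2 hs, card_top, card_alt6, hk,
      Nat.card_congr (subgroupOfEquivOfLe (zpowers_le.2 hzL)).toEquiv, F.card_z] at h
    omega
  have hcardT : 16 ∣ Nat.card ↥T := by
    have hbij : Function.Bijective (fun a : Fin 4 × Bool × Bool =>
        (⟨cond a.2.1 i 1 * r ^ a.1.val * cond a.2.2 F.z 1, by
          have hD : cond a.2.1 i 1 * r ^ a.1.val ∈ D :=
            ⟨a.1.val, by cases a.2.1 <;> simp [zpow_natCast]⟩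
          cases a.2.2
          · exact Or.inl (by simpa using hD)
          · exact Or.inr (by simpa [mul_assoc, F.zz] using hD)⟩ : ↥T)) := by
      refine ⟨fun a b e => ?_, fun x => ?_⟩
      · have e' : cond a.2.1 i 1 * r ^ a.1.val * cond a.2.2 F.z 1 =
            cond b.2.1 i 1 * r ^ b.1.val * cond b.2.2 F.z 1 := congrArg Subtype.val e
        have key : ∀ (k : Fin 4) (s t : Bool), (F.π (cond s i 1 * r ^ k.val * cond t F.z 1)).2 =
            cond s i2 1 * r4 ^ k.val := fun k s t => by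
          cases t
          · simpa using (hπD k s).2
          · show (F.π (cond s i 1 * r ^ k.val * F.z)).2 = _
            rw [F.π_mul' (mL.1 (hπD k s).1).1 F.z_M, hπz, mul_one, (hπD k s).2]
        obtain ⟨e1, e2⟩ := dihedral_inj a.1 b.1 a.2.1 b.2.1
          ((key a.1 a.2.1 a.2.2).symm.trans ((congrArg (fun t => (F.π t).2) e').trans (key b.1 b.2.1 b.2.2)))
        rw [e1, e2, mul_left_cancel_iff] at e'
        have e3 : a.2.2 = b.2.2 := by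
          revert e'
          cases a.2.2 <;> cases b.2.2 <;> simp [F.z_ne, Ne.symm F.z_ne]
        exact Prod.ext e1 (Prod.ext e2 e3)
      · rcases x.2 with hx | hx
        · obtain ⟨k, s, e⟩ := hred hx
          exact ⟨(k, s, false), Subtype.ext (by simp [e])⟩
        · obtain ⟨k, s, e⟩ := hred hx
          exact ⟨(k, s, true), Subtype.ext (by
            show cond s i 1 * r ^ k.val * F.z = (x : G)
            rw [← e, mul_assoc, F.zz, mul_one])⟩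
    rw [← Nat.card_eq_of_bijective _ hbij]
    simp
  have hidx : Odd (T.subgroupOf L).index := by
    have h := (T.subgroupOf L).card_mul_index
    rw [Nat.card_congr (subgroupOfEquivOfLe hTL).toEquiv, hcardL] at h
    obtain ⟨k, hk⟩ := hcardT
    rw [hk] at h
    rw [← Nat.not_even_iff_odd]
    rintro ⟨j, hj⟩
    rw [hj] at h
    have : 16 * k * (j + j) = 32 * (k * j) := by ring
    omega
  -- the transfer
  let ψ : ↥L →* ℤˣ := MonoidHom.transfer χ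
  have hψz : ψ ⟨F.z, hzL⟩ = -1 := by
    have hpw : ∀ k : ℕ, ∀ g₀ : ↥L, g₀⁻¹ * (⟨F.z, hzL⟩ : ↥L) ^ k * g₀ = (⟨F.z, hzL⟩ : ↥L) ^ k := fun k g₀ => by
      have h : Commute g₀ (⟨F.z, hzL⟩ : ↥L) := Subtype.ext (hzc g₀ g₀.2)
      rw [mul_assoc, ← (h.pow_right k).eq, ← mul_assoc, inv_mul_cancel, one_mul]
    obtain ⟨j, hj⟩ := hidx
    have hmem : ((⟨F.z, hzL⟩ : ↥L) ^ (T.subgroupOf L).index : ↥L) = ⟨F.z, hzL⟩ := by
      rw [hj, pow_succ, pow_mul, show (⟨F.z, hzL⟩ : ↥L) ^ 2 = 1 from Subtype.ext (by push_cast; rw [pow_two, F.zz]),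
        one_pow, one_mul]
    refine (MonoidHom.transfer_eq_pow χ _ fun k g₀ _ => hpw k g₀).trans ?_
    show (if (((⟨F.z, hzL⟩ : ↥L) ^ _ : ↥L) : G) ∈ D then (1 : ℤˣ) else -1) = -1
    rw [hmem, if_neg hzD]
  let A : Subgroup G := ψ.ker.map L.subtype
  have hA : ∀ {x : G} (hx : x ∈ L), x ∈ A ↔ ψ ⟨x, hx⟩ = 1 := fun {x} hx => by
    refine ⟨?_, fun h => ⟨⟨x, hx⟩, h, rfl⟩⟩
    rintro ⟨y, hy, rfl⟩
    exact hy
  have hAL : A ≤ L := map_subtype_le _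
  have hzA : F.z ∉ A := fun h => by
    rw [hA hzL, hψz] at h
    exact absurd h (by decide)
  have hsplit : ∀ x ∈ L, x ∈ A ∨ x * F.z ∈ A := by
    intro x hx
    rcases Int.units_eq_one_or (ψ ⟨x, hx⟩) with e | e
    · exact Or.inl ((hA hx).2 e)
    · refine Or.inr ((hA (mul_mem hx hzL)).2 ?_)
      show ψ (⟨x, hx⟩ * ⟨F.z, hzL⟩) = 1
      rw [map_mul, hψz, e]; rfl
  -- the kernel is perfect
  let φA : ↥ψ.ker →* ↥(alternatingGroup (Fin 6)) := φ.comp ψ.ker.subtype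
  have hbijA : Function.Bijective φA := by
    refine ⟨fun x y e => ?_, fun σ => ?_⟩
    · rcases hsame x.1 x.1.2 y.1 y.1.2 (Prod.ext ((hπ1 _ x.1.2).trans (hπ1 _ y.1.2).symm) (congrArg Subtype.val e)) with h | h
      · exact Subtype.ext (Subtype.ext h)
      · exfalso
        have h' : (x : ↥L) = (y : ↥L) * ⟨F.z, hzL⟩ := Subtype.ext h
        have hx := x.2
        rw [MonoidHom.mem_ker, h', map_mul, y.2, one_mul, hψz] at hx
        exact absurd hx (by decide)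
    · obtain ⟨x, hx, hxπ⟩ := hφsurj σ (Perm.mem_alternatingGroup.1 σ.2)
      rcases hsplit x hx with h | h
      · exact ⟨⟨⟨x, hx⟩, (hA hx).1 h⟩, Subtype.ext (by show (F.π x).2 = _; rw [hxπ])⟩
      · exact ⟨⟨⟨_, mul_mem hx hzL⟩, (hA (mul_mem hx hzL)).1 h⟩, Subtype.ext (by
          show (F.π (x * F.z)).2 = _; rw [F.π_mul' (mL.1 hx).1 F.z_M, hπz, mul_one, hxπ])⟩
  have hperf : ∀ θ : ↥ψ.ker →* ℤˣ, ∀ a, θ a = 1 := by
    intro θ a
    let e := MulEquiv.ofBijective φA hbijA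
    have h : commutator ↥(alternatingGroup (Fin 6)) ≤ (θ.comp e.symm.toMonoidHom).ker := by
      rw [commutator_def, Subgroup.commutator_le]
      intro x _ y _
      rw [MonoidHom.mem_ker, map_commutatorElement, commutatorElement_eq_one_iff_commute]
      exact Commute.all _ _
    rw [alt_perfect] at h
    have := h (mem_top (e a))
    rw [MonoidHom.mem_ker, MonoidHom.comp_apply] at this
    simpa using this
  -- invariance under the centraliser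
  have hconjL : ∀ {n x : G}, n ∈ F.M → n * τ = τ * n → x ∈ L → n * x * n⁻¹ ∈ L := by
    intro n x hn hnτ hx
    refine mL.2 ⟨mul_mem (mul_mem hn (mL.1 hx).1) (inv_mem hn), hLc (hLc hnτ (mL.1 hx).2.1)
      (Commute.inv_left (show Commute n τ from hnτ)).eq, ?_, ?_⟩
    · rw [F.π_mul' (mul_mem hn (mL.1 hx).1) (inv_mem hn), F.π_mul' hn (mL.1 hx).1, F.π_inv hn, Prod.fst_mul,
        Prod.fst_mul, Prod.fst_inv, hπ1 x hx, mul_one, mul_inv_cancel]
    · rw [F.π_mul' (mul_mem hn (mL.1 hx).1) (inv_mem hn), F.π_mul' hn (mL.1 hx).1, F.π_inv hn, Prod.snd_mul,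
        Prod.snd_mul, Prod.snd_inv, map_mul, map_mul, map_inv, (mL.1 hx).2.2.2, mul_one, mul_inv_cancel]
  have hψinv : ∀ {n x : G} (hn : n ∈ F.M) (hnτ : n * τ = τ * n) (hx : x ∈ L),
      ψ ⟨n * x * n⁻¹, hconjL hn hnτ hx⟩ = ψ ⟨x, hx⟩ := by
    intro n x hn hnτ hx
    let θ : ↥ψ.ker →* ℤˣ := MonoidHom.mk' (fun a => ψ ⟨n * (a : ↥L) * n⁻¹, hconjL hn hnτ a.1.2⟩) fun a b => by
      rw [← map_mul]
      congr 1
      exact Subtype.ext (by push_cast; group)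
    rcases hsplit x hx with h | h
    · rw [(hA hx).1 h]
      exact hperf θ ⟨⟨x, hx⟩, (hA hx).1 h⟩
    · have h1 := hperf θ ⟨⟨x * F.z, mul_mem hx hzL⟩, (hA _).1 h⟩
      change ψ ⟨n * (x * F.z) * n⁻¹, _⟩ = 1 at h1
      have h2 : ψ ⟨x * F.z, mul_mem hx hzL⟩ = 1 := (hA _).1 h
      have e : (⟨n * (x * F.z) * n⁻¹, hconjL hn hnτ (mul_mem hx hzL)⟩ : ↥L) =
          ⟨n * x * n⁻¹, hconjL hn hnτ hx⟩ * ⟨F.z, hzL⟩ := Subtype.ext (by
        show n * (x * F.z) * n⁻¹ = n * x * n⁻¹ * F.z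
        rw [mul_assoc (n * x), F.mem_M.1 (inv_mem hn)]; group)
      rw [e, map_mul] at h1
      rw [show (⟨x * F.z, mul_mem hx hzL⟩ : ↥L) = ⟨x, hx⟩ * ⟨F.z, hzL⟩ from rfl, map_mul] at h2
      exact mul_right_cancel (h1.trans h2.symm)
  have hcomL : ∀ {x y : G}, x ∈ F.M → x * τ = τ * x → y ∈ F.M → y * τ = τ * y → x * y * x⁻¹ * y⁻¹ ∈ L := by
    intro x y hx hxτ hy hyτ
    have a : ∀ {w : G}, w ∈ F.M → w * τ = τ * w → (F.π w).1 = 1 ∨ (F.π w).1 = p ∨ (F.π w).1 = p * p := by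
      intro w hw hwτ
      refine ((three_scalar p hp3 hp1).2 _ ?_).2
      have := congrArg (fun t => (F.π t).1) hwτ
      simpa [F.π_mul' hw hτM, F.π_mul' hτM hw, hπτ] using this
    have hcomm : (F.π x).1 * (F.π y).1 = (F.π y).1 * (F.π x).1 := by
      rcases a hx hxτ with e | e | e <;> rcases a hy hyτ with e' | e' | e' <;> rw [e, e'] <;> group
    refine mL.2 ⟨mul_mem (mul_mem (mul_mem hx hy) (inv_mem hx)) (inv_mem hy),
      hLc (hLc (hLc hxτ hyτ) (Commute.inv_left (show Commute x τ from hxτ)).eq) (Commute.inv_left (show Commute y τ from hyτ)).eq, ?_, ?_⟩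
    · rw [F.π_mul' (mul_mem (mul_mem hx hy) (inv_mem hx)) (inv_mem hy), F.π_mul' (mul_mem hx hy) (inv_mem hx),
        F.π_mul' hx hy, F.π_inv hx, F.π_inv hy, Prod.fst_mul, Prod.fst_mul, Prod.fst_mul, Prod.fst_inv, Prod.fst_inv,
        hcomm]
      group
    · rw [F.π_mul' (mul_mem (mul_mem hx hy) (inv_mem hx)) (inv_mem hy), F.π_mul' (mul_mem hx hy) (inv_mem hx),
        F.π_mul' hx hy, F.π_inv hx, F.π_inv hy, Prod.snd_mul, Prod.snd_mul, Prod.snd_mul, Prod.snd_inv, Prod.snd_inv,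
        map_mul, map_mul, map_mul, map_inv, map_inv, mul_inv_eq_one, mul_inv_eq_iff_eq_mul, mul_comm]
  let cc : (x y : G) → x ∈ F.M → x * τ = τ * x → y ∈ F.M → y * τ = τ * y → ℤˣ :=
    fun x y a b c d => ψ ⟨_, hcomL a b c d⟩
  have ccmul : ∀ {x x' y : G} (a : x ∈ F.M) (b : x * τ = τ * x) (a' : x' ∈ F.M) (b' : x' * τ = τ * x')
      (c : y ∈ F.M) (d : y * τ = τ * y), cc (x * x') y (mul_mem a a') (hLc b b') c d =
        cc x' y a' b' c d * cc x y a b c d := by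
    intro x x' y a b a' b' c d
    show ψ _ = ψ _ * ψ _
    rw [← hψinv a b (hcomL a' b' c d), ← map_mul]
    congr 1
    exact Subtype.ext (by push_cast; group)
  have ccL : ∀ {x y : G} (hx : x ∈ L) (c : y ∈ F.M) (d : y * τ = τ * y),
      cc x y (mL.1 hx).1 (mL.1 hx).2.1 c d = 1 := by
    intro x y hx c d
    show ψ _ = 1
    have e : (⟨x * y * x⁻¹ * y⁻¹, hcomL (mL.1 hx).1 (mL.1 hx).2.1 c d⟩ : ↥L) =
        ⟨x, hx⟩ * ⟨y * x⁻¹ * y⁻¹, hconjL c d (inv_mem hx)⟩ := Subtype.ext (by push_cast; group)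
    rw [e, map_mul, hψinv c d (inv_mem hx), ← map_mul]
    convert map_one ψ
    exact Subtype.ext (mul_inv_cancel x)
  have hττ : τ * τ = τ * τ := rfl
  have ccτ : ∀ {y : G} (c : y ∈ F.M) (d : y * τ = τ * y), cc τ y hτM hττ c d = 1 := by
    intro y c d
    show ψ _ = 1
    rw [show (⟨τ * y * τ⁻¹ * y⁻¹, hcomL hτM hττ c d⟩ : ↥L) = 1 from
      Subtype.ext (by show τ * y * τ⁻¹ * y⁻¹ = 1; rw [← d]; group), map_one]
  have cceven : ∀ {x y : G} (a : x ∈ F.M) (b : x * τ = τ * x), Perm.sign (F.π x).2 = 1 →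
      ∀ (c : y ∈ F.M) (d : y * τ = τ * y), cc x y a b c d = 1 := by
    intro x y a b hs c d
    have h3 : (F.π x).1 = 1 ∨ (F.π x).1 = p ∨ (F.π x).1 = p * p := by
      refine ((three_scalar p hp3 hp1).2 _ ?_).2
      have := congrArg (fun t => (F.π t).1) b
      simpa [F.π_mul' a hτM, F.π_mul' hτM a, hπτ] using this
    have hττ2 : τ * τ * τ = τ * (τ * τ) := mul_assoc _ _ _
    have hiτ : τ⁻¹ * τ = τ * τ⁻¹ := by group
    rcases h3 with e | e | e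
    · exact ccL (mL.2 ⟨a, b, e, hs⟩) c d
    · have hb' : τ⁻¹ * x * τ = τ * (τ⁻¹ * x) := hLc hiτ b
      have hL' : τ⁻¹ * x ∈ L := mL.2 ⟨mul_mem (inv_mem hτM) a, hb', by
        rw [F.π_mul' (inv_mem hτM) a, F.π_inv hτM, Prod.fst_mul, Prod.fst_inv, hπτ, e, inv_mul_cancel], by
        rw [F.π_mul' (inv_mem hτM) a, F.π_inv hτM, Prod.snd_mul, Prod.snd_inv, hπτ, inv_one, one_mul]; exact hs⟩
      have := ccmul hτM hττ (mul_mem (inv_mem hτM) a) hb' c d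
      rw [ccτ c d, ccL hL' c d, one_mul] at this
      simpa only [mul_inv_cancel_left] using this
    · have hb' : τ * x * τ = τ * (τ * x) := hLc hττ b
      have hL' : τ * x ∈ L := mL.2 ⟨mul_mem hτM a, hb', by
        rw [F.π_mul' hτM a, Prod.fst_mul, hπτ, e, ← mul_assoc, hp3], by
        rw [F.π_mul' hτM a, Prod.snd_mul, hπτ, one_mul]; exact hs⟩
      have := ccmul hτM hττ a b c d
      rw [ccτ c d, mul_one] at this
      rw [← this]
      exact ccL hL' c d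
  have hder : ∀ x y : G, x ∈ F.M → x * τ = τ * x → y ∈ F.M → y * τ = τ * y → x * y * x⁻¹ * y⁻¹ ∈ A := by
    intro x y a b c d
    rw [hA (hcomL a b c d)]
    show cc x y a b c d = 1
    rcases Int.units_eq_one_or (Perm.sign (F.π x).2) with hs | hs
    · exact cceven a b hs c d
    rcases Int.units_eq_one_or (Perm.sign (F.π y).2) with hs' | hs'
    · have h := cceven (y := x) c d hs' a b
      show ψ _ = 1
      have e : (⟨x * y * x⁻¹ * y⁻¹, hcomL a b c d⟩ : ↥L) = (⟨y * x * y⁻¹ * x⁻¹, hcomL c d a b⟩ : ↥L)⁻¹ :=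
        Subtype.ext (by push_cast; group)
      rw [e, map_inv, show ψ ⟨y * x * y⁻¹ * x⁻¹, hcomL c d a b⟩ = 1 from h, inv_one]
    · have e1 := ccmul (mul_mem a (inv_mem c)) (hLc b (Commute.inv_left (show Commute y τ from d)).eq) c d c d
      rw [cceven (mul_mem a (inv_mem c)) (hLc b (Commute.inv_left (show Commute y τ from d)).eq) (by
        rw [F.π_mul' a (inv_mem c), F.π_inv c, Prod.snd_mul, Prod.snd_inv, map_mul, map_inv, hs, hs']; rfl) c d,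
        show cc y y c d c d = 1 from by
          show ψ _ = 1
          rw [show (⟨y * y * y⁻¹ * y⁻¹, hcomL c d c d⟩ : ↥L) = 1 from
            Subtype.ext (by show y * y * y⁻¹ * y⁻¹ = 1; group), map_one]] at e1
      simpa only [inv_mul_cancel_right, one_mul] using e1
  refine ⟨A, hzA, hder, fun x a b c d => hsplit x (mL.2 ⟨a, b, c, d⟩), fun f' c' hfA hf' hπf' hcc' => ?_⟩
  -- the fused involution is a commutator in the centraliser
  obtain ⟨d0, e0, hd0, he0, hdc, hec, hde⟩ := c0_commutator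
  obtain ⟨σ, hσ, eσ⟩ := hcc'
  have conjc : ∀ {w : Perm (Fin 6)}, w * c0 = c0 * w → σ⁻¹ * w * σ * c' = c' * (σ⁻¹ * w * σ) := fun {w} hw => by
    have ec : c' = σ⁻¹ * c0 * σ := by rw [← eσ]; group
    rw [ec]
    calc σ⁻¹ * w * σ * (σ⁻¹ * c0 * σ) = σ⁻¹ * (w * c0) * σ := by group
      _ = _ := by rw [hw]; group
  have getA : ∀ w : Perm (Fin 6), Perm.sign w = 1 → ∃ x, x ∈ A ∧ F.π x = (1, w) := fun w hw => by
    obtain ⟨x, hx, hxπ⟩ := hφsurj w hw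
    rcases hsplit x hx with h | h
    · exact ⟨x, h, hxπ⟩
    · exact ⟨_, h, by rw [F.π_mul' (mL.1 hx).1 F.z_M, hπz, mul_one, hxπ]⟩
  have uniqA : ∀ x ∈ A, ∀ y ∈ A, F.π x = F.π y → x = y := fun x hx y hy e => by
    rcases hsame x (hAL hx) y (hAL hy) e with h | h
    · exact h
    · exact absurd (by simpa [h] using mul_mem (inv_mem hy) hx) hzA
  have commA : ∀ x ∈ A, F.π x * F.π f' = F.π f' * F.π x → x * f' = f' * x := fun x hx e =>
    uniqA _ (mul_mem hx hfA) _ (mul_mem hfA hx) (by rw [F.π_mul' (mL.1 (hAL hx)).1 hf', F.π_mul' hf' (mL.1 (hAL hx)).1, e])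
  have sgn : ∀ {w : Perm (Fin 6)}, Perm.sign w = 1 → Perm.sign (σ⁻¹ * w * σ) = 1 := fun {w} hw => by
    rw [map_mul, map_mul, map_inv, hσ, hw, inv_one, one_mul, one_mul]
  obtain ⟨d, hd, hdπ⟩ := getA _ (sgn hd0)
  obtain ⟨e, he, heπ⟩ := getA _ (sgn he0)
  have hdL := mL.1 (hAL hd)
  have heL := mL.1 (hAL he)
  refine ⟨d, e, hdL.1, hdL.2.1, commA d hd (by rw [hdπ, hπf']; exact Prod.ext rfl (conjc hdc)), heL.1, heL.2.1,
    commA e he (by rw [heπ, hπf']; exact Prod.ext rfl (conjc hec)),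
    uniqA _ (mul_mem (mul_mem (mul_mem hd he) (inv_mem hd)) (inv_mem he)) _ hfA ?_⟩
  rw [F.π_mul' (mul_mem (mul_mem hdL.1 heL.1) (inv_mem hdL.1)) (inv_mem heL.1),
    F.π_mul' (mul_mem hdL.1 heL.1) (inv_mem hdL.1), F.π_mul' hdL.1 heL.1, F.π_inv hdL.1, F.π_inv heL.1, hdπ, heπ, hπf']
  refine Prod.ext (by simp) ?_
  show σ⁻¹ * d0 * σ * (σ⁻¹ * e0 * σ) * (σ⁻¹ * d0 * σ)⁻¹ * (σ⁻¹ * e0 * σ)⁻¹ = c'
  calc _ = σ⁻¹ * (d0 * e0 * d0⁻¹ * e0⁻¹) * σ := by group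
    _ = c' := by rw [hde, ← eσ]; group

theorem contradiction (p : F.Pair) : False := by
  obtain ⟨f₁, f₂, h1, h2, h12, hall⟩ := H.exists_four p
  obtain ⟨hM1, ⟨r₁, hr1, hπ1⟩, -⟩ := hall f₁ (Or.inl rfl)
  obtain ⟨hM2, ⟨r₂, hr2, hπ2⟩, -⟩ := hall f₂ (Or.inr (Or.inl rfl))
  obtain ⟨-, ⟨r₃, hr3, hπ3⟩, -⟩ := hall _ (Or.inr (Or.inr rfl))
  have hne : r₁ ≠ r₂ := fun e => by
    rw [F.π_mul' hM1 hM2, hπ1, hπ2, ← e, Prod.mk_mul_mk, one_mul, (rWords_props H.b r₁ hr1).2.1] at hπ3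
    exact (rWords_props H.b r₃ hr3).2.2.1 (congrArg Prod.snd hπ3).symm
  obtain ⟨τ, hτ, hc1, hc2⟩ := H.exists_scalar h1 h2 h12 hM1 hM2 hr1 hr2 hne hπ1 hπ2
  obtain ⟨A, hzA, -, hsplit, hcommA⟩ := H.derived hτ hM1 h1 hc1 hπ1 (rWords_props H.b r₁ hr1).1
    (rWords_props H.b r₁ hr1).2.2.2.2
  have h33 : f₁ * f₂ * (f₁ * f₂) = 1 := by
    calc f₁ * f₂ * (f₁ * f₂) = f₁ * (f₂ * f₁) * f₂ := by group
      _ = (f₁ * f₁) * (f₂ * f₂) := by rw [← h12]; group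
      _ = 1 := by rw [h1, h2, one_mul]
  have h3τ : f₁ * f₂ * τ = τ * (f₁ * f₂) := by rw [mul_assoc, hc2, ← mul_assoc, hc1, mul_assoc]
  -- a member of the four-group inside the derived group
  obtain ⟨f, hf, hff, hfτ, hfA⟩ : ∃ f, (f = f₁ ∨ f = f₂ ∨ f = f₁ * f₂) ∧ f * f = 1 ∧ f * τ = τ * f ∧ f ∈ A := by
    rcases hsplit f₁ hM1 hc1 (by rw [hπ1]) (by rw [hπ1]; exact (rWords_props H.b r₁ hr1).1) with a | a
    · exact ⟨f₁, Or.inl rfl, h1, hc1, a⟩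
    rcases hsplit f₂ hM2 hc2 (by rw [hπ2]) (by rw [hπ2]; exact (rWords_props H.b r₂ hr2).1) with b | b
    · exact ⟨f₂, Or.inr (Or.inl rfl), h2, hc2, b⟩
    refine ⟨f₁ * f₂, Or.inr (Or.inr rfl), h33, h3τ, ?_⟩
    have e : f₁ * f₂ = f₁ * F.z * (f₂ * F.z) := by
      calc f₁ * f₂ = f₁ * f₂ * (F.z * F.z) := by rw [F.zz, mul_one]
        _ = f₁ * (f₂ * F.z) * F.z := by group
        _ = f₁ * (F.z * f₂) * F.z := by rw [F.mem_M.1 hM2]
        _ = _ := by group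
    rw [e]; exact mul_mem a b
  obtain ⟨hfM, ⟨r, hr, hπ⟩, h, hh, hh', r', hr', hπ'⟩ := hall f hf
  -- `f` is a commutator in the centraliser of `z`, `τ` and `f`
  obtain ⟨d, e, hdM, hdτ, hdf, heM, heτ, hef, hde⟩ := hcommA f _ hfA hfM hπ (rWords_props H.b r hr).2.2.2.2
  -- seen from `f`
  have hτM := hτ.1
  obtain ⟨p', hp3, hp1, hπτ⟩ := hτ.2.2
  set τ' := h⁻¹ * τ * h with hτ'
  have hτ'M : τ' ∈ F.M := F.conj_M (by rw [hh]; exact hfτ.symm)
  have hf'τ : h⁻¹ * F.z * h * τ' = τ' * (h⁻¹ * F.z * h) := by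
    calc h⁻¹ * F.z * h * τ' = h⁻¹ * (F.z * τ) * h := by rw [hτ']; group
      _ = _ := by rw [← F.mem_M.1 hτM, hτ']; group
  have h3' : τ' * τ' * τ' = 1 := by
    rw [hτ', show h⁻¹ * τ * h * (h⁻¹ * τ * h) * (h⁻¹ * τ * h) = h⁻¹ * (τ * τ * τ) * h by group, hτ.2.1]; group
  have hq : (F.π τ').2 = 1 := by
    refine (rWords_props H.b r' hr').2.2.2.1 _ ?_ ?_
    · have := congrArg (fun t => (F.π t).2) h3'
      simpa [F.π_mul' (mul_mem hτ'M hτ'M) hτ'M, F.π_mul' hτ'M hτ'M, F.π_one] using this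
    · have := congrArg (fun t => (F.π t).2) hf'τ
      simpa [F.π_mul' hh' hτ'M, F.π_mul' hτ'M hh', hπ'] using this.symm
  have hτ'' : IsScalar (F := F) τ' := by
    refine ⟨hτ'M, h3', (F.π τ').1, ?_, fun e1 => ?_, Prod.ext rfl hq⟩
    · have := congrArg (fun t => (F.π t).1) h3'
      simpa [F.π_mul' (mul_mem hτ'M hτ'M) hτ'M, F.π_mul' hτ'M hτ'M, F.π_one] using this
    · have h0 : τ' = 1 := Frame.cube_one_Q ((F.π_iff hτ'M).1 (Prod.ext e1 hq)) (by rw [← h3']; simp [pow_succ, mul_assoc])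
      refine hp1 ?_
      have hτ1 : τ = 1 := by
        calc τ = h * τ' * h⁻¹ := by rw [hτ']; group
          _ = 1 := by rw [h0]; group
      have := congrArg Prod.fst hπτ
      rw [hτ1, F.π_one] at this
      exact this.symm
  obtain ⟨A', hzA', hder', -, -⟩ := H.derived hτ'' hh' (by
      rw [show h⁻¹ * F.z * h * (h⁻¹ * F.z * h) = h⁻¹ * (F.z * F.z) * h by group, F.zz]; group) hf'τ hπ'
    (rWords_props H.b r' hr').1 (rWords_props H.b r' hr').2.2.2.2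
  have hmv : ∀ {w : G}, w * τ = τ * w → w * f = f * w → h⁻¹ * w * h ∈ F.M ∧ h⁻¹ * w * h * τ' = τ' * (h⁻¹ * w * h) := by
    intro w hwτ hwf
    refine ⟨F.conj_M (by rw [hh]; exact hwf), ?_⟩
    calc h⁻¹ * w * h * τ' = h⁻¹ * (w * τ) * h := by rw [hτ']; group
      _ = _ := by rw [hwτ, hτ']; group
  obtain ⟨a1, a2⟩ := hmv hdτ hdf
  obtain ⟨b1, b2⟩ := hmv heτ hef
  refine hzA' ?_
  have := hder' _ _ a1 a2 b1 b2
  rwa [show h⁻¹ * d * h * (h⁻¹ * e * h) * (h⁻¹ * d * h)⁻¹ * (h⁻¹ * e * h)⁻¹ = h⁻¹ * (d * e * d⁻¹ * e⁻¹) * h by group,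
    hde, ← hh, show h⁻¹ * (h * F.z * h⁻¹) * h = F.z by group] at this

end Frame.Chart

end Cfsg.Agent.Invol.ExtraEight
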