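import Cfsg.Agent.Lib.Invol.ExtraEight.Code

/-!
# An involution centraliser of shape 2^{1+8} by (C3 x A6) by 2: finite facts about stabilisers and subspaces
-/

set_option autoImplicit false
set_option linter.style.longLine false
set_option maxRecDepth 100000
set_option maxHeartbeats 1000000

namespace Cfsg.Agent.Invol.ExtraEight

theorem bigList_length : bigList.length = 4320 := by decide +kernel

theorem stab_complete :
    (bigList.all fun g => (app g 17 != 17 || stabP.contains g) && (app g 5 != 5 || stabR.contains g)) = true := by
  decide +kernel

theorem close_spacesP : (spacesP.all fun S => S.length == 16 || (List.range 256).all fun w =>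
    qf w || S.contains w || S.any (fun u => qf (u ^^^ w)) || (
    let C := closeS (gensP.map wm) S w
    C.any qf || spacesP.any fun T => T.length == C.length && T.all C.contains && C.all T.contains)) = true := by decide +kernel

theorem close_spacesR : (spacesR.all fun S => S.length == 16 || (List.range 256).all fun w =>
    qf w || S.contains w || S.any (fun u => qf (u ^^^ w)) || (
    let C := closeS (gensR.map wm) S w
    C.any qf || spacesR.any fun T => T.length == C.length && T.all C.contains && C.all T.contains)) = true := by decide +kernel

theorem excludedP : (spacesP.all fun W => W == W0 || decide ((candL stabP 17 W).length * W.length < 128) ||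
    decide ((mapsL stabP 17 W).length * 2 < W.length)) = true := by decide +kernel

theorem excludedR : (spacesR.all fun W => decide ((candL stabR 5 W).length * W.length < 128) ||
    decide ((mapsL stabR 5 W).length * 2 < W.length)) = true := by decide +kernel

theorem commutator_fused : (stabP.all fun o => o == idm || mu o (mu o o) != idm ||
    (candL stabP 17 W0).all fun x => (idm :: rWords.map wm).contains (mu o (mu x (mu (mu o o) x)))) = true := by
  decide +kernel

theorem commutator_onto : (stabP.all fun o => o == idm || mu o (mu o o) != idm ||
    T12.all fun t => (perpL 17).any fun y => W0.contains (app o y ^^^ y ^^^ t)) = true := by decide +kernel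

end Cfsg.Agent.Invol.ExtraEight
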