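import Cfsg.Agent.Lib.Invol.ExtraEight.Words
import Mathlib.Data.Fintype.Perm

/-!
# An involution centraliser of shape 2^{1+8} by (C3 x A6) by 2: finite facts about permutations
-/

set_option autoImplicit false
set_option linter.style.longLine false
set_option maxRecDepth 100000
set_option maxHeartbeats 1000000

namespace Cfsg.Agent.Invol.ExtraEight

open Equiv Equiv.Perm

theorem pcode_injective : ∀ σ : Perm (Fin 6), ∀ i : Fin 6, (σ i).val = pcode σ / 8 ^ i.val % 8 := by decide +kernel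

theorem pcode_cover (b : Bool) : ∀ σ : Perm (Fin 6), sign σ = 1 →
    ((permWords b).map fun w => pcode (wp b w)).contains (pcode σ) = true := by
  cases b <;> decide +kernel

theorem permWords_lt (b : Bool) : ∀ w ∈ permWords b, ∀ i ∈ w, i < 4 := by
  cases b <;> decide +kernel

theorem perms_props (b : Bool) :
    let p := fun i => (perms b).getD i 1
    (p 0 * p 0 * p 0 = 1 ∧ p 1 * p 1 * p 1 = 1 ∧ p 0 * p 1 = p 1 * p 0) ∧
      (p 2 * p 0 * (p 2)⁻¹ = p 1 ∧ p 2 * p 1 * (p 2)⁻¹ = (p 0)⁻¹ ∧ p 2 * p 2 * (p 2 * p 2) = 1) ∧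
      (p 3 * p 3 = 1 ∧ p 3 * p 2 * p 3 = (p 2)⁻¹ ∧ p 0 * p 3 * (p 0 * p 3) * (p 0 * p 3) = 1) ∧
      p 0 ≠ 1 ∧ ∀ i < 4, sign (p i) = 1 := by
  cases b <;> decide +kernel

theorem perms_primed :
    (perms true).getD 0 1 = (perms false).getD 0 1 * (perms false).getD 1 1 ∧
      (perms true).getD 1 1 = (perms false).getD 0 1 * (perms false).getD 0 1 * (perms false).getD 1 1 ∧
      (perms true).getD 2 1 = (perms false).getD 2 1 := by decide +kernel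

theorem centralizer_alt : ∀ q : Perm (Fin 6),
    (∀ i < 4, q * (perms false).getD i 1 = (perms false).getD i 1 * q) → q = 1 := by decide +kernel

/-- The reference involution of the alternating group. -/
def c0 : Perm (Fin 6) := swap 0 1 * swap 2 3

/-- An element of order four of the alternating group. -/
def r4 : Perm (Fin 6) := swap 0 1 * swap 1 2 * swap 2 3 * swap 4 5

/-- An involution inverting `r4`. -/
def i2 : Perm (Fin 6) := swap 0 2 * swap 4 5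

theorem rWords_props (b : Bool) : ∀ w ∈ rWords,
    sign (wp b w) = 1 ∧ wp b w * wp b w = 1 ∧ wp b w ≠ 1 ∧
      (∀ q : Perm (Fin 6), q * q * q = 1 → q * wp b w = wp b w * q → q = 1) ∧
      ∃ σ : Perm (Fin 6), sign σ = 1 ∧ σ * wp b w * σ⁻¹ = c0 := by
  cases b <;> decide +kernel

theorem dihedral_props :
    sign r4 = 1 ∧ sign i2 = 1 ∧ r4 * r4 * (r4 * r4) = 1 ∧ i2 * i2 = 1 ∧ i2 * r4 * i2 = r4⁻¹ ∧
      r4 ≠ 1 ∧ r4 * r4 ≠ 1 ∧ i2 ≠ 1 ∧ i2 ≠ r4 ∧ i2 ≠ r4 * r4 ∧ i2 ≠ r4 * r4 * r4 ∧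
      (∃ σ : Perm (Fin 6), sign σ = 1 ∧ σ * (r4 * r4) * σ⁻¹ = c0) ∧
      (∃ σ : Perm (Fin 6), sign σ = 1 ∧ σ * i2 * σ⁻¹ = c0) ∧
      ∃ σ : Perm (Fin 6), sign σ = 1 ∧ σ * (i2 * r4) * σ⁻¹ = c0 := by decide +kernel

theorem c0_commutator : ∃ d e : Perm (Fin 6), sign d = 1 ∧ sign e = 1 ∧ d * c0 = c0 * d ∧ e * c0 = c0 * e ∧
    d * e * d⁻¹ * e⁻¹ = c0 :=
  ⟨swap 0 2 * swap 2 1 * swap 1 3 * swap 4 5, swap 0 1 * swap 4 5, by decide +kernel⟩

theorem three_props : ∀ p q : Perm (Fin 3),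
    (p * p * p = 1 ∧ p ≠ 1 → sign p = 1 ∧ (p = swap 0 1 * swap 1 2 ∨ p = (swap 0 1 * swap 1 2)⁻¹) ∧
      (q * p = p * q → sign q = 1) ∧ (sign q = -1 → q * p * q⁻¹ = p⁻¹) ∧
      (sign q = 1 → q = 1 ∨ q = p ∨ q = p⁻¹)) := by decide +kernel

end Cfsg.Agent.Invol.ExtraEight
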