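import Cfsg.Agent.Lib.Invol.ExtraEight.Code

/-!
# An involution centraliser of shape 2^{1+8} by (C3 x A6) by 2: finite facts about the model
-/

set_option autoImplicit false
set_option linter.style.longLine false
set_option maxRecDepth 100000
set_option maxHeartbeats 1000000

namespace Cfsg.Agent.Invol.ExtraEight

theorem app_idm : ∀ v < 256, app idm v = v := by decide +kernel

theorem app_lt_mats : ((List.range 256).all fun v => mats.all fun g => decide (app g v < 256)) = true := by
  decide +kernel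

theorem om_fpf : ∀ v < 256, app OM (app OM v) ^^^ app OM v ^^^ v = 0 := by decide +kernel

theorem bf_nondeg : ∀ v < 256, v ≠ 0 → ∃ l < 8, bf (2 ^ l) v = true := by decide +kernel

theorem mats_isom : ((List.range 256).all fun v => mats.all fun g => qf (app g v) == qf v) = true := by
  decide +kernel

theorem kOf_determined : ∀ c < 256, mu (kOf c) (kOf c) = idm →
    mu (mu MA (kOf c)) (mu (mu MA (kOf c)) (mu MA (kOf c))) = idm →
    ((List.range 256).all fun v => qf (app (kOf c) v) == qf v) = true → kOf c = MK := by decide +kernel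

theorem mats_rel :
    mu OM (mu OM OM) = idm ∧ mu MS MS = idm ∧ mu MS (mu OM MS) = mu OM OM ∧
      ([MA, MB, MJ, MK].all fun g => mu g OM == mu OM g && mu g MS == mu MS g) = true ∧
      mu MJ (mu MJ (mu MJ MJ)) = idm ∧ mu MB (mu MB MB) = idm ∧ MB ≠ idm ∧ app MB 17 = 17 := by decide +kernel

theorem mem_NL : ∀ v < 256, app MS v = v ↔ v ∈ NL := by decide +kernel

theorem basis_bits : ∀ l < 8, app (NBas ++ NBas.map (app OM)) (bits.getD l 0) = 2 ^ l ∧ bits.getD l 0 < 256 := by
  decide +kernel

theorem NBas_props : ∀ v ∈ NBas, v ∈ NL := by decide +kernel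

theorem NL_decomp : ∀ v < 256, ∃ p ∈ NL, ∃ q ∈ NL, v = p ^^^ app OM q := by decide +kernel

theorem NL_trans : ∀ n ∈ NL, n ≠ 0 →
    (∃ w ∈ toWords, app (wm w) n = 17) ∧ ∃ w ∈ toWords, app (wm w) 17 = n := by decide +kernel

theorem NL_fix_move : ∀ p ∈ NL, ∀ q ∈ NL, p ≠ 0 → q ≠ 0 → p ≠ q →
    ∃ w ∈ fixWords, app (wm w) p = p ∧ app (wm w) q ≠ q := by decide +kernel

theorem words_linear : ((toWords ++ fixWords ++ rWords).all fun w =>
    w.all (fun i => decide (i < 4)) && mu (wm w) OM == mu OM (wm w)) = true := by decide +kernel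

theorem orbit_cover : ∀ v < 256, v ≠ 0 → qf v = false →
    ∃ w ∈ orbWords, app (wm w) v = 17 ∨ app (wm w) v = 5 := by decide +kernel

theorem gens_fix : (gensP.all fun w => w.all (fun i => decide (i < 5)) && app (wm w) 17 == 17) = true ∧
    (gensR.all fun w => w.all (fun i => decide (i < 5)) && app (wm w) 5 == 5) = true ∧
    (orbWords ++ threeWords).all (fun w => w.all fun i => decide (i < 5)) = true := by decide +kernel

theorem rWords_kernel : ∀ w ∈ rWords, wm w ≠ idm ∧ ∀ p < 256, app (wm w) p = p →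
    ∃ u < 256, app (wm w) u ^^^ u = p := by decide +kernel

theorem rWords_kernel_pair : ∀ w ∈ rWords, ∀ w' ∈ rWords, w ≠ w' → ∀ p < 256, app (wm w) p = p →
    app (wm w') p = p → ∃ u < 256, app (wm w) u = u ∧ app (wm w') u ^^^ u = p := by decide +kernel

theorem T12_props : ∀ t ∈ T12, t < 256 ∧ bf t 17 = false ∧ t ∉ W0 ∧ ∃ w ∈ orbWords, app (wm w) t = 17 := by
  decide +kernel

theorem three_props' : (∀ t ∈ three, t ∈ T12 ∧ ∃ w ∈ threeWords, app (wm w) t = 17 ∧ app (wm w) 17 ∈ T12) ∧
    three.getD 0 0 ^^^ three.getD 1 0 = three.getD 2 0 ∧ three.length = 3 := by decide +kernel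

end Cfsg.Agent.Invol.ExtraEight
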