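import Cfsg.Agent.Lib.Invol.ExtraEight.Key

/-!
# An involution centraliser of shape 2^{1+8} by (C3 x A6) by 2: a four-group of conjugates of `z`
-/

set_option autoImplicit false
set_option linter.unusedSimpArgs false
set_option maxRecDepth 100000

namespace Cfsg.Agent.Invol.ExtraEight

open Subgroup Equiv

universe u

theorem fused_props : (∀ w ∈ threeWords, ∀ i ∈ w, i < 5) ∧ (∀ w ∈ orbWords, ∀ i ∈ w, i < 5) ∧
    (∀ t ∈ T12, qf t = false) ∧ app (wm [1]) 17 = 17 := by decide +kernel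

namespace Frame

variable {G : Type u} [Group G] [Finite G] {F : Frame G}

theorem Q_two {x : G} (hx : x ∈ F.Q) : x ^ 4 = 1 := by
  rcases F.sq x hx with h | h
  · rw [show x ^ 4 = x * x * (x * x) by simp [pow_succ, mul_assoc], h, one_mul]
  · rw [show x ^ 4 = x * x * (x * x) by simp [pow_succ, mul_assoc], h, F.zz]

theorem cube_one_Q {x : G} (hx : x ∈ F.Q) (h : x ^ 3 = 1) : x = 1 := by
  have h4 := Q_two hx
  rw [pow_succ, h, one_mul] at h4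
  exact h4

/-- Moving a pair by an element of `C(z)`. -/
def Pair.left (p : F.Pair) {m : G} (hm : m ∈ F.M) : F.Pair where
  g := m * p.g
  mem := by
    have := F.norm' hm p.mem
    rwa [show m * p.g * F.z * (m * p.g)⁻¹ = m * (p.g * F.z * p.g⁻¹) * m⁻¹ by group]
  ne := fun e => p.ne (by
    calc p.g * F.z * p.g⁻¹ = m⁻¹ * (m * p.g * F.z * (m * p.g)⁻¹) * m := by group
      _ = m⁻¹ * (F.z * m) := by rw [e]; group
      _ = F.z := by rw [← F.mem_M.1 hm]; group)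

/-- The reversed pair. -/
def Pair.rev (p : F.Pair) : F.Pair where
  g := p.g⁻¹
  mem := by rw [inv_inv]; exact p.b_mem
  ne := by rw [inv_inv]; exact p.b_ne

namespace Chart

variable (H : F.Chart)

theorem exists_move {x : G} (hx : x ∈ F.Q) (h0 : H.cv x ≠ 0) (hq : qf (H.cv x) = false) :
    ∃ m ∈ F.M, H.cv (m * x * m⁻¹) = 17 ∨ H.cv (m * x * m⁻¹) = 5 := by
  obtain ⟨w, hw, e⟩ := orbit_cover _ (H.cv_lt x) h0 hq
  obtain ⟨m, hm, -, hmat⟩ := H.word w (fused_props.2.1 w hw)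
  exact ⟨m, hm, by rwa [H.cv_conj hm hx, hmat _ (H.cv_lt x)]⟩

theorem pair_pure (p : F.Pair) : ∃ m ∈ F.M, H.cv (m * p.a * m⁻¹) = 17 := by
  have ha : p.a * p.a = 1 := sq_one_of_conj F.zz p.g
  obtain ⟨m, hm, e⟩ := H.exists_move p.a_mem
    (fun h => ((H.cv_zero_iff p.a_mem).1 h).elim p.a_one p.ne)
    (by rw [Bool.eq_false_iff, ne_eq, H.qf_cv p.a_mem, ha]; exact F.z_ne.symm)
  refine ⟨m, hm, e.resolve_right fun e5 => H.not_mixed (p.left hm) ?_⟩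
  rw [← e5]
  show H.cv (m * p.g * F.z * (m * p.g)⁻¹) = _
  congr 1
  rw [Pair.a]; group

/-- A pair in normal position. -/
theorem exists_normal (p : F.Pair) : ∃ q : F.Pair, H.cv q.a = 17 ∧ H.cv q.b = 17 := by
  obtain ⟨m, hm, e⟩ := H.pair_pure p
  obtain ⟨n, hn, e'⟩ := H.pair_pure (p.left hm).rev
  have hz : n⁻¹ * F.z * n⁻¹⁻¹ = F.z := by
    rw [F.mem_M.1 (inv_mem hn)]; group
  refine ⟨⟨m * p.g * n⁻¹, ?_, ?_⟩, ?_, ?_⟩
  · rw [show m * p.g * n⁻¹ * F.z * (m * p.g * n⁻¹)⁻¹ = m * p.g * (n⁻¹ * F.z * n⁻¹⁻¹) * (m * p.g)⁻¹ by group, hz]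
    exact (p.left hm).mem
  · rw [show m * p.g * n⁻¹ * F.z * (m * p.g * n⁻¹)⁻¹ = m * p.g * (n⁻¹ * F.z * n⁻¹⁻¹) * (m * p.g)⁻¹ by group, hz]
    exact (p.left hm).ne
  · show H.cv (m * p.g * n⁻¹ * F.z * (m * p.g * n⁻¹)⁻¹) = 17
    rw [show m * p.g * n⁻¹ * F.z * (m * p.g * n⁻¹)⁻¹ = m * p.g * (n⁻¹ * F.z * n⁻¹⁻¹) * (m * p.g)⁻¹ by group, hz, ← e]
    congr 1; rw [Pair.a]; group
  · rw [← e']
    show H.cv ((m * p.g * n⁻¹)⁻¹ * F.z * (m * p.g * n⁻¹)) = H.cv (n * ((m * p.g)⁻¹ * F.z * (m * p.g)⁻¹⁻¹) * n⁻¹)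
    congr 1; group

/-- A pure element of `Q` is a conjugate of `z`. -/
theorem pure_conj (p : F.Pair) (hA : H.cv p.a = 17) {x : G} (hx : x ∈ F.Q) {m : G} (hm : m ∈ F.M)
    (h : H.cv (m * x * m⁻¹) = 17) : ∃ k, k * F.z * k⁻¹ = x := by
  rcases (H.cv_eq_iff (F.norm' hm hx) p.a_mem).1 (h.trans hA.symm) with e | e
  · exact ⟨m⁻¹ * p.g, by
      calc m⁻¹ * p.g * F.z * (m⁻¹ * p.g)⁻¹ = m⁻¹ * p.a * m := by rw [Pair.a]; group
        _ = x := by rw [← e]; group⟩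
  · obtain ⟨k, hk⟩ := p.conj_az
    exact ⟨m⁻¹ * k, by
      calc m⁻¹ * k * F.z * (m⁻¹ * k)⁻¹ = m⁻¹ * (k * F.z * k⁻¹) * m := by group
        _ = x := by rw [hk, ← e]; group⟩

/-- The key fusion: the image is one of three double transpositions. -/
theorem fused (p : F.Pair) (hA : H.cv p.a = 17) (hB : H.cv p.b = 17) {y : G} (hy : y ∈ F.Q)
    (ht : H.cv y ∈ T12) : p.g * y * p.g⁻¹ ∈ F.M ∧
      ∃ r ∈ rWords, F.π (p.g * y * p.g⁻¹) = (1, wp H.b r) := by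
  have hmemCb : ∀ {u : G}, u ∈ F.Q → bf (H.cv u) 17 = false → u ∈ p.Cb := fun {u} hu h => by
    refine mem_inf.2 ⟨hu, mem_centralizer_singleton_iff.2 ?_⟩
    by_contra hn
    rw [← hB, (H.bf_cv hu p.b_mem).2 hn] at h
    cases h
  have hyC := hmemCb hy (T12_props _ ht).2.1
  refine ⟨p.Cb_M hyC, ?_⟩
  -- an element of order 3
  obtain ⟨m0, hm0, hπ0, hmat0⟩ := H.word [1] (by simp)
  obtain ⟨m1, hm1, hm1a, hπ1⟩ := p.lift_a hm0 ((H.cv_eq_iff (F.norm' hm0 p.a_mem) p.a_mem).1 (by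
    rw [H.cv_conj hm0 p.a_mem, hmat0 _ (H.cv_lt _), hA, fused_props.2.2.2]))
  have hπB : F.π m1 = (1, (perms H.b).getD 1 1) := by
    rw [hπ1, hπ0]; exact (mul_one _).trans (if_pos (by omega))
  have hB3 : (perms H.b).getD 1 1 * (perms H.b).getD 1 1 * (perms H.b).getD 1 1 = 1 := (perms_props H.b).1.2.1
  set o := m1 ^ 4 with ho
  have hoM : o ∈ F.M := pow_mem hm1 4
  have hoa : o * p.a = p.a * o := (Commute.pow_left (show Commute m1 p.a from hm1a) 4).eq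
  have hm13 : m1 ^ 3 ∈ F.Q := (F.π_iff (pow_mem hm1 3)).1 (by
    rw [pow_succ, pow_two, F.π_mul' (mul_mem hm1 hm1) hm1, F.π_mul' hm1 hm1, hπB, Prod.mk_mul_mk,
      Prod.mk_mul_mk, hB3]
    rfl)
  have ho3 : o ^ 3 = 1 := by
    rw [ho, ← pow_mul, show 4 * 3 = 3 * 4 from rfl, pow_mul]
    exact Q_two hm13
  have hπo : F.π o = (1, (perms H.b).getD 1 1) := by
    rw [ho, pow_succ, F.π_mul' (pow_mem hm1 3) hm1, (F.π_iff (pow_mem hm1 3)).2 hm13, one_mul, hπB]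
  have ho1 : o ≠ 1 := fun e => by
    have h := hπo
    rw [e, F.π_one] at h
    have h' : (perms H.b).getD 1 1 = 1 := (congrArg Prod.snd h).symm
    have hne : ∀ b, (perms b).getD 1 1 ≠ 1 := by decide +kernel
    exact hne _ h'
  set o' := p.g⁻¹ * o * p.g with ho'
  have ho'M : o' ∈ F.M := F.conj_M hoa
  have ho'b : o' * p.b = p.b * o' := by
    have := F.mem_M.1 hoM
    calc o' * p.b = p.g⁻¹ * (o * F.z) * p.g := by rw [ho', Pair.b]; group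
      _ = _ := by rw [this, ho', Pair.b]; group
  have ho'3 : o' ^ 3 = 1 := by
    rw [ho', show (p.g⁻¹ * o * p.g) ^ 3 = p.g⁻¹ * o ^ 3 * p.g by simp [pow_succ, mul_assoc], ho3]; group
  have hst : ∀ g ∈ bigList, app g 17 = 17 → g ∈ stabP := fun g hg e => by
    have := List.all_eq_true.1 stab_complete g hg
    simp [e] at this
    exact this.1
  have h17 : ∀ {n : G}, n ∈ F.M → ∀ {c : G}, c ∈ F.Q → H.cv c = 17 → n * c = c * n → H.mat n ∈ stabP :=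
    fun {n} hn {c} hc hc17 hcomm => hst _ (H.mat_mem hn) (by
      rw [← hc17, ← H.cv_conj hn hc, mul_inv_eq_iff_eq_mul.2 hcomm])
  have hcube : ∀ {n : G}, n ∈ F.M → n ^ 3 = 1 → n ≠ 1 →
      H.mat n ≠ idm ∧ mu (H.mat n) (mu (H.mat n) (H.mat n)) = idm := by
    intro n hn h3 hne
    constructor
    · intro e
      have : F.π n = 1 := by
        rw [← F.π_one]
        exact H.π_eq_of_mat hn (one_mem _) fun v hv => by rw [H.mat_Q (one_mem _) hv, e, app_idm v hv]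
      exact hne (cube_one_Q ((F.π_iff hn).1 this) h3)
    · conv_lhs => rw [← idm_map_of_length (mu (H.mat n) (mu (H.mat n) (H.mat n))) (by simp [mu, mat, idm])]
      conv_rhs => rw [← idm_map_of_length idm rfl]
      refine List.map_congr_left fun x hx => ?_
      have hlt := idm_lt x hx
      have l1 : ∀ z ∈ mu (H.mat n) (H.mat n), z < 256 := List.forall_mem_map.2 fun y _ => app_lt (H.mat_lt n) y
      rw [app_mu _ l1, app_mu _ (H.mat_lt n), app_idm x hlt,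
        ← H.mat_mul hn hn hlt, ← H.mat_mul hn (mul_mem hn hn) hlt, ← mul_assoc,
        show n * n * n = n ^ 3 by simp [pow_succ, mul_assoc], h3, H.mat_Q (one_mem _) hlt]
  have ho'ne : o' ≠ 1 := fun e => ho1 (by
    calc o = p.g * o' * p.g⁻¹ := by rw [ho']; group
      _ = 1 := by rw [e]; group)
  obtain ⟨ne', cu'⟩ := hcube ho'M ho'3 ho'ne
  have honto := List.all_eq_true.1 commutator_onto _ (h17 ho'M p.b_mem hB ho'b)
  simp only [Bool.or_eq_true, beq_iff_eq, bne_iff_ne, ne', cu', ne_eq, not_true, false_or, or_false,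
    List.all_eq_true, List.any_eq_true, List.contains_iff_mem] at honto
  obtain ⟨u, hu, hu'⟩ := honto _ ht
  rw [perpL, List.mem_filter, List.mem_range, Bool.not_eq_true'] at hu
  obtain ⟨y0, hy0, rfl⟩ := H.cv_surj hu.1
  have hy0C := hmemCb hy0 hu.2
  set c := o' * y0 * o'⁻¹ * y0⁻¹
  have hcQ : c ∈ F.Q := mul_mem (F.norm' ho'M hy0) (inv_mem hy0)
  have hinv : H.cv y0⁻¹ = H.cv y0 := by
    have h := H.cv_mul hy0 (inv_mem hy0)
    rw [mul_inv_cancel, H.cv_one] at h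
    calc H.cv y0⁻¹ = H.cv y0 ^^^ (H.cv y0 ^^^ H.cv y0⁻¹) := by rw [← Nat.xor_assoc, Nat.xor_self, Nat.zero_xor]
      _ = H.cv y0 := by rw [← h, Nat.xor_zero]
  have hcc : H.cv c = app (H.mat o') (H.cv y0) ^^^ H.cv y0 := by
    rw [H.cv_mul (F.norm' ho'M hy0) (inv_mem hy0), H.cv_conj ho'M hy0, hinv]
  set d := c * y with hd
  have hdQ : d ∈ F.Q := mul_mem hcQ hy
  have hB' : H.cv (p.rev).a = 17 := by
    rw [← hB]; show H.cv (p.g⁻¹ * F.z * p.g⁻¹⁻¹) = _; rw [Pair.b, inv_inv]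
  have hdD := (H.pure_D p.rev hB' hdQ).2 (by rw [H.cv_mul hcQ hy, hcc]; exact hu')
  have hdQ' : p.g * d * p.g⁻¹ ∈ F.Q := by
    have := ((p.rev).mem_D.1 hdD).2
    simpa [Pair.rev] using this
  have hoY := p.Cb_M hy0C
  have hgc : p.g * c * p.g⁻¹ = o * (p.g * y0 * p.g⁻¹) * o⁻¹ * (p.g * y0 * p.g⁻¹)⁻¹ := by
    simp only [c, ho']; group
  have hcM : p.g * c * p.g⁻¹ ∈ F.M := by
    rw [hgc]; exact mul_mem (mul_mem (mul_mem hoM hoY) (inv_mem hoM)) (inv_mem hoY)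
  have hπy : F.π (p.g * y * p.g⁻¹) = (F.π (p.g * c * p.g⁻¹))⁻¹ := by
    have e : p.g * d * p.g⁻¹ = p.g * c * p.g⁻¹ * (p.g * y * p.g⁻¹) := by rw [hd]; group
    have h1 := (F.π_iff (F.Q_le hdQ')).2 hdQ'
    rw [e, F.π_mul' hcM (p.Cb_M hyC)] at h1
    exact eq_inv_of_mul_eq_one_right h1
  -- the finite fact about the commutator
  obtain ⟨neo, cuo⟩ := hcube hoM ho3 ho1
  have hfused := List.all_eq_true.1 commutator_fused _ (h17 hoM p.a_mem hA hoa)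
  simp only [Bool.or_eq_true, beq_iff_eq, bne_iff_ne, neo, cuo, ne_eq, not_true, false_or, or_false,
    List.all_eq_true, List.contains_iff_mem] at hfused
  have hxmem : H.mat (p.g * y0 * p.g⁻¹) ∈ candL stabP 17 W0 :=
    H.cand p hA hst (fun x => ⟨fun h => by
      obtain ⟨d', hd', e⟩ := H.cv_surj (n := x) (by
        have : ∀ x ∈ W0, x < 256 := by decide +kernel
        exact this x h)
      exact ⟨d', (H.pure_D p hA hd').2 (e.symm ▸ h), e⟩, fun ⟨d', hd', e⟩ =>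
        e ▸ (H.pure_D p hA (p.D_Q hd')).1 hd'⟩) (r := p.ψ ⟨y0, hy0C⟩) ⟨_, rfl⟩
  have hmem := hfused _ hxmem
  have hsq : F.π (p.g * y0 * p.g⁻¹) * F.π (p.g * y0 * p.g⁻¹) = 1 := p.X_sq ⟨⟨y0, hy0C⟩, rfl⟩
  set x := p.g * y0 * p.g⁻¹
  have hmateq : ∀ v < 256,
      app (mu (H.mat o) (mu (H.mat x) (mu (mu (H.mat o) (H.mat o)) (H.mat x)))) v = app (H.mat (p.g * c * p.g⁻¹)) v := by
    intro v hv
    have l1 : ∀ z ∈ mu (H.mat o) (H.mat o), z < 256 := List.forall_mem_map.2 fun y _ => app_lt (H.mat_lt _) y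
    have l2 : ∀ z ∈ mu (mu (H.mat o) (H.mat o)) (H.mat x), z < 256 := List.forall_mem_map.2 fun y _ => app_lt l1 y
    have l3 : ∀ z ∈ mu (H.mat x) (mu (mu (H.mat o) (H.mat o)) (H.mat x)), z < 256 :=
      List.forall_mem_map.2 fun y _ => app_lt (H.mat_lt _) y
    rw [app_mu _ l3, app_mu _ l2, app_mu _ (H.mat_lt _), app_mu _ (H.mat_lt _),
      ← H.mat_mul hoM hoY hv, ← H.mat_mul hoM (mul_mem hoM hoY) hv,
      ← H.mat_mul hoY (mul_mem hoM (mul_mem hoM hoY)) hv,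
      ← H.mat_mul hoM (mul_mem hoY (mul_mem hoM (mul_mem hoM hoY))) hv, hgc, H.app_mat _ hv, H.app_mat _ hv]
    congr 2
    refine congrArg _ ?_
    have eo : o⁻¹ = o * o := inv_eq_of_mul_eq_one_right (by rw [← ho3]; simp [pow_succ, mul_assoc])
    have ex : F.π x⁻¹ = F.π x := by rw [F.π_inv hoY]; exact inv_eq_of_mul_eq_one_right hsq
    rw [eo, F.π_mul' (mul_mem (mul_mem hoM hoY) (mul_mem hoM hoM)) (inv_mem hoY),
      F.π_mul' (mul_mem hoM hoY) (mul_mem hoM hoM), F.π_mul' hoM hoY, F.π_mul' hoM hoM, ex,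
      F.π_mul' hoM (mul_mem hoY (mul_mem hoM (mul_mem hoM hoY))), F.π_mul' hoY (mul_mem hoM (mul_mem hoM hoY)),
      F.π_mul' hoM (mul_mem hoM hoY), F.π_mul' hoM hoY]
    simp only [mul_assoc]
  rcases List.mem_cons.1 hmem with e | e
  · -- trivial image is impossible
    exfalso
    have h1 : F.π (p.g * c * p.g⁻¹) = 1 := by
      rw [← F.π_one]
      exact H.π_eq_of_mat hcM (one_mem _) fun v hv => by
        rw [← hmateq v hv, e, app_idm v hv, H.mat_Q (one_mem _) hv]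
    rw [h1, inv_one, F.π_iff (p.Cb_M hyC)] at hπy
    have : y ∈ p.rev.D := p.rev.mem_D.2 ⟨hy, by simpa [Pair.rev] using hπy⟩
    exact (T12_props _ ht).2.2.1 ((H.pure_D p.rev hB' hy).1 this)
  · obtain ⟨r, hr, er⟩ := List.mem_map.1 e
    have h4 : ∀ i ∈ r, i < 4 := words_lt4 r (by simp [hr])
    obtain ⟨n, hn, hnπ, hnm⟩ := H.word r fun i hi => (h4 i hi).trans (by omega)
    refine ⟨r, hr, ?_⟩
    have h1 : F.π (p.g * c * p.g⁻¹) = (1, wp H.b r) := by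
      rw [← w36_eq _ _ h4, ← hnπ]
      exact H.π_eq_of_mat hcM hn fun v hv => by rw [← hmateq v hv, ← er, hnm v hv]
    rw [hπy, h1]
    exact Prod.ext inv_one (inv_eq_of_mul_eq_one_right (rWords_props H.b r hr).2.1)

/-- The four-group and the symmetric statement. -/
theorem exists_four (p0 : F.Pair) : ∃ f₁ f₂ : G, f₁ * f₁ = 1 ∧ f₂ * f₂ = 1 ∧ f₁ * f₂ = f₂ * f₁ ∧
    ∀ f, f = f₁ ∨ f = f₂ ∨ f = f₁ * f₂ → f ∈ F.M ∧ (∃ r ∈ rWords, F.π f = (1, wp H.b r)) ∧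
      ∃ h : G, h * F.z * h⁻¹ = f ∧ h⁻¹ * F.z * h ∈ F.M ∧ ∃ r ∈ rWords, F.π (h⁻¹ * F.z * h) = (1, wp H.b r) := by
  obtain ⟨p, hA, hB⟩ := H.exists_normal p0
  obtain ⟨hthree, hsum, -⟩ := three_props'
  obtain ⟨y1, hy1, e1⟩ := H.cv_surj (n := three.getD 0 0) (by decide)
  obtain ⟨y2, hy2, e2⟩ := H.cv_surj (n := three.getD 1 0) (by decide)
  have hT : ∀ i < 3, three.getD i 0 ∈ three := by decide
  have hq : ∀ {y : G}, y ∈ F.Q → H.cv y ∈ three → y * y = 1 := fun {y} hy h => by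
    rcases F.sq y hy with e | e
    · exact e
    · have := (H.qf_cv hy).2 e
      rw [fused_props.2.2.1 _ (hthree _ h).1] at this
      cases this
  have h12 : y1 * y2 = y2 * y1 := by
    have e := hq (mul_mem hy1 hy2) (by rw [H.cv_mul hy1 hy2, e1, e2, hsum]; exact hT 2 (by omega))
    calc y1 * y2 = (y1 * y2)⁻¹ := (inv_eq_of_mul_eq_one_right e).symm
      _ = y2⁻¹ * y1⁻¹ := by group
      _ = y2 * y1 := by rw [inv_eq_of_mul_eq_one_right (hq hy1 (e1 ▸ hT 0 (by omega))),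
          inv_eq_of_mul_eq_one_right (hq hy2 (e2 ▸ hT 1 (by omega)))]
  refine ⟨p.g * y1 * p.g⁻¹, p.g * y2 * p.g⁻¹, sq_one_of_conj (hq hy1 (e1 ▸ hT 0 (by omega))) _,
    sq_one_of_conj (hq hy2 (e2 ▸ hT 1 (by omega))) _, ?_, ?_⟩
  · calc p.g * y1 * p.g⁻¹ * (p.g * y2 * p.g⁻¹) = p.g * (y1 * y2) * p.g⁻¹ := by group
      _ = _ := by rw [h12]; group
  intro f hf
  obtain ⟨y, hy, hyt, rfl⟩ : ∃ y ∈ F.Q, H.cv y ∈ three ∧ f = p.g * y * p.g⁻¹ := by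
    rcases hf with rfl | rfl | rfl
    · exact ⟨y1, hy1, e1 ▸ hT 0 (by omega), rfl⟩
    · exact ⟨y2, hy2, e2 ▸ hT 1 (by omega), rfl⟩
    · exact ⟨y1 * y2, mul_mem hy1 hy2, by rw [H.cv_mul hy1 hy2, e1, e2, hsum]; exact hT 2 (by omega), by group⟩
  obtain ⟨ht, w, hw, hw17, hwT⟩ := hthree _ hyt
  obtain ⟨hfM, hr⟩ := H.fused p hA hB hy ht
  refine ⟨hfM, hr, ?_⟩
  obtain ⟨m, hm, -, hmat⟩ := H.word w (fused_props.1 w hw)
  have hmy : H.cv (m * y * m⁻¹) = 17 := by rw [H.cv_conj hm hy, hmat _ (H.cv_lt y), hw17]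
  obtain ⟨k, hk⟩ := H.pure_conj p hA hy hm hmy
  have hkne : k * F.z * k⁻¹ ≠ F.z := fun e => by
    rw [hk] at e
    have := (T12_props _ ht).2.2.1
    rw [(H.cv_zero_iff hy).2 (Or.inr e)] at this
    exact this (by decide)
  let K : F.Pair := ⟨k, by rw [hk]; exact hy, hkne⟩
  obtain ⟨n, hn, hn17⟩ := H.pair_pure K.rev
  set h := p.g * k * n⁻¹ with hh
  have hnz : n⁻¹ * F.z * n = F.z := by
    rw [F.mem_M.1 (inv_mem hn)]; group
  have hhz : h * F.z * h⁻¹ = p.g * y * p.g⁻¹ := by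
    calc h * F.z * h⁻¹ = p.g * (k * (n⁻¹ * F.z * n) * k⁻¹) * p.g⁻¹ := by rw [hh]; group
      _ = _ := by rw [hnz, hk]
  -- the pair seen from the conjugate
  have hmz : m⁻¹ * F.z * m = F.z := by
    rw [F.mem_M.1 (inv_mem hm)]; group
  set g2 := p.g * m⁻¹ with hg2
  have ha2 : g2 * F.z * g2⁻¹ = p.a := by
    calc g2 * F.z * g2⁻¹ = p.g * (m⁻¹ * F.z * m) * p.g⁻¹ := by rw [hg2]; group
      _ = p.a := by rw [hmz]; rfl
  have hA' : h⁻¹ * g2 * F.z * (h⁻¹ * g2)⁻¹ = n * (k⁻¹ * F.z * k) * n⁻¹ := by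
    calc h⁻¹ * g2 * F.z * (h⁻¹ * g2)⁻¹ = h⁻¹ * (g2 * F.z * g2⁻¹) * h := by group
      _ = _ := by rw [ha2, Pair.a, hh]; group
  have hcA' : H.cv (h⁻¹ * g2 * F.z * (h⁻¹ * g2)⁻¹) = 17 := by
    rw [hA', ← hn17]
    congr 1
    show _ = n * (k⁻¹ * F.z * k⁻¹⁻¹) * n⁻¹
    rw [inv_inv]
  let P' : F.Pair := ⟨h⁻¹ * g2, by rw [hA']; exact F.norm' hn K.b_mem, fun e => by
    rw [e, (H.cv_zero_iff F.z_mem).2 (Or.inr rfl)] at hcA'; omega⟩
  have hB' : H.cv P'.b = 17 := by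
    rw [← hmy]
    congr 1
    calc P'.b = g2⁻¹ * (h * F.z * h⁻¹) * g2 := by
          show (h⁻¹ * g2)⁻¹ * F.z * (h⁻¹ * g2) = _; group
      _ = _ := by rw [hhz, hg2]; group
  have hy' : H.cv (m * p.b * m⁻¹) ∈ T12 := by rw [H.cv_conj hm p.b_mem, hmat _ (H.cv_lt _), hB]; exact hwT
  obtain ⟨e3, r, hr, e4⟩ := H.fused P' hcA' hB' (F.norm' hm p.b_mem) hy'
  have e5 : P'.g * (m * p.b * m⁻¹) * P'.g⁻¹ = h⁻¹ * F.z * h := by
    show h⁻¹ * g2 * (m * p.b * m⁻¹) * (h⁻¹ * g2)⁻¹ = _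
    rw [hg2, Pair.b]; group
  rw [e5] at e3 e4
  exact ⟨h, hhz, e3, r, hr, e4⟩

end Chart

end Frame

end Cfsg.Agent.Invol.ExtraEight
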