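import Cfsg.Agent.Lib.Invol.ExtraEight.Big
import Cfsg.Agent.Lib.Invol.ExtraEight.FactsKey

/-!
# An involution centraliser of shape 2^{1+8} by (C3 x A6) by 2: the conjugates of `z` in `Q`

The class of a conjugate is pure, and the intersection of the two extraspecial groups is determined.
-/

set_option autoImplicit false
set_option linter.unusedSimpArgs false
set_option maxRecDepth 100000

namespace Cfsg.Agent.Invol.ExtraEight

open Subgroup Equiv

universe u

theorem spaces_props : (∀ S ∈ spacesP, 0 ∈ S ∧ S.Nodup ∧ S.length ≤ 16) ∧ [0, 17] ∈ spacesP ∧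
    (∀ S ∈ spacesR, 0 ∈ S ∧ S.Nodup ∧ S.length ≤ 16) ∧ [0, 5] ∈ spacesR := by decide +kernel

theorem foldl_addSpan {P : ℕ → Prop} (hx : ∀ u w, P u → P w → P (u ^^^ w)) : ∀ (L S : List ℕ),
    (∀ x ∈ L, P x) → (∀ x ∈ S, P x) → (∀ x ∈ L.foldl addSpan S, P x) ∧ ∀ x ∈ S, x ∈ L.foldl addSpan S := by
  intro L
  induction L with
  | nil => exact fun S _ hS => ⟨hS, fun x h => h⟩
  | cons a L ih =>
    intro S hL hS
    have ha : P a := hL a (List.mem_cons_self ..)
    have h1 : ∀ x ∈ addSpan S a, P x := by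
      intro x hx'
      unfold addSpan at hx'
      split at hx'
      · exact hS x hx'
      · rcases List.mem_append.1 hx' with h | h
        · exact hS x h
        · obtain ⟨u, hu, rfl⟩ := List.mem_map.1 h
          exact hx u a (hS u hu) ha
    have h2 : ∀ x ∈ S, x ∈ addSpan S a := by
      intro x h
      unfold addSpan
      split
      · exact h
      · exact List.mem_append_left _ h
    obtain ⟨e1, e2⟩ := ih (addSpan S a) (fun x h => hL x (List.mem_cons_of_mem _ h)) h1
    exact ⟨e1, fun x h => e2 x (h2 x h)⟩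

theorem grow_mem {P : ℕ → Prop} (hx : ∀ u w, P u → P w → P (u ^^^ w)) : ∀ (gs : List (List ℕ)),
    (∀ g ∈ gs, ∀ u, P u → P (app g u)) → ∀ S : List ℕ, (∀ x ∈ S, P x) →
      (∀ x ∈ grow gs S, P x) ∧ ∀ x ∈ S, x ∈ grow gs S := by
  intro gs
  induction gs with
  | nil => exact fun _ S hS => ⟨hS, fun x h => h⟩
  | cons g gs ih =>
    intro hg S hS
    have h1 := foldl_addSpan hx (S.map (app g)) S (fun x h => by
      obtain ⟨u, hu, rfl⟩ := List.mem_map.1 h
      exact hg g (List.mem_cons_self ..) u (hS u hu)) hS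
    obtain ⟨e1, e2⟩ := ih (fun g' h => hg g' (List.mem_cons_of_mem _ h)) _ h1.1
    exact ⟨e1, fun x h => e2 x (h1.2 x h)⟩

theorem closeS_mem {P : ℕ → Prop} (hx : ∀ u w, P u → P w → P (u ^^^ w)) (hq : ∀ u, P u → qf u = false)
    {gs : List (List ℕ)} (hg : ∀ g ∈ gs, ∀ u, P u → P (app g u)) {S : List ℕ} (h0 : 0 ∈ S) (hS : ∀ x ∈ S, P x)
    {w : ℕ} (hw : P w) (hwS : w ∉ S) :
    (∀ x ∈ closeS gs S w, P x) ∧ (∀ x ∈ S, x ∈ closeS gs S w) ∧ w ∈ closeS gs S w := by
  have hn : ¬ (S.contains w || S.any qf) = true := by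
    rw [Bool.or_eq_true]
    rintro (h | h)
    · exact hwS (List.contains_iff_mem.1 h)
    · obtain ⟨u, hu, hu'⟩ := List.any_eq_true.1 h
      rw [hq u (hS u hu)] at hu'; cases hu'
  have e : addSpan S w = S ++ S.map (· ^^^ w) := by rw [addSpan, if_neg hn]
  have h1 : ∀ x ∈ addSpan S w, P x := by
    intro x h
    rw [e] at h
    rcases List.mem_append.1 h with h | h
    · exact hS x h
    · obtain ⟨u, hu, rfl⟩ := List.mem_map.1 h
      exact hx u w (hS u hu) hw
  have a1 := grow_mem hx gs hg _ h1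
  have a2 := grow_mem hx gs hg _ a1.1
  have a3 := grow_mem hx gs hg _ a2.1
  refine ⟨a3.1, fun x h => a3.2 x (a2.2 x (a1.2 x ?_)), a3.2 w (a2.2 w (a1.2 w ?_))⟩
  · rw [e]; exact List.mem_append_left _ h
  · rw [e]; exact List.mem_append_right _ (List.mem_map.2 ⟨0, h0, Nat.zero_xor w⟩)

namespace Frame.Chart

variable {G : Type u} [Group G] [Finite G] {F : Frame G} (H : F.Chart)

/-- The matrix of an element of the image of `C(z)`. -/
noncomputable def rmat (r : P36) : List ℕ := idm.map fun l => H.code (F.act r (H.C.c l))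

theorem rmat_π (m : G) : H.rmat (F.π m) = H.mat m := rfl

theorem rmat_inj {r s : P36} (hr : r ∈ F.R) (hs : s ∈ F.R) (h : H.rmat r = H.rmat s) : r = s := by
  obtain ⟨m, hm, rfl⟩ := hr
  obtain ⟨n, hn, rfl⟩ := hs
  exact H.π_eq_of_mat hm hn fun v _ => by rw [← rmat_π, ← rmat_π, h]

/-- The codes of the subspace of a pair. -/
def P (p : F.Pair) (n : ℕ) : Prop := ∃ d ∈ p.D, H.cv d = n

theorem P_xor (p : F.Pair) {u w : ℕ} (hu : H.P p u) (hw : H.P p w) : H.P p (u ^^^ w) := by
  obtain ⟨c, hc, rfl⟩ := hu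
  obtain ⟨d, hd, rfl⟩ := hw
  exact ⟨c * d, mul_mem hc hd, H.cv_mul (p.D_Q hc) (p.D_Q hd)⟩

theorem P_q (p : F.Pair) {u : ℕ} (hu : H.P p u) : qf u = false := by
  obtain ⟨d, hd, rfl⟩ := hu
  rw [Bool.eq_false_iff, ne_eq, H.qf_cv (p.D_Q hd), p.D_sq hd]
  exact F.z_ne.symm

theorem mem_D_of_P (p : F.Pair) {x : G} (hx : x ∈ F.Q) (h : H.P p (H.cv x)) : x ∈ p.D := by
  obtain ⟨d, hd, e⟩ := h
  rcases (H.cv_eq_iff (p.D_Q hd) hx).1 e with rfl | e
  · exact hd
  · rw [show x = d * F.z by rw [e, mul_assoc, F.zz, mul_one]]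
    exact mul_mem hd p.z_D

theorem P_inv (p : F.Pair) {w : List ℕ} (hw : ∀ i ∈ w, i < 5) (ha : app (wm w) (H.cv p.a) = H.cv p.a) {u : ℕ}
    (hu : H.P p u) : H.P p (app (wm w) u) := by
  obtain ⟨m, hm, -, hmat⟩ := H.word w hw
  obtain ⟨d, hd, rfl⟩ := hu
  rw [← hmat _ (H.cv_lt d), ← H.cv_conj hm (p.D_Q hd)]
  rw [← hmat _ (H.cv_lt p.a), ← H.cv_conj hm p.a_mem, H.cv_eq_iff (F.norm' hm p.a_mem) p.a_mem] at ha
  obtain ⟨m', hm', hma, e⟩ := p.lift_a hm ha
  refine ⟨m' * d * m'⁻¹, p.conj_D hm' hma hd, ?_⟩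
  rw [H.cv_conj hm' (p.D_Q hd), H.cv_conj hm (p.D_Q hd), ← rmat_π, ← rmat_π, e]

theorem fiber_card (p : F.Pair) {S : List ℕ} (hnd : S.Nodup) (hS : ∀ x ∈ S, H.P p x)
    (hP : ∀ x, H.P p x → x ∈ S) : Nat.card ↥p.W = S.length := by
  classical
  rw [← List.toFinset_card_of_nodup hnd, ← Nat.card_eq_finsetCard]
  refine Nat.card_congr
    { toFun := fun v => ⟨H.code v, List.mem_toFinset.2 (hP _ (by
        obtain ⟨d, hd, e⟩ := v.2
        exact ⟨d, hd, by rw [cv, e]⟩))⟩
      invFun := fun n => ⟨H.C.c n, by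
        obtain ⟨d, hd, e⟩ := hS _ (List.mem_toFinset.1 n.2)
        exact ⟨d, hd, by rw [← H.c_code (F.cls d)]; exact congrArg H.C.c e⟩⟩
      left_inv := fun v => Subtype.ext (H.c_code _)
      right_inv := fun n => Subtype.ext (H.code_c (by
        obtain ⟨d, hd, e⟩ := hS _ (List.mem_toFinset.1 n.2)
        exact e ▸ H.cv_lt d)) }

/-- The image of the second group consists of candidates. -/
theorem cand (p : F.Pair) {v : ℕ} (hv : H.cv p.a = v) {st : List (List ℕ)}
    (hst : ∀ g ∈ bigList, app g v = v → g ∈ st) {S : List ℕ} (hiff : ∀ x, x ∈ S ↔ H.P p x) {r : P36}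
    (hr : r ∈ p.ψ.range) : H.rmat r ∈ candL st v S := by
  have hvlt : v < 256 := hv ▸ H.cv_lt _
  have hfixr := p.X_fix hr
  have hperpr := fun (x : F.V) (h : polar F.qv x (F.cls p.a) = false) => p.X_perp hr h
  have hWr := fun (x : F.V) (h : x ∈ p.W) => p.X_W hr h
  obtain ⟨m, hm, rfl⟩ := p.X_mem hr
  rw [rmat_π]
  have happ : ∀ x < 256, app (H.mat m) x = H.code (F.mod.ρ (F.π m) (H.C.c x)) := fun x hx => H.app_mat m hx
  have hfix : app (H.mat m) v = v := by
    rw [happ v hvlt, ← hv, cv, H.c_code, hfixr]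
  rw [candL, List.mem_filter, Bool.and_eq_true, Bool.and_eq_true, beq_iff_eq, List.all_eq_true, List.all_eq_true]
  refine ⟨hst _ (H.mat_mem hm) hfix, ⟨?_, fun y hy => ?_⟩, fun y hy => ?_⟩
  · conv_lhs => rw [← idm_map_of_length (mu (H.mat m) (H.mat m)) (by simp [mu, mat, idm])]
    conv_rhs => rw [← idm_map_of_length idm rfl]
    refine List.map_congr_left fun x hx => ?_
    rw [app_mu _ (H.mat_lt m), app_idm x (idm_lt x hx), ← H.mat_mul hm hm (idm_lt x hx), ← H.rmat_π,
      F.π_mul' hm hm, p.X_sq hr, ← F.π_one, H.rmat_π, H.mat_Q (one_mem _) (idm_lt x hx)]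
  · rw [perpL, List.mem_filter, List.mem_range, Bool.not_eq_true'] at hy
    rw [List.contains_iff_mem, hiff, happ y hy.1]
    have := hperpr (H.C.c y) (by
      rw [← H.bf_code, H.code_c hy.1]; exact (show bf y (H.cv p.a) = false by rw [hv]; exact hy.2))
    obtain ⟨d, hd, e⟩ := this
    exact ⟨d, hd, by rw [cv, e, H.code_add, H.code_c hy.1]⟩
  · obtain ⟨d, hd, rfl⟩ := (hiff y).1 hy
    rw [happ _ (H.cv_lt d), Bool.or_eq_true, beq_iff_eq, beq_iff_eq, cv, H.c_code, ← H.code_add]
    rcases hWr _ ⟨d, hd, rfl⟩ with e | e <;> rw [e]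
    · exact Or.inl H.code_zero
    · exact Or.inr hv

/-- The general exclusion. -/
theorem subspace (p : F.Pair) {v : ℕ} (hv : H.cv p.a = v) {st gens spaces : List (List ℕ)}
    (hsp : (∀ S ∈ spaces, 0 ∈ S ∧ S.Nodup ∧ S.length ≤ 16) ∧ [0, v] ∈ spaces)
    (hst : ∀ g ∈ bigList, app g v = v → g ∈ st)
    (hgen : ∀ w ∈ gens, (∀ i ∈ w, i < 5) ∧ app (wm w) v = v)
    (hclose : ∀ S ∈ spaces, S.length = 16 ∨ ∀ w < 256, qf w = true ∨ w ∈ S ∨ (∃ u ∈ S, qf (u ^^^ w) = true) ∨
      (∃ x ∈ closeS (gens.map wm) S w, qf x = true) ∨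
      ∃ T ∈ spaces, (T.length = (closeS (gens.map wm) S w).length ∧ ∀ x ∈ T, x ∈ closeS (gens.map wm) S w) ∧
        ∀ x ∈ closeS (gens.map wm) S w, x ∈ T) :
    ∃ S ∈ spaces, (∀ x, x ∈ S ↔ H.P p x) ∧ 128 ≤ (candL st v S).length * S.length ∧
      S.length ≤ (mapsL st v S).length * 2 := by
  classical
  have hW16 : Nat.card ↥p.W ≤ 16 := by
    have := p.card_D_le
    rw [p.card_D] at this
    nlinarith
  have step : ∀ n, ∀ S ∈ spaces, (∀ x ∈ S, H.P p x) → 16 ≤ S.length + n →
      ∃ T ∈ spaces, ∀ x, x ∈ T ↔ H.P p x := by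
    intro n
    induction n with
    | zero =>
      intro S hS hsub hlen
      refine ⟨S, hS, fun x => ⟨hsub x, fun hx => ?_⟩⟩
      by_contra hxS
      have hfin : (S.toFinset).image (fun n => H.C.c n) ⊆ (Set.toFinite (p.W : Set F.V)).toFinset := by
        intro y hy
        obtain ⟨n, hn, rfl⟩ := Finset.mem_image.1 hy
        obtain ⟨d, hd, e⟩ := hsub n (List.mem_toFinset.1 hn)
        rw [Set.Finite.mem_toFinset]
        exact ⟨d, hd, by rw [← H.c_code (F.cls d)]; exact congrArg H.C.c e⟩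
      have hcard : ((S.toFinset).image (fun n => H.C.c n)).card = S.length := by
        rw [Finset.card_image_of_injOn, List.toFinset_card_of_nodup (hsp.1 S hS).2.1]
        intro a ha b hb e
        obtain ⟨d, hd, ea⟩ := hsub a (List.mem_toFinset.1 ha)
        obtain ⟨d', hd', eb⟩ := hsub b (List.mem_toFinset.1 hb)
        exact H.C.inj a (ea ▸ H.cv_lt d) b (eb ▸ H.cv_lt d') e
      have := Finset.eq_of_subset_of_card_le hfin (by
        rw [hcard, ← Nat.card_eq_card_finite_toFinset]; omega)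
      obtain ⟨d, hd, rfl⟩ := hx
      have hmem : F.cls d ∈ (S.toFinset).image (fun n => H.C.c n) := by
        rw [this, Set.Finite.mem_toFinset]; exact ⟨d, hd, rfl⟩
      obtain ⟨n, hn, e⟩ := Finset.mem_image.1 hmem
      obtain ⟨d', hd', e'⟩ := hsub n (List.mem_toFinset.1 hn)
      apply hxS
      rw [cv, ← e, H.code_c (e' ▸ H.cv_lt d')]
      exact List.mem_toFinset.1 hn
    | succ n ih =>
      intro S hS hsub hlen
      by_cases hall : ∀ x, H.P p x → x ∈ S
      · exact ⟨S, hS, fun x => ⟨hsub x, hall x⟩⟩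
      push Not at hall
      obtain ⟨w, hw, hwS⟩ := hall
      have h16 : S.length ≠ 16 := fun h => by
        have hfin : insert w S.toFinset ⊆ (Set.toFinite (p.W : Set F.V)).toFinset.image H.code := by
          intro y hy
          have hy' : H.P p y := by
            rcases Finset.mem_insert.1 hy with rfl | hy
            · exact hw
            · exact hsub y (List.mem_toFinset.1 hy)
          obtain ⟨d, hd, rfl⟩ := hy'
          exact Finset.mem_image.2 ⟨F.cls d, (Set.Finite.mem_toFinset _).2 ⟨d, hd, rfl⟩, rfl⟩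
        have := (Finset.card_le_card hfin).trans Finset.card_image_le
        rw [Finset.card_insert_of_notMem (by simpa using hwS), List.toFinset_card_of_nodup (hsp.1 S hS).2.1, h,
          ← Nat.card_eq_card_finite_toFinset] at this
        omega
      have hgs : ∀ g ∈ gens.map wm, ∀ u, H.P p u → H.P p (app g u) := by
        intro g hg u hu
        obtain ⟨ww, hww, rfl⟩ := List.mem_map.1 hg
        exact H.P_inv p (hgen ww hww).1 (by rw [hv]; exact (hgen ww hww).2) hu
      obtain ⟨c1, c2, c3⟩ := closeS_mem (fun _ _ => H.P_xor p) (fun _ => H.P_q p) hgs (hsp.1 S hS).1 hsub hw hwS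
      obtain ⟨d, hd, hdw⟩ := hw
      rcases ((hclose S hS).resolve_left h16) w (hdw ▸ H.cv_lt d) with e | e | ⟨u, hu, e⟩ | ⟨x, hx, e⟩ | ⟨T, hT, ⟨-, t1⟩, t2⟩
      · rw [H.P_q p ⟨d, hd, hdw⟩] at e; cases e
      · exact absurd e hwS
      · rw [H.P_q p (H.P_xor p (hsub u hu) ⟨d, hd, hdw⟩)] at e; cases e
      · rw [H.P_q p (c1 x hx)] at e; cases e
      · refine ih T hT (fun x hx => c1 x (t1 x hx)) ?_
        have hss : insert w S.toFinset ⊆ T.toFinset := by
          intro y hy
          rw [List.mem_toFinset]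
          rcases Finset.mem_insert.1 hy with rfl | hy
          · exact t2 _ c3
          · exact t2 _ (c2 y (List.mem_toFinset.1 hy))
        have := Finset.card_le_card hss
        rw [Finset.card_insert_of_notMem (by simpa using hwS), List.toFinset_card_of_nodup (hsp.1 S hS).2.1,
          List.toFinset_card_of_nodup (hsp.1 T hT).2.1] at this
        omega
  obtain ⟨S, hS, hiff⟩ := step 16 [0, v] hsp.2 (fun x hx => by
    simp at hx
    rcases hx with rfl | rfl
    · exact ⟨1, one_mem _, H.cv_one⟩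
    · exact ⟨p.a, p.a_D, hv⟩) (by omega)
  have hSc := H.fiber_card p (hsp.1 S hS).2.1 (fun x h => (hiff x).1 h) (fun x h => (hiff x).2 h)
  have hvlt : v < 256 := hv ▸ H.cv_lt _
  have hcand : ∀ r ∈ p.ψ.range, H.rmat r ∈ candL st v S := fun r hr => H.cand p hv hst hiff hr
  refine ⟨S, hS, hiff, ?_, ?_⟩
  · have h1 : Nat.card ↥p.ψ.range ≤ (candL st v S).length := by
      refine (Nat.card_le_card_of_injective (fun r : ↥p.ψ.range => (⟨H.rmat r, List.mem_toFinset.2 (hcand r r.2)⟩ :
        ↥(candL st v S).toFinset)) fun r s e => Subtype.ext (H.rmat_inj (p.X_mem r.2) (p.X_mem s.2)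
          (congrArg Subtype.val e))).trans ?_
      rw [Nat.card_eq_finsetCard]
      exact List.toFinset_card_le _
    have := p.card_X
    rw [p.card_D, hSc] at this
    nlinarith
  · have h1 := p.card_actions' (fun y => (⟨S.map (app (H.rmat (p.ψ y))), List.mem_toFinset.2 (List.mem_dedup.2
        (List.mem_map.2 ⟨_, hcand _ ⟨y, rfl⟩, rfl⟩))⟩ : ↥(mapsL st v S).toFinset)) (fun y w e x hx => by
      have e' : S.map (app (H.rmat (p.ψ y))) = S.map (app (H.rmat (p.ψ w))) := congrArg Subtype.val e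
      obtain ⟨d, hd, rfl⟩ := hx
      have hmem : H.cv d ∈ S := (hiff _).2 ⟨d, hd, rfl⟩
      have := List.map_inj_left.1 e' _ hmem
      change app (H.mat _) _ = app (H.mat _) _ at this
      rw [H.app_mat _ (H.cv_lt d), H.app_mat _ (H.cv_lt d), cv, H.c_code] at this
      have := congrArg H.C.c this
      rwa [H.c_code, H.c_code] at this)
    have h3 := List.toFinset_card_le (mapsL st v S)
    rw [p.card_D, hSc] at h1
    have := le_trans h1 (Nat.mul_le_mul_left 4 (le_trans ((Finite.card_subtype_le _).trans_eq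
      (Nat.card_eq_finsetCard (mapsL st v S).toFinset)) h3))
    omega

theorem not_mixed (p : F.Pair) : H.cv p.a ≠ 5 := by
  intro hv
  obtain ⟨S, hS, -, h1, h2⟩ := H.subspace p hv (st := stabR) (gens := gensR) (spaces := spacesR)
    ⟨spaces_props.2.2.1, spaces_props.2.2.2⟩
    (fun g hg e => by
      have := List.all_eq_true.1 stab_complete g hg
      simp [e] at this
      exact this.2)
    (fun w hw => by
      have := List.all_eq_true.1 gens_fix.2.1 w hw
      simpa [List.all_eq_true] using this)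
    (fun S hS => by
      have := List.all_eq_true.1 close_spacesR S hS
      simpa [List.all_eq_true, List.any_eq_true, List.contains_iff_mem, or_assoc] using this)
  have := List.all_eq_true.1 excludedR S hS
  simp only [Bool.or_eq_true, decide_eq_true_iff] at this
  rcases this with e | e <;> omega

theorem pure_D (p : F.Pair) (hv : H.cv p.a = 17) {x : G} (hx : x ∈ F.Q) : x ∈ p.D ↔ H.cv x ∈ W0 := by
  obtain ⟨S, hS, hiff, h1, h2⟩ := H.subspace p hv (st := stabP) (gens := gensP) (spaces := spacesP)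
    ⟨spaces_props.1, spaces_props.2.1⟩
    (fun g hg e => by
      have := List.all_eq_true.1 stab_complete g hg
      simp [e] at this
      exact this.1)
    (fun w hw => by
      have := List.all_eq_true.1 gens_fix.1 w hw
      simpa [List.all_eq_true] using this)
    (fun S hS => by
      have := List.all_eq_true.1 close_spacesP S hS
      simpa [List.all_eq_true, List.any_eq_true, List.contains_iff_mem, or_assoc] using this)
  have := List.all_eq_true.1 excludedP S hS
  simp only [Bool.or_eq_true, decide_eq_true_iff, beq_iff_eq] at this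
  rcases this with (e | e) | e
  · rw [← e]
    exact ⟨fun h => (hiff _).2 ⟨x, h, rfl⟩, fun h => H.mem_D_of_P p hx ((hiff _).1 h)⟩
  · omega
  · omega

end Frame.Chart

end Cfsg.Agent.Invol.ExtraEight
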