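import Cfsg.Agent.Lib.Invol.ExtraEight.Setting
import Mathlib.Data.Fintype.Perm

/-!
# An involution centraliser of shape 2^{1+8} by (C3 x A6) by 2: a conjugate of `z` in `Q`

For `a = g z g⁻¹` in `Q`, `D` is the intersection of `Q` with the conjugate extraspecial group at `a`,
and `X` is the image in `C(z)/Q` of the centraliser of `z` in that group.
-/

set_option autoImplicit false

namespace Cfsg.Agent.Invol.ExtraEight

open Subgroup

universe u

namespace Frame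

variable {G : Type u} [Group G] [Finite G] (F : Frame G)

theorem comm_eq_one_iff {x y : G} : x * y * x⁻¹ * y⁻¹ = 1 ↔ x * y = y * x :=
  commutatorElement_eq_one_iff_commute (g₁ := x) (g₂ := y)

theorem card_centralizer {b : G} (hb : b ∈ F.Q) (h1 : b ≠ 1) (hz : b ≠ F.z) :
    Nat.card ↥(F.Q ⊓ centralizer ({b} : Set G)) = 256 ∧
      ∀ w ∈ F.Q, (∀ v ∈ F.Q, v * b = b * v → w * v = v * w) → w = 1 ∨ w = F.z ∨ w = b ∨ w = b * F.z := by
  have hn : b ∉ zpowers F.z := fun h => (F.z_zpowers h).elim h1 hz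
  set E := F.adj (zpowers F.z) (mem_zpowers _) (zpowers_le.2 F.z_mem) b hb
  have hC : F.CQ E = F.Q ⊓ centralizer ({b} : Set G) := by
    ext v
    rw [F.mem_CQ, mem_inf, mem_centralizer_singleton_iff]
    refine ⟨fun ⟨h, h'⟩ => ⟨h, (h' b F.mem_adj_self).symm⟩, fun ⟨h, h'⟩ => ⟨h, ?_⟩⟩
    rintro d (hd | hd)
    · rcases F.z_zpowers hd with rfl | rfl <;> simp [F.z_comm v h]
    · have hd' : d = b⁻¹ * (b * d) := by group
      rcases F.z_zpowers hd with e | e <;> rw [hd', e]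
      · rw [mul_one]; exact (Commute.inv_right (show Commute v b from h')).eq.symm
      · exact (((Commute.inv_right (show Commute v b from h')).mul_right (show Commute v F.z from F.z_comm v h))).eq.symm
  obtain ⟨hc, hd⟩ := F.perp E (F.le_adj (mem_zpowers _)) F.adj_le
  refine ⟨?_, fun w hw h => ?_⟩
  · rw [hC, F.card_adj hn, F.card_z] at hc
    omega
  · rcases hd w hw (fun v hv => by
      rw [hC, mem_inf, mem_centralizer_singleton_iff] at hv
      exact h v hv.1 hv.2) with h' | h'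
    · rcases F.z_zpowers h' with rfl | rfl <;> simp
    · rcases F.z_zpowers h' with e | e
      · rcases F.sq b hb with s | s
        · exact Or.inr (Or.inr (Or.inl (mul_left_cancel (e.trans s.symm))))
        · exact Or.inr (Or.inr (Or.inr (mul_left_cancel (e.trans (by rw [← mul_assoc, s, F.zz])))))
      · rcases F.sq b hb with s | s
        · exact Or.inr (Or.inr (Or.inr (mul_left_cancel (e.trans (by rw [← mul_assoc, s, one_mul])))))
        · exact Or.inr (Or.inr (Or.inl (mul_left_cancel (e.trans s.symm))))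

theorem card_P36 : Nat.card P36 = 4320 := by
  rw [Nat.card_eq_fintype_card, Fintype.card_prod, Fintype.card_perm, Fintype.card_perm]; rfl

theorem sq_one_of_conj {x : G} (hx : x * x = 1) (g : G) : (g * x * g⁻¹) * (g * x * g⁻¹) = 1 := by
  calc (g * x * g⁻¹) * (g * x * g⁻¹) = g * (x * x) * g⁻¹ := by group
    _ = 1 := by rw [hx]; group

theorem conj_mem_imp {g : G} (h : g⁻¹ * F.z * g ∈ F.Q) : g * F.z * g⁻¹ ∈ F.Q := by
  by_contra ha
  have hbne : g⁻¹ * F.z * g ≠ F.z := fun e => ha (by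
    rw [show g * F.z * g⁻¹ = F.z from by nth_rw 1 [← e]; group]; exact F.z_mem)
  have hb1 : g⁻¹ * F.z * g ≠ 1 := fun e => F.z_ne (by
    calc F.z = g * (g⁻¹ * F.z * g) * g⁻¹ := by group
      _ = 1 := by rw [e]; group)
  obtain ⟨hcard, hcen⟩ := F.card_centralizer h hb1 hbne
  set Cb := F.Q ⊓ centralizer ({g⁻¹ * F.z * g} : Set G)
  have hM : ∀ y ∈ Cb, g * y * g⁻¹ ∈ F.M := fun y hy => by
    have := mem_centralizer_singleton_iff.1 (mem_inf.1 hy).2
    rw [F.mem_M]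
    calc g * y * g⁻¹ * F.z = g * (y * (g⁻¹ * F.z * g)) * g⁻¹ := by group
      _ = _ := by rw [this]; group
  let ψ : ↥Cb →* P36 := MonoidHom.mk' (fun y => F.π (g * y * g⁻¹)) fun y w => by
    rw [← F.π_mul' (hM y y.2) (hM w w.2)]; congr 1; push_cast; group
  have hker : ∀ y : ↥Cb, y ∈ ψ.ker → (y : G) = 1 ∨ (y : G) = g⁻¹ * F.z * g := by
    intro y hy
    have hyQ : g * y * g⁻¹ ∈ F.Q := (F.π_iff (hM y y.2)).1 hy
    have hy' := (mem_inf.1 y.2).1
    have hcentral : ∀ v ∈ F.Q, v * (g⁻¹ * F.z * g) = (g⁻¹ * F.z * g) * v → (y : G) * v = v * y := by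
      intro v hv hvb
      rcases F.comm' hv hy' with e | e
      · exact (comm_eq_one_iff.1 e).symm
      · refine absurd ?_ ha
        rw [← e]
        have h1 := F.norm' (hM v (mem_inf.2 ⟨hv, mem_centralizer_singleton_iff.2 hvb⟩)) hyQ
        rw [show g * (v * (y : G) * v⁻¹ * (y : G)⁻¹) * g⁻¹ =
          g * v * g⁻¹ * (g * y * g⁻¹) * (g * v * g⁻¹)⁻¹ * (g * y * g⁻¹)⁻¹ by group]
        exact mul_mem h1 (inv_mem hyQ)
    rcases hcen y hy' hcentral with e | e | e | e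
    · exact Or.inl e
    · exact absurd (e ▸ hyQ) ha
    · exact Or.inr e
    · refine absurd ?_ ha
      rw [e] at hyQ
      have : g * F.z * g⁻¹ = F.z⁻¹ * (g * (g⁻¹ * F.z * g * F.z) * g⁻¹) := by group
      rw [this]
      exact mul_mem (inv_mem F.z_mem) hyQ
  have hk : Nat.card ↥ψ.ker ≤ 2 := by
    classical
    refine (Nat.card_le_card_of_injective (fun y : ↥ψ.ker => decide (((y : ↥Cb) : G) = 1)) ?_).trans (by simp)
    intro y w e
    rcases hker y y.2 with hy | hy <;> rcases hker w w.2 with hw | hw <;>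
      simp only [hy, hw, hb1, decide_eq_decide] at e <;>
      first | exact Subtype.ext (Subtype.ext (hy.trans hw.symm)) | simp at e
  have hmul := ψ.ker.card_mul_index
  rw [index_ker, hcard] at hmul
  have h1 : Nat.card ↥ψ.range ∣ 4320 := card_P36 ▸ card_subgroup_dvd_card _
  have h2 : Nat.card ↥ψ.range ∣ 256 := ⟨_, by rw [mul_comm, hmul]⟩
  have h3 : Nat.card ↥ψ.range ∣ 32 := by
    have := Nat.dvd_gcd h1 h2
    exact this
  have := Nat.le_of_dvd (by norm_num) h3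
  nlinarith [hmul, hk, Nat.card_pos (α := ↥ψ.ker)]

/-- The symmetry of the relation "lies in the extraspecial group of". -/
theorem conj_mem_iff {g : G} : g * F.z * g⁻¹ ∈ F.Q ↔ g⁻¹ * F.z * g ∈ F.Q := by
  refine ⟨fun h => ?_, F.conj_mem_imp⟩
  have := F.conj_mem_imp (g := g⁻¹) (by rwa [inv_inv])
  rwa [inv_inv] at this

/-- A conjugate of `z` in `Q` other than `z`, with a conjugating element. -/
structure Pair where
  g : G
  mem : g * F.z * g⁻¹ ∈ F.Q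
  ne : g * F.z * g⁻¹ ≠ F.z

namespace Pair

variable {F} (p : F.Pair)

/-- The conjugate. -/
def a : G := p.g * F.z * p.g⁻¹

/-- The preimage of `z`. -/
def b : G := p.g⁻¹ * F.z * p.g

theorem a_mem : p.a ∈ F.Q := p.mem

theorem b_mem : p.b ∈ F.Q := F.conj_mem_iff.1 p.mem

theorem conj_b : p.g * p.b * p.g⁻¹ = F.z := by rw [b]; group

theorem conj_z : p.g⁻¹ * p.a * p.g = F.z := by rw [a]; group

theorem b_ne : p.b ≠ F.z := fun e => p.ne (by
  have h : p.g * F.z = F.z * p.g := by nth_rw 1 [← e]; rw [b]; group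
  rw [h]; group)

theorem b_one : p.b ≠ 1 := fun e => F.z_ne (by rw [← p.conj_b, e]; group)

theorem a_one : p.a ≠ 1 := fun e => F.z_ne (by rw [← p.conj_z, e]; group)

/-- The centraliser of `b` in `Q`. -/
def Cb : Subgroup G := F.Q ⊓ centralizer ({p.b} : Set G)

theorem card_Cb : Nat.card ↥p.Cb = 256 := (F.card_centralizer p.b_mem p.b_one p.b_ne).1

theorem Cb_M {y : G} (hy : y ∈ p.Cb) : p.g * y * p.g⁻¹ ∈ F.M := by
  have := mem_centralizer_singleton_iff.1 (mem_inf.1 hy).2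
  rw [F.mem_M]
  calc p.g * y * p.g⁻¹ * F.z = p.g * (y * p.b) * p.g⁻¹ := by rw [b]; group
    _ = _ := by rw [this, b]; group

theorem Cb_a {y : G} (hy : y ∈ p.Cb) : p.g * y * p.g⁻¹ * p.a = p.a * (p.g * y * p.g⁻¹) := by
  have := F.z_comm y (mem_inf.1 hy).1
  calc p.g * y * p.g⁻¹ * p.a = p.g * (y * F.z) * p.g⁻¹ := by rw [a]; group
    _ = _ := by rw [this, a]; group

/-- The intersection of the two extraspecial groups. -/
def D : Subgroup G := F.Q ⊓ F.Q.comap (MulAut.conj p.g⁻¹).toMonoidHom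

theorem mem_D {d : G} : d ∈ p.D ↔ d ∈ F.Q ∧ p.g⁻¹ * d * p.g ∈ F.Q := by
  rw [D, mem_inf, mem_comap, MulEquiv.coe_toMonoidHom, MulAut.conj_apply, inv_inv]

theorem z_D : F.z ∈ p.D := p.mem_D.2 ⟨F.z_mem, p.b_mem⟩

theorem a_D : p.a ∈ p.D := p.mem_D.2 ⟨p.a_mem, by rw [p.conj_z]; exact F.z_mem⟩

theorem D_sq {d : G} (hd : d ∈ p.D) : d * d = 1 := by
  obtain ⟨h1, h2⟩ := p.mem_D.1 hd
  rcases F.sq d h1 with e | e
  · exact e
  · have e2 : p.g⁻¹ * d * p.g * (p.g⁻¹ * d * p.g) = p.b := by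
      calc p.g⁻¹ * d * p.g * (p.g⁻¹ * d * p.g) = p.g⁻¹ * (d * d) * p.g := by group
        _ = p.b := by rw [e, b]
    rcases F.sq _ h2 with e' | e'
    · exact absurd (e2.symm.trans e') p.b_one
    · exact absurd (e2.symm.trans e') p.b_ne

theorem D_comm {c d : G} (hc : c ∈ p.D) (hd : d ∈ p.D) : c * d = d * c := by
  have h := p.D_sq (mul_mem hc hd)
  calc c * d = (c * c) * (c * d)⁻¹ * (d * d) := by
        rw [p.D_sq hc, p.D_sq hd, inv_eq_of_mul_eq_one_right h]; group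
    _ = c * (c * d⁻¹) * (c⁻¹ * (d * d)) := by group
    _ = d * c := by
        rw [show c * (c * d⁻¹) = (c * c) * d⁻¹ by group, p.D_sq hc, p.D_sq hd,
          inv_eq_of_mul_eq_one_right (p.D_sq hd), inv_eq_of_mul_eq_one_right (p.D_sq hc)]
        group

theorem D_a {d : G} (hd : d ∈ p.D) : d * p.a = p.a * d := p.D_comm hd p.a_D

theorem card_D_le : Nat.card ↥p.D * Nat.card ↥p.D ≤ 1024 := by
  rw [← (F.perp p.D p.z_D inf_le_left).1]
  exact Nat.mul_le_mul_left _ (card_le_of_le fun d hd =>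
    F.mem_CQ.2 ⟨(p.mem_D.1 hd).1, fun e he => p.D_comm he hd⟩)

theorem comm_D {y : G} (hy : y ∈ p.Cb) {x : G} (hx : x ∈ F.Q) (hxa : x * p.a = p.a * x) :
    (p.g * y * p.g⁻¹) * x * (p.g * y * p.g⁻¹)⁻¹ * x⁻¹ ∈ p.D := by
  refine p.mem_D.2 ⟨mul_mem (F.norm' (p.Cb_M hy) hx) (inv_mem hx), ?_⟩
  have hx' : p.g⁻¹ * x * p.g ∈ F.M := F.conj_M hxa
  rw [show p.g⁻¹ * ((p.g * y * p.g⁻¹) * x * (p.g * y * p.g⁻¹)⁻¹ * x⁻¹) * p.g =
    y * ((p.g⁻¹ * x * p.g) * y⁻¹ * (p.g⁻¹ * x * p.g)⁻¹) by group]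
  exact mul_mem (mem_inf.1 hy).1 (F.norm' hx' (inv_mem (mem_inf.1 hy).1))

theorem comm_a {y : G} (hy : y ∈ p.Cb) {d : G} (hd : d ∈ p.D) :
    (p.g * y * p.g⁻¹) * d * (p.g * y * p.g⁻¹)⁻¹ * d⁻¹ = 1 ∨
      (p.g * y * p.g⁻¹) * d * (p.g * y * p.g⁻¹)⁻¹ * d⁻¹ = p.a := by
  have e : (p.g * y * p.g⁻¹) * d * (p.g * y * p.g⁻¹)⁻¹ * d⁻¹ =
      p.g * (y * (p.g⁻¹ * d * p.g) * y⁻¹ * (p.g⁻¹ * d * p.g)⁻¹) * p.g⁻¹ := by group
  rcases F.comm' (mem_inf.1 hy).1 (p.mem_D.1 hd).2 with h | h <;> rw [e, h]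
  · exact Or.inl (by group)
  · exact Or.inr rfl

/-- The homomorphism onto `X`. -/
def ψ : ↥p.Cb →* P36 := MonoidHom.mk' (fun y => F.π (p.g * y * p.g⁻¹)) fun y w => by
  rw [← F.π_mul' (p.Cb_M y.2) (p.Cb_M w.2)]; congr 1; push_cast; group

theorem card_ker : Nat.card ↥p.ψ.ker = Nat.card ↥p.D := by
  refine Nat.card_congr
    { toFun := fun y => ⟨p.g * y * p.g⁻¹, p.mem_D.2 ⟨(F.π_iff (p.Cb_M y.1.2)).1 y.2, ?_⟩⟩
      invFun := fun d => ⟨⟨p.g⁻¹ * d * p.g, mem_inf.2 ⟨(p.mem_D.1 d.2).2, ?_⟩⟩, ?_⟩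
      left_inv := fun y => by ext; show p.g⁻¹ * (p.g * _ * p.g⁻¹) * p.g = _; group
      right_inv := fun d => by ext; show p.g * (p.g⁻¹ * _ * p.g) * p.g⁻¹ = _; group }
  · rw [show p.g⁻¹ * (p.g * (y : ↥p.Cb) * p.g⁻¹) * p.g = ((y : ↥p.Cb) : G) by group]
    exact (mem_inf.1 y.1.2).1
  · refine mem_centralizer_singleton_iff.2 ?_
    have := F.z_comm d (p.mem_D.1 d.2).1
    calc p.g⁻¹ * d * p.g * p.b = p.g⁻¹ * (d * F.z) * p.g := by rw [b]; group
      _ = _ := by rw [this, b]; group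
  · show F.π (p.g * (p.g⁻¹ * d * p.g) * p.g⁻¹) = 1
    rw [show p.g * (p.g⁻¹ * (d : G) * p.g) * p.g⁻¹ = (d : G) by group]
    exact (F.π_iff (F.Q_le (p.mem_D.1 d.2).1)).2 (p.mem_D.1 d.2).1

theorem card_X : Nat.card ↥p.ψ.range * Nat.card ↥p.D = 256 := by
  rw [← p.card_ker, mul_comm, ← index_ker, card_mul_index, p.card_Cb]

theorem X_sq {x : P36} (hx : x ∈ p.ψ.range) : x * x = 1 := by
  obtain ⟨y, rfl⟩ := hx
  rw [← map_mul]
  show F.π (p.g * (y * y : G) * p.g⁻¹) = 1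
  rcases F.sq y (mem_inf.1 y.2).1 with e | e
  · rw [e, show p.g * 1 * p.g⁻¹ = (1 : G) by group]; exact F.π_one
  · rw [e]; exact (F.π_iff (F.Q_le p.mem)).2 p.mem

/-- A function telling the actions on `D` apart takes at least `|D|/4` values. -/
theorem card_actions {β : Type*} [Finite β] (Φ : ↥p.Cb → β)
    (h : ∀ y w, Φ y = Φ w → ∀ d ∈ p.D,
      (p.g * y * p.g⁻¹) * d * (p.g * y * p.g⁻¹)⁻¹ = (p.g * w * p.g⁻¹) * d * (p.g * w * p.g⁻¹)⁻¹) :
    Nat.card ↥p.D ≤ 4 * Nat.card ↥(Set.range Φ) := by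
  classical
  set Db : Subgroup G := p.D.map (MulAut.conj p.g⁻¹).toMonoidHom
  have hmem : ∀ {d : G}, d ∈ p.D → p.g⁻¹ * d * p.g ∈ Db := fun {d} hd =>
    ⟨d, hd, by rw [MulEquiv.coe_toMonoidHom, MulAut.conj_apply, inv_inv]⟩
  have hzb : F.z ∈ Db := p.conj_z ▸ hmem p.a_D
  have hbb : p.b ∈ Db := hmem p.z_D
  have hle : Db ≤ F.Q := by
    rintro _ ⟨d, hd, rfl⟩
    rw [MulEquiv.coe_toMonoidHom, MulAut.conj_apply, inv_inv]
    exact (p.mem_D.1 hd).2
  have hcd : Nat.card ↥Db = Nat.card ↥p.D := card_map_of_injective (MulAut.conj p.g⁻¹).injective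
  obtain ⟨hc, -⟩ := F.perp Db hzb hle
  have hK : F.CQ Db ≤ p.Cb := fun w hw =>
    mem_inf.2 ⟨(F.mem_CQ.1 hw).1, mem_centralizer_singleton_iff.2 ((F.mem_CQ.1 hw).2 p.b hbb).symm⟩
  set K := (F.CQ Db).subgroupOf p.Cb
  have hKc : Nat.card ↥K = Nat.card ↥(F.CQ Db) := Nat.card_congr (subgroupOfEquivOfLe hK).toEquiv
  have hinj : Function.Injective (fun q : ↥p.Cb ⧸ K => (⟨Φ q.out, q.out, rfl⟩ : ↥(Set.range Φ))) := by
    intro q r e
    have e' : Φ q.out = Φ r.out := congrArg Subtype.val e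
    rw [← q.out_eq', ← r.out_eq', QuotientGroup.eq]
    refine mem_subgroupOf.2 (F.mem_CQ.2 ⟨(mem_inf.1 (q.out⁻¹ * r.out).2).1, ?_⟩)
    rintro _ ⟨d, hd, rfl⟩
    rw [MulEquiv.coe_toMonoidHom, MulAut.conj_apply, inv_inv]
    have := h _ _ e' d hd
    push_cast
    set y := ((q.out : ↥p.Cb) : G)
    set w := ((r.out : ↥p.Cb) : G)
    calc p.g⁻¹ * d * p.g * (y⁻¹ * w) = p.g⁻¹ * (d * (p.g * y * p.g⁻¹)⁻¹) * (p.g * w * p.g⁻¹) * p.g := by group
      _ = p.g⁻¹ * ((p.g * y * p.g⁻¹)⁻¹ * ((p.g * y * p.g⁻¹) * d * (p.g * y * p.g⁻¹)⁻¹)) * (p.g * w * p.g⁻¹) * p.g := by group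
      _ = y⁻¹ * w * (p.g⁻¹ * d * p.g) := by rw [this]; group
  have hi : Nat.card (↥p.Cb ⧸ K) ≤ Nat.card ↥(Set.range Φ) := Nat.card_le_card_of_injective _ hinj
  have hm := K.card_mul_index
  rw [p.card_Cb, hKc, index_eq_card] at hm
  rw [hcd] at hc
  have h2 : Nat.card ↥p.D * Nat.card ↥(F.CQ Db) = 4 * Nat.card (↥p.Cb ⧸ K) * Nat.card ↥(F.CQ Db) := by
    rw [hc, mul_assoc, mul_comm (Nat.card (↥p.Cb ⧸ K)), hm]
    <;> rfl
  rw [Nat.eq_of_mul_eq_mul_right Nat.card_pos h2]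
  exact Nat.mul_le_mul_left 4 hi

theorem conj_D {m : G} (hm : m ∈ F.M) (hma : m * p.a = p.a * m) {d : G} (hd : d ∈ p.D) :
    m * d * m⁻¹ ∈ p.D := by
  refine p.mem_D.2 ⟨F.norm' hm (p.mem_D.1 hd).1, ?_⟩
  rw [show p.g⁻¹ * (m * d * m⁻¹) * p.g = p.g⁻¹ * m * p.g * (p.g⁻¹ * d * p.g) * (p.g⁻¹ * m * p.g)⁻¹ by group]
  exact F.norm' (F.conj_M hma) (p.mem_D.1 hd).2

/-- Every element fixing `a` modulo `z` can be corrected by `Q` to centralise `a`. -/
theorem lift_a {m : G} (hm : m ∈ F.M) (h : m * p.a * m⁻¹ = p.a ∨ m * p.a * m⁻¹ = p.a * F.z) :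
    ∃ m', m' ∈ F.M ∧ m' * p.a = p.a * m' ∧ F.π m' = F.π m := by
  rcases h with h | h
  · exact ⟨m, hm, mul_inv_eq_iff_eq_mul.1 h, rfl⟩
  obtain ⟨q, hq, hqa⟩ : ∃ q ∈ F.Q, q * p.a ≠ p.a * q := by
    by_contra h'; push Not at h'
    exact (F.centre p.a p.a_mem fun y hy => (h' y hy).symm).elim p.a_one p.ne
  refine ⟨q * m, mul_mem (F.Q_le hq) hm, ?_, ?_⟩
  · have e := (F.comm q hq p.a p.a_mem).resolve_left hqa
    calc q * m * p.a = q * (m * p.a * m⁻¹) * m := by group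
      _ = q * p.a * (F.z * m) := by rw [h]; group
      _ = p.a * q * (F.z * F.z) * m := by rw [e]; group
      _ = _ := by rw [F.zz]; group
  · rw [F.π_mul' (F.Q_le hq) hm, (F.π_iff (F.Q_le hq)).2 hq, one_mul]

theorem conj_az : ∃ h : G, h * F.z * h⁻¹ = p.a * F.z := by
  obtain ⟨q, hq, hqa⟩ : ∃ q ∈ F.Q, q * p.a ≠ p.a * q := by
    by_contra h'; push Not at h'
    exact (F.centre p.a p.a_mem fun y hy => (h' y hy).symm).elim p.a_one p.ne
  refine ⟨q * p.g, ?_⟩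
  have e := (F.comm q hq p.a p.a_mem).resolve_left hqa
  calc q * p.g * F.z * (q * p.g)⁻¹ = q * p.a * q⁻¹ := by rw [a]; group
    _ = p.a * q * F.z * q⁻¹ := by rw [e]
    _ = p.a * (q * F.z) * q⁻¹ := by group
    _ = _ := by rw [F.z_comm q hq]; group

end Pair

end Frame

end Cfsg.Agent.Invol.ExtraEight
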