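import Cfsg.Agent.Lib.Invol.ExtraEight.Endgame
import Cfsg.Agent.Lib.Fus.Extraspecial
import Cfsg.Agent.Lib.Invol.SmallCent.Local
import Cfsg.Agent.S3300
import Cfsg.Agent.Lib.Fus.M23U.Three.Transport

/-!
# No simple group has an involution centraliser of shape 2^{1+8} by (C3 x A6) by 2 (S3283, S3284)
-/

set_option autoImplicit false
set_option linter.unusedSimpArgs false
set_option maxRecDepth 100000

namespace Cfsg.Agent.Invol.ExtraEight

open Subgroup Equiv

universe u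

theorem c_trivial : ∀ p : Perm (Fin 3), p * t3 = t3 * p → p = 1 ∨ p * p ≠ 1 := by decide +kernel

/-- A normal 2-subgroup of a group between `C3 x A6` and `S3 x S6` is trivial. -/
theorem normal_two_trivial (R : Subgroup P36)
    (halt : ∀ p q, Perm.sign p = 1 → Perm.sign q = 1 → (p, q) ∈ R) (N : Subgroup P36)
    (hnorm : ∀ r ∈ R, ∀ n ∈ N, r * n * r⁻¹ ∈ N) (h2 : IsPGroup 2 ↥N) : N = ⊥ := by
  haveI : Fact (Nat.Prime 2) := ⟨Nat.prime_two⟩
  haveI : IsSimpleGroup ↥(alternatingGroup (Fin 6)) := alternatingGroup.isSimpleGroup (by simp)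
  let ι : ↥(alternatingGroup (Fin 6)) →* P36 :=
    (MonoidHom.inr (Perm (Fin 3)) (Perm (Fin 6))).comp (alternatingGroup (Fin 6)).subtype
  have hι : ∀ s, ι s ∈ R := fun s => halt _ _ (map_one _) (Perm.mem_alternatingGroup.1 s.2)
  haveI hn : (N.comap ι).Normal := ⟨fun n hn g => by
    rw [mem_comap, map_mul, map_mul, map_inv]; exact hnorm _ (hι g) _ hn⟩
  have hbot : N.comap ι = ⊥ := by
    refine hn.eq_bot_or_eq_top.resolve_right fun h => ?_
    have hinj : Function.Injective ι := fun a b e => Subtype.ext (congrArg Prod.snd e)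
    have hc : Nat.card ↥(N.comap ι) ∣ Nat.card ↥N :=
      card_dvd_of_injective (ι.subgroupComap N) fun a b e => Subtype.ext (hinj (congrArg Subtype.val e))
    rw [h, card_top, card_alt6] at hc
    obtain ⟨k, hk⟩ := IsPGroup.iff_card.1 h2
    rw [hk] at hc
    have h5 := (Nat.Prime.prime (by norm_num : Nat.Prime 5)).dvd_of_dvd_pow (dvd_trans (by norm_num : 5 ∣ 360) hc)
    norm_num at h5
  have hsnd : ∀ n ∈ N, ∀ i < 4, n.2 * (perms false).getD i 1 = (perms false).getD i 1 * n.2 := by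
    intro n hn i hi
    have hs : Perm.sign ((perms false).getD i 1) = 1 := Mod.perm_even false i
    have hs' : Perm.sign ((perms false).getD i 1 * n.2 * ((perms false).getD i 1)⁻¹ * n.2⁻¹) = 1 := by
      rw [map_mul, map_mul, map_mul, map_inv, map_inv, hs]; simp
    have hc : ι ⟨_, Perm.mem_alternatingGroup.2 hs'⟩ ∈ N := by
      have h := mul_mem (hnorm (1, (perms false).getD i 1) (halt _ _ (map_one _) hs) n hn) (inv_mem hn)
      convert h using 1
      exact Prod.ext (by simp [ι]) (by simp [ι])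
    have h1 : (⟨_, Perm.mem_alternatingGroup.2 hs'⟩ : ↥(alternatingGroup (Fin 6))) ∈ N.comap ι := hc
    rw [hbot, mem_bot] at h1
    exact (mul_inv_eq_iff_eq_mul.1 (mul_inv_eq_one.1 (congrArg Subtype.val h1))).symm
  have hsq : ∀ n ∈ N, n * n = 1 → n = 1 := by
    intro n hn hnn
    have h2' : n.2 = 1 := centralizer_alt _ (hsnd n hn)
    refine Prod.ext ?_ h2'
    have hc : (t3, (1 : Perm (Fin 6))) * n * (t3, 1)⁻¹ * n⁻¹ ∈ N :=
      mul_mem (hnorm _ (halt _ _ (by decide) (map_one _)) n hn) (inv_mem hn)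
    have hfst : n.1 * n.1 = 1 := congrArg Prod.fst hnn
    have hcase : ∀ p : Perm (Fin 3), p * p = 1 → p = 1 ∨
        ((t3 * p * t3⁻¹ * p⁻¹) * (t3 * p * t3⁻¹ * p⁻¹) * (t3 * p * t3⁻¹ * p⁻¹) = 1 ∧ t3 * p * t3⁻¹ * p⁻¹ ≠ 1) := by
      decide +kernel
    rcases hcase n.1 hfst with e | ⟨e3, ene⟩
    · exact e
    exfalso
    obtain ⟨j, hj⟩ := h2 ⟨_, hc⟩
    have h3 : ((t3, (1 : Perm (Fin 6))) * n * (t3, 1)⁻¹ * n⁻¹).1 ^ 2 ^ j = 1 := by
      have := congrArg (fun x : ↥N => (x : P36).1) hj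
      simpa using this
    set x := ((t3, (1 : Perm (Fin 6))) * n * (t3, 1)⁻¹ * n⁻¹).1
    have hx3 : x ^ 3 = 1 := by rw [show x ^ 3 = x * x * x by simp [pow_succ, mul_assoc]]; exact e3
    have hcop : Nat.Coprime (2 ^ j) 3 := Nat.Coprime.pow_left j (by norm_num)
    have h1 := orderOf_dvd_of_pow_eq_one h3
    have h2 := orderOf_dvd_of_pow_eq_one hx3
    exact ene (orderOf_eq_one_iff.1 (Nat.eq_one_of_dvd_coprimes hcop h1 h2))
  by_contra hne
  obtain ⟨k, hk⟩ := IsPGroup.iff_card.1 h2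
  have hk0 : k ≠ 0 := fun h => hne (Subgroup.card_eq_one.1 (by rw [hk, h, pow_zero]))
  obtain ⟨x, hx⟩ := exists_prime_orderOf_dvd_card' 2 (G := ↥N) (hk ▸ dvd_pow_self 2 hk0)
  have h2x : (x : P36) * x = 1 := by
    have := pow_orderOf_eq_one x
    rw [hx, pow_two] at this
    exact congrArg Subtype.val this
  rw [Subtype.ext (hsq x x.2 h2x) (a2 := (1 : ↥N)), orderOf_one] at hx
  omega

variable {G : Type u} [Group G] [Finite G]

/-- A simple group has no such centraliser. -/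
theorem no_simple [IsSimpleGroup G] (hG : ¬ IsMulCommutative G) (z : G) (hz : orderOf z = 2)
    (Q₀ : Subgroup ↥(centralizer ({z} : Set G))) (hQn : Q₀.Normal) (hext : Cfsg.IsExtraspecial 2 ↥Q₀)
    (hcard : Nat.card ↥Q₀ = 2 ^ 9) (hcent : centralizer (Q₀ : Set ↥(centralizer ({z} : Set G))) ≤ Q₀)
    (θ : ↥(centralizer ({z} : Set G)) →* P36) (hker : θ.ker = Q₀)
    (halt : ∀ p q, Perm.sign p = 1 → Perm.sign q = 1 → (p, q) ∈ θ.range)
    (hodd : ∃ m, Perm.sign (θ m).1 = -1) : False := by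
  classical
  haveI : Fact (Nat.Prime 2) := ⟨Nat.prime_two⟩
  have hzz : z * z = 1 := by rw [← pow_two, ← hz]; exact pow_orderOf_eq_one z
  have hz1 : z ≠ 1 := fun h => by rw [h, orderOf_one] at hz; omega
  have hzM : z ∈ (centralizer ({z} : Set G)) := mem_centralizer_singleton_iff.2 rfl
  have hMz : ∀ {m : G}, m ∈ (centralizer ({z} : Set G)) ↔ m * z = z * m := fun {m} => mem_centralizer_singleton_iff
  set zM : ↥(centralizer ({z} : Set G)) := ⟨z, hzM⟩
  have hzc : ∀ m : ↥(centralizer ({z} : Set G)), zM * m = m * zM := fun m => Subtype.ext (hMz.1 m.2).symm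
  have hzQ : zM ∈ Q₀ := hcent (mem_centralizer_iff.2 fun m _ => (hzc m).symm)
  have hc2 := hext.2
  have hZ : ∀ x : ↥Q₀, x ∈ center ↥Q₀ → x = 1 ∨ x = ⟨zM, hzQ⟩ := by
    intro x hx
    have hzc' : (⟨zM, hzQ⟩ : ↥Q₀) ∈ center ↥Q₀ := mem_center_iff.2 fun y => Subtype.ext (hzc y).symm
    obtain ⟨w, -, hw⟩ := (Nat.card_eq_two_iff' (1 : ↥(center ↥Q₀))).1 hc2
    by_cases h : x = 1
    · exact Or.inl h
    · refine Or.inr ?_
      have e1 := hw ⟨x, hx⟩ fun e => h (congrArg Subtype.val e)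
      have e2 := hw ⟨_, hzc'⟩ fun e => hz1 (congrArg (fun t : ↥(center ↥Q₀) => (((t : ↥Q₀) : ↥(centralizer ({z} : Set G))) : G)) e)
      exact congrArg Subtype.val (e1.trans e2.symm)
  obtain ⟨hsq, hcomm⟩ := Fus.extraspecial_two_facts hext
  set Q : Subgroup G := Q₀.map (centralizer ({z} : Set G)).subtype
  have hmemQ : ∀ {x : G}, x ∈ Q → ∃ y : ↥Q₀, ((y : ↥(centralizer ({z} : Set G))) : G) = x := by
    rintro x ⟨y, hy, rfl⟩; exact ⟨⟨y, hy⟩, rfl⟩
  have hQM : Q ≤ (centralizer ({z} : Set G)) := map_subtype_le _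
  let π : G → P36 := fun g => if h : g ∈ (centralizer ({z} : Set G)) then θ ⟨g, h⟩ else 1
  have hπ : ∀ {g : G} (h : g ∈ (centralizer ({z} : Set G))), π g = θ ⟨g, h⟩ := fun h => dif_pos h
  have hcent' : ∀ m : G, (∀ x ∈ Q, m * x = x * m) → m ∈ Q := fun m hm => by
    have hmM : m ∈ (centralizer ({z} : Set G)) := hMz.2 (hm z ⟨zM, hzQ, rfl⟩)
    exact ⟨⟨m, hmM⟩, hcent (mem_centralizer_iff.2 fun y hy => Subtype.ext (hm y ⟨y, hy, rfl⟩).symm), rfl⟩
  let F : Frame G :=
    { z := z, Q := Q, π := π, zz := hzz, z_ne := hz1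
      z_mem := ⟨zM, hzQ, rfl⟩
      z_comm := fun x hx => hMz.1 (hQM hx)
      norm := fun m hm x hx => by
        obtain ⟨y, hy, rfl⟩ := hx
        exact ⟨⟨m, hMz.2 hm⟩ * y * ⟨m, hMz.2 hm⟩⁻¹, hQn.conj_mem y hy _, rfl⟩
      card_Q := by rw [card_map_of_injective (centralizer ({z} : Set G)).subtype_injective, hcard]; norm_num
      sq := fun x hx => by
        obtain ⟨y, rfl⟩ := hmemQ hx
        rcases hZ _ (hsq y) with e | e
        · left; simpa [pow_two] using congrArg (fun t : ↥Q₀ => (((t : ↥(centralizer ({z} : Set G)))) : G)) e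
        · right; simpa [pow_two] using congrArg (fun t : ↥Q₀ => (((t : ↥(centralizer ({z} : Set G)))) : G)) e
      comm := fun x hx y hy => by
        obtain ⟨a, rfl⟩ := hmemQ hx
        obtain ⟨b, rfl⟩ := hmemQ hy
        have hbz : ((a : ↥(centralizer ({z} : Set G))) : G) * z = z * (a : ↥(centralizer ({z} : Set G))) := hMz.1 (a : ↥(centralizer ({z} : Set G))).2
        have hbz' : ((b : ↥(centralizer ({z} : Set G))) : G) * z = z * (b : ↥(centralizer ({z} : Set G))) := hMz.1 (b : ↥(centralizer ({z} : Set G))).2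
        rcases hZ _ (hcomm a b) with e | e
        · left
          exact congrArg (fun t : ↥Q₀ => (((t : ↥(centralizer ({z} : Set G)))) : G)) (commutatorElement_eq_one_iff_commute.1 e).eq
        · right
          have h : (((a : ↥(centralizer ({z} : Set G))) : G)) * (b : ↥(centralizer ({z} : Set G))) * ((a : ↥(centralizer ({z} : Set G))) : G)⁻¹ * ((b : ↥(centralizer ({z} : Set G))) : G)⁻¹ = z := by
            simpa [commutatorElement_def] using congrArg (fun t : ↥Q₀ => (((t : ↥(centralizer ({z} : Set G)))) : G)) e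
          calc (((a : ↥(centralizer ({z} : Set G))) : G)) * (b : ↥(centralizer ({z} : Set G))) =
              (((a : ↥(centralizer ({z} : Set G))) : G)) * (b : ↥(centralizer ({z} : Set G))) * ((a : ↥(centralizer ({z} : Set G))) : G)⁻¹ * ((b : ↥(centralizer ({z} : Set G))) : G)⁻¹ * ((b : ↥(centralizer ({z} : Set G))) : G) * (a : ↥(centralizer ({z} : Set G))) := by group
            _ = z * (((b : ↥(centralizer ({z} : Set G))) : G) * (a : ↥(centralizer ({z} : Set G)))) := by rw [h, mul_assoc]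
            _ = _ := by rw [← mul_assoc, ← hbz', mul_assoc, ← hbz, ← mul_assoc]
      centre := fun x hx h => by
        obtain ⟨a, rfl⟩ := hmemQ hx
        rcases hZ a (mem_center_iff.2 fun b => Subtype.ext (Subtype.ext (h _ ⟨b, b.2, rfl⟩).symm)) with e | e
        · exact Or.inl (congrArg (fun t : ↥Q₀ => (((t : ↥(centralizer ({z} : Set G)))) : G)) e)
        · exact Or.inr (congrArg (fun t : ↥Q₀ => (((t : ↥(centralizer ({z} : Set G)))) : G)) e)
      cent := hcent'
      π_mul := fun m n hm hn => by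
        rw [hπ (hMz.2 hm), hπ (hMz.2 hn), hπ (mul_mem (hMz.2 hm) (hMz.2 hn)), ← map_mul]; rfl
      π_eq_one := fun m hm => by
        rw [hπ (hMz.2 hm), ← MonoidHom.mem_ker, hker]
        exact ⟨fun h => ⟨_, h, rfl⟩, fun ⟨y, hy, e⟩ => (Subtype.ext e : y = ⟨m, hMz.2 hm⟩) ▸ hy⟩
      lift := fun p q hp hq => by
        obtain ⟨m, hm⟩ := halt p q hp hq
        exact ⟨m, hMz.1 m.2, by rw [hπ m.2]; exact hm⟩ }
  -- the core
  haveI := hQn
  have hcore : Cfsg.pCore 2 ↥(centralizer ({z} : Set G)) = Q₀ := by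
    refine le_antisymm (sSup_le ?_) (le_sSup ⟨hQn, hext.1.1⟩)
    rintro N ⟨hN, hN2⟩
    have h := normal_two_trivial θ.range halt (N.map θ) (by
      rintro _ ⟨m, rfl⟩ _ ⟨n, hn, rfl⟩
      exact ⟨m * n * m⁻¹, hN.conj_mem n hn m, by simp⟩) (hN2.map θ)
    rw [Subgroup.map_eq_bot_iff, hker] at h
    exact h
  -- a fused conjugate
  have hres : Cfsg.pResidual 2 G = ⊤ := Invol.SmallCent.pResidual_eq_top fun hc => hG (by
    obtain ⟨g, hg⟩ := hc.exists_generator
    refine ⟨⟨fun a b => ?_⟩⟩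
    obtain ⟨i, rfl⟩ := Subgroup.mem_zpowers_iff.1 (hg a)
    obtain ⟨j, rfl⟩ := Subgroup.mem_zpowers_iff.1 (hg b)
    exact zpow_mul_comm g i j)
  let χ : ↥(centralizer ({z} : Set G)) →* ℤˣ := (Perm.sign.comp (MonoidHom.fst (Perm (Fin 3)) (Perm (Fin 6)))).comp θ
  have hχ : Function.Surjective χ := fun u => by
    rcases Int.units_eq_one_or u with rfl | rfl
    · exact ⟨1, map_one _⟩
    · obtain ⟨m, hm⟩ := hodd; exact ⟨m, hm⟩
  set K : Subgroup G := χ.ker.map (centralizer ({z} : Set G)).subtype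
  have hKi : K.relIndex (centralizer ({z} : Set G)) = 2 := by
    have h : K.subgroupOf (centralizer ({z} : Set G)) = χ.ker := comap_map_eq_self_of_injective (centralizer ({z} : Set G)).subtype_injective _
    rw [Subgroup.relIndex, h, index_ker, MonoidHom.range_eq_top.2 hχ, card_top, Nat.card_eq_fintype_card,
      Fintype.card_units_int]
  have hKn : ∀ h ∈ (centralizer ({z} : Set G)), K.map (MulAut.conj h).toMonoidHom = K := by
    intro h hh
    have hle : ∀ g : ↥(centralizer ({z} : Set G)), K.map (MulAut.conj (g : G)).toMonoidHom ≤ K := fun g => by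
      rintro _ ⟨_, ⟨k, hk, rfl⟩, rfl⟩
      exact ⟨g * k * g⁻¹, (MonoidHom.normal_ker χ).conj_mem k hk g, rfl⟩
    refine le_antisymm (hle ⟨h, hh⟩) fun k hk => ?_
    refine ⟨h⁻¹ * k * h, hle ⟨h⁻¹, inv_mem hh⟩ ⟨k, hk, ?_⟩, ?_⟩
    · show h⁻¹ * k * h⁻¹⁻¹ = _
      rw [inv_inv]
    · show h * (h⁻¹ * k * h) * h⁻¹ = k
      group
  obtain ⟨g, hg, hgne⟩ := Cfsg.Agent.S3300.result hres z hz Q
    (show Q = (Cfsg.pCore 2 ↥(centralizer ({z} : Set G))).map (centralizer ({z} : Set G)).subtype by rw [hcore])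
    (Fus.M23U.Three.extraspecial_map (equivMapOfInjective Q₀ (centralizer ({z} : Set G)).subtype (centralizer ({z} : Set G)).subtype_injective) hext)
    (fun m hm => hcent' m fun x hx => (mem_centralizer_iff.1 hm x hx).symm)
    4 (by norm_num) (by rw [card_map_of_injective (centralizer ({z} : Set G)).subtype_injective, hcard]) K (map_subtype_le _) hKn hKi
  let p : F.Pair := ⟨g, hg, hgne⟩
  obtain ⟨H⟩ := F.exists_chart p
  exact H.contradiction p

end Cfsg.Agent.Invol.ExtraEight
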