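import Cfsg.Agent.Lib.Invol.ExtraEight.Quot

/-!
# An involution centraliser of shape 2^{1+8} by (C3 x A6) by 2: the scalar moves more than a plane
-/

set_option autoImplicit false
set_option linter.unusedSectionVars false

namespace Cfsg.Agent.Invol.ExtraEight

open Subgroup Equiv

universe u

theorem card_le_of_sq_three (H : Subgroup (Perm (Fin 3))) (h : ∀ x ∈ H, x * x = 1) : Nat.card ↥H ≤ 2 := by
  haveI : Fact (Nat.Prime 2) := ⟨Nat.prime_two⟩
  have hp : IsPGroup 2 ↥H := fun x => ⟨1, Subtype.ext (by push_cast; rw [pow_two]; exact h x x.2)⟩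
  obtain ⟨k, hk⟩ := IsPGroup.iff_card.1 hp
  have hd : Nat.card ↥H ∣ 6 := by
    have h6 : Nat.card (Perm (Fin 3)) = 6 := by rw [Nat.card_perm, Nat.card_fin]; rfl
    rw [← h6]; exact card_subgroup_dvd_card H
  rw [hk] at hd ⊢
  rcases k with _ | _ | k
  · norm_num
  · norm_num
  · have h4 : 4 ∣ 6 := (dvd_trans (by exact ⟨2 ^ k, by rw [pow_add]; ring⟩) hd)
    norm_num at h4

theorem card_le_of_sq_six (H : Subgroup (Perm (Fin 6))) (h : ∀ x ∈ H, x * x = 1) : Nat.card ↥H ≤ 8 := by
  haveI : Fact (Nat.Prime 2) := ⟨Nat.prime_two⟩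
  have hp : IsPGroup 2 ↥H := fun x => ⟨1, Subtype.ext (by push_cast; rw [pow_two]; exact h x x.2)⟩
  obtain ⟨P, hP⟩ := hp.exists_le_sylow
  have h720 : Nat.card (Perm (Fin 6)) = 2 ^ 4 * 45 := by rw [Nat.card_perm, Nat.card_fin]; rfl
  have hf : (Nat.card (Perm (Fin 6))).factorization 2 = 4 := by
    rw [h720, Nat.factorization_mul (by norm_num) (by norm_num), Finsupp.add_apply,
      Nat.prime_two.factorization_pow, Finsupp.single_eq_same, Nat.factorization_eq_zero_of_not_dvd (by norm_num)]
  have hc : Nat.card ↥(P : Subgroup (Perm (Fin 6))) = 16 := by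
    rw [P.card_eq_multiplicity, hf]; rfl
  obtain ⟨k, hk⟩ := IsPGroup.iff_card.1 hp
  by_contra hcon
  have hle := (card_le_of_le hP).trans_eq hc
  have hk4 : 4 ≤ k := by
    by_contra hlt
    have : 2 ^ k ≤ 2 ^ 3 := Nat.pow_le_pow_right (by norm_num) (by omega)
    omega
  have h16 : 16 ≤ Nat.card ↥H := by
    rw [hk]; exact le_of_eq_of_le (by norm_num) (Nat.pow_le_pow_right (n := 2) (by norm_num) hk4)
  have hHP : H = P := eq_of_le_of_card_ge hP (by omega)
  let r : Perm (Fin 6) := swap 0 1 * swap 1 2 * swap 2 3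
  have hr4 : orderOf r = 2 ^ 2 := orderOf_eq_prime_pow (p := 2) (n := 1) (by decide +kernel) (by decide +kernel)
  have hz : IsPGroup 2 ↥(zpowers r) := IsPGroup.iff_card.2 ⟨2, by rw [Nat.card_zpowers, hr4]⟩
  obtain ⟨P', hP'⟩ := hz.exists_le_sylow
  obtain ⟨g, hg⟩ := MulAction.exists_smul_eq (Perm (Fin 6)) P' P
  have hmem : g * r * g⁻¹ ∈ H := by
    rw [hHP, ← hg, Sylow.coe_subgroup_smul]
    exact ⟨r, hP' (mem_zpowers r), rfl⟩
  have h2 := h _ hmem
  have : r * r = 1 := by
    calc r * r = g⁻¹ * (g * r * g⁻¹ * (g * r * g⁻¹)) * g := by group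
      _ = 1 := by rw [h2]; group
  exact absurd this (by decide +kernel)

theorem plane_base {V : Type u} [AddCommGroup V] [Finite V] (m : Mod V) {x y : V} (hxU : m.U x)
    (hU : ∀ z, m.U z → z = 0 ∨ z = x ∨ z = m.T x ∨ z = x + m.T x) (hy : m.U y) (hy0 : y ≠ 0) :
    ∀ z, m.U z → z = 0 ∨ z = y ∨ z = m.T y ∨ z = y + m.T y := by
  intro z hz
  have eT : m.T (x + m.T x) = x := by rw [m.U_sum hxU, m.TT]
  rcases hU y hy with rfl | rfl | rfl | rfl
  · exact absurd rfl hy0
  · exact hU z hz
  · rcases hU z hz with rfl | rfl | rfl | rfl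
    · exact Or.inl rfl
    · refine Or.inr (Or.inr (Or.inr ?_))
      rw [m.U_sum (m.U_T hxU), m.TT]
    · exact Or.inr (Or.inl rfl)
    · exact Or.inr (Or.inr (Or.inl (m.U_sum hxU)))
  · rcases hU z hz with rfl | rfl | rfl | rfl
    · exact Or.inl rfl
    · exact Or.inr (Or.inr (Or.inl eT.symm))
    · refine Or.inr (Or.inr (Or.inr ?_))
      rw [eT, show x + m.T x + x = m.T x + (x + x) by abel, m.two, add_zero]
    · exact Or.inr (Or.inl rfl)

namespace Frame

namespace Pair

variable {G : Type u} [Group G] [Finite G] {F : Frame G} (p : F.Pair)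

theorem not_small (p : F.Pair) : ¬ F.mod.Small := by
  classical
  rintro ⟨x, hx0, hxU, hU, hfixA⟩
  have hsq : ∀ {r : P36}, r ∈ p.ψ.range → r * r = 1 := fun h => p.X_sq h
  set X1 := p.ψ.range.map (MonoidHom.fst (Perm (Fin 3)) (Perm (Fin 6)))
  set X2 := p.ψ.range.map (MonoidHom.snd (Perm (Fin 3)) (Perm (Fin 6)))
  have h1 : Nat.card ↥X1 ≤ 2 := card_le_of_sq_three _ (by
    rintro _ ⟨r, hr, rfl⟩; rw [← map_mul, hsq hr, map_one])
  have h2 : Nat.card ↥X2 ≤ 8 := card_le_of_sq_six _ (by
    rintro _ ⟨r, hr, rfl⟩; rw [← map_mul, hsq hr, map_one])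
  have hX : Nat.card ↥p.ψ.range ≤ Nat.card ↥X1 * Nat.card ↥X2 := by
    rw [← Nat.card_prod]
    refine Nat.card_le_card_of_injective (fun r => ((⟨r.1.1, r.1, r.2, rfl⟩ : ↥X1), (⟨r.1.2, r.1, r.2, rfl⟩ : ↥X2))) ?_
    intro r s e
    exact Subtype.ext (Prod.ext (congrArg (fun t => (t.1 : Perm (Fin 3))) e) (congrArg (fun t => (t.2 : Perm (Fin 6))) e))
  have hX16 : Nat.card ↥p.ψ.range ≤ 16 := hX.trans (Nat.mul_le_mul h1 h2)
  have hXD := p.card_X
  have htwo := F.mod.two
  have hT : ∀ {r : P36}, r ∈ F.R → ∀ v, F.mod.U v → F.mod.U (F.mod.ρ r v) := by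
    intro r hr v hv
    have ht := F.mod.t_mem
    have key : F.mod.T (F.mod.ρ r v) = F.mod.ρ r (F.mod.T v) ∧ F.mod.T (F.mod.T (F.mod.ρ r v)) = F.mod.ρ r (F.mod.T (F.mod.T v)) ∨
        F.mod.T (F.mod.ρ r v) = F.mod.ρ r (F.mod.T (F.mod.T v)) ∧ F.mod.T (F.mod.T (F.mod.ρ r v)) = F.mod.ρ r (F.mod.T v) := by
      have hcase : t3 * r.1 = r.1 * t3 ∨ t3 * r.1 = r.1 * (t3 * t3) := by
        generalize r.1 = s; revert s; decide +kernel
      have hTr : ∀ w, F.mod.T (F.mod.ρ r w) = F.mod.ρ ((t3, 1) * r) w := fun w => (F.mod.ρ_mul _ ht _ hr w).symm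
      rcases hcase with hc | hc
      · left
        have e : ∀ w, F.mod.T (F.mod.ρ r w) = F.mod.ρ r (F.mod.T w) := fun w => by
          rw [hTr, show ((t3, (1 : Perm (Fin 6))) * r) = r * (t3, 1) from Prod.ext hc (by simp), F.mod.ρ_mul _ hr _ ht]
          rfl
        exact ⟨e v, by rw [e, e]⟩
      · right
        have e : ∀ w, F.mod.T (F.mod.ρ r w) = F.mod.ρ r (F.mod.T (F.mod.T w)) := fun w => by
          rw [hTr, show ((t3, (1 : Perm (Fin 6))) * r) = r * ((t3, 1) * (t3, 1)) from Prod.ext hc (by simp),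
            F.mod.ρ_mul _ hr _ (mul_mem ht ht), F.mod.ρ_mul _ ht _ ht]
          rfl
        exact ⟨e v, by rw [e, e, F.mod.TT]⟩
    unfold Mod.U at hv ⊢
    rcases key with ⟨a, b⟩ | ⟨a, b⟩ <;> rw [b, a, ← map_add, ← map_add]
    · rw [hv, map_zero]
    · rw [show v + F.mod.T (F.mod.T v) + F.mod.T v = v + F.mod.T v + F.mod.T (F.mod.T v) by abel, hv, map_zero]
  -- the decomposition of `cls a`
  set va := F.cls p.a with hva
  have ha0 : va ≠ 0 := fun e => by
    rcases (F.cls_zero_iff p.a_mem).1 e with e | e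
    · exact p.a_one e
    · exact p.ne e
  set vC := va + F.mod.T va + F.mod.T (F.mod.T va) with hvC
  have hvU : F.mod.U (va + vC) := F.mod.U_proj va
  have hcU : ∀ {c : F.V}, F.mod.U c → F.mod.T c = c → c = 0 := fun h h' => F.mod.U_fixed h h'
  by_cases hu : va + vC = 0
  · -- the point is fixed by the scalar
    have haT : F.mod.T va = va := by
      rw [F.mod.eq_of_add_zero hu]; exact F.mod.C_proj va
    have hWC : ∀ w ∈ p.W, F.mod.T w = w := by
      intro w hw
      have hTw : F.mod.T w ∈ p.W := p.W_inv F.mod.t_mem haT hw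
      have hTTw : F.mod.T (F.mod.T w) ∈ p.W := p.W_inv F.mod.t_mem haT hTw
      have hu' : w + (w + F.mod.T w + F.mod.T (F.mod.T w)) = F.mod.T w + F.mod.T (F.mod.T w) := by
        rw [← add_assoc, ← add_assoc, htwo, zero_add]
      have hwU := F.mod.U_proj w
      rw [hu'] at hwU
      have hqz : F.qv (F.mod.T w + F.mod.T (F.mod.T w)) = false := p.W_q (p.W_add hTw hTTw)
      by_contra hne
      have hne' : F.mod.T w + F.mod.T (F.mod.T w) ≠ 0 := fun e => hne (by
        have e' := F.mod.eq_of_add_zero e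
        have := congrArg (fun v => F.mod.T (F.mod.T v)) e'
        simp only [F.mod.TT] at this
        exact this.symm)
      -- nonzero vectors of the plane are nonsingular
      have hq1 : F.mod.q (F.mod.T w + F.mod.T (F.mod.T w)) = true := by
        generalize F.mod.T w + F.mod.T (F.mod.T w) = y at hwU hne'
        refine F.mod.q_one hwU ?_
        obtain ⟨t, ht⟩ := F.mod.nondeg y hne'
        have hsplit : t = (t + F.mod.T t + F.mod.T (F.mod.T t)) + (t + (t + F.mod.T t + F.mod.T (F.mod.T t))) := by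
          rw [show (t + F.mod.T t + F.mod.T (F.mod.T t)) + (t + (t + F.mod.T t + F.mod.T (F.mod.T t))) =
            t + ((t + F.mod.T t + F.mod.T (F.mod.T t)) + (t + F.mod.T t + F.mod.T (F.mod.T t))) by abel, htwo, add_zero]
        rw [hsplit, F.mod.bil, F.mod.orth_U (F.mod.C_proj t) hwU, Bool.false_xor] at ht
        have hy4 := plane_base F.mod hxU hU hwU hne'
        rcases hy4 _ (F.mod.U_proj t) with e | e | e | e <;> rw [e] at ht
        · rw [F.mod.polar_zero] at ht; cases ht
        · rw [F.mod.polar_self] at ht; cases ht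
        · exact ht
        · rw [F.mod.bil, F.mod.polar_self, Bool.false_xor] at ht; exact ht
      exact Bool.false_ne_true (hqz.symm.trans hq1)
    -- the image lies in the symmetric group of degree 6
    have hfst : ∀ r ∈ p.ψ.range, r.1 = 1 := by
      intro r hr
      have hfix : ∀ v, F.mod.U v → F.mod.ρ r v = v := by
        intro v hv
        have hperp : polar F.qv v va = false :=
          (F.mod.polar_comm _ _).trans (F.mod.orth_U haT hv)
        have hmem := p.X_perp hr hperp
        exact F.mod.eq_of_add_zero (hcU (F.mod.U_add (hT (p.X_mem hr) v hv) hv) (hWC _ hmem))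
      have hsq1 : r.1 * r.1 = 1 := congrArg Prod.fst (hsq hr)
      have hcase : ∀ s : Perm (Fin 3), s * s = 1 → s = 1 ∨ s * t3 = t3 * t3 * s := by decide +kernel
      rcases hcase r.1 hsq1 with e | e
      · exact e
      exfalso
      have hTx : F.mod.ρ r (F.mod.T x) = F.mod.T (F.mod.T (F.mod.ρ r x)) := by
        show F.mod.ρ r (F.mod.ρ _ x) = F.mod.ρ _ (F.mod.ρ _ (F.mod.ρ r x))
        rw [← F.mod.ρ_mul _ (p.X_mem hr) _ F.mod.t_mem, ← F.mod.ρ_mul _ F.mod.t_mem _ (p.X_mem hr),
          ← F.mod.ρ_mul _ F.mod.t_mem _ (mul_mem F.mod.t_mem (p.X_mem hr))]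
        exact congrArg (fun t => F.mod.ρ t x) (Prod.ext (by simpa [mul_assoc] using e) (by simp))
      rw [hfix _ (F.mod.U_T hxU), hfix _ hxU] at hTx
      have h3 := F.mod.TT x
      rw [← hTx] at h3
      have h4 : F.mod.T (F.mod.T x) = F.mod.T x := hTx.symm
      have h5 := congrArg F.mod.T h4
      rw [F.mod.TT, h4] at h5
      exact hx0 (hcU hxU h5.symm)
    have hX8 : Nat.card ↥p.ψ.range ≤ 8 := by
      refine le_trans ?_ h2
      refine Nat.card_le_card_of_injective (fun r => (⟨r.1.2, r.1, r.2, rfl⟩ : ↥X2)) ?_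
      intro r s e
      exact Subtype.ext (Prod.ext ((hfst _ r.2).trans (hfst _ s.2).symm) (congrArg Subtype.val e))
    -- count the orthogonal complement
    obtain ⟨xr, hxr, hxc⟩ := F.cls_surj x
    obtain ⟨yr, hyr, hyc⟩ := F.cls_surj (F.mod.T x)
    have hDQ : p.D ≤ F.Q := inf_le_left
    set E1 := F.adj p.D p.z_D hDQ xr hxr
    have hE1z : F.z ∈ E1 := F.le_adj p.z_D
    set E2 := F.adj E1 hE1z F.adj_le yr hyr
    have hxD : xr ∉ p.D := fun h => hx0 (hcU hxU (hWC _ ⟨xr, h, hxc⟩))
    have hyE : yr ∉ E1 := by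
      rintro (h | h)
      · exact hx0 (hcU hxU (by
          have h' := hWC _ ⟨yr, h, hyc⟩
          have := congrArg (fun v => F.mod.T (F.mod.T v)) h'
          simpa only [F.mod.TT] using this))
      · have hW : x + F.mod.T x ∈ p.W := ⟨_, h, by rw [F.cls_mul hxr hyr, hxc, hyc]⟩
        have := hWC _ hW
        rw [F.mod.U_sum hxU] at this
        have h' := hcU (F.mod.U_T (F.mod.U_T hxU)) this
        exact hx0 (by rw [← F.mod.TT x, h', F.mod.T_zero])
    have hle : E2 ≤ F.CQ p.D := by
      intro e he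
      refine F.mem_CQ.2 ⟨F.adj_le he, fun d hd => ?_⟩
      have hcomm : ∀ t ∈ F.Q, F.mod.U (F.cls t) → d * t = t * d := fun t ht hU' => by
        have := F.mod.orth_U (hWC _ ⟨d, hd, rfl⟩) hU'
        change polar F.qv _ _ = false at this
        rw [F.polar_cls (p.D_Q hd) ht, decide_eq_false_iff_not, not_not] at this
        exact this
      have cx := hcomm xr hxr (hxc ▸ hxU)
      have cy := hcomm yr hyr (hyc ▸ F.mod.U_T hxU)
      have h1 : ∀ t ∈ E1, d * t = t * d := by
        rintro t (ht | ht)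
        · exact p.D_comm hd ht
        · have := p.D_comm hd ht
          calc d * t = xr⁻¹ * (xr * d) * t := by group
            _ = xr⁻¹ * (d * (xr * t)) := by rw [← cx]; group
            _ = t * d := by rw [this]; group
      rcases he with he | he
      · exact h1 e he
      · have := h1 _ he
        calc d * e = yr⁻¹ * (yr * d) * e := by group
          _ = yr⁻¹ * (d * (yr * e)) := by rw [← cy]; group
          _ = e * d := by rw [this]; group
    have hc := (F.perp p.D p.z_D hDQ).1
    have hE := card_le_of_le hle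
    rw [F.card_adj hyE, F.card_adj hxD] at hE
    have hD32 : 32 ≤ Nat.card ↥p.D := by nlinarith
    nlinarith
  · -- the point has a component in the plane
    have hfixu : ∀ r ∈ p.ψ.range, F.mod.ρ r (va + vC) = va + vC := by
      intro r hr
      have hv' : F.mod.ρ r va = va := p.X_fix hr
      have hU1 := hT (p.X_mem hr) _ hvU
      have hcT : F.mod.T vC = vC := F.mod.C_proj va
      -- the fixed part stays fixed
      have hcfix : F.mod.T (F.mod.ρ r vC) = F.mod.ρ r vC := by
        have hcase : ∀ s : Perm (Fin 3), s * t3 = t3 * s ∨ s * (t3 * t3) = t3 * s := by decide +kernel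
        show F.mod.ρ _ (F.mod.ρ r vC) = _
        rw [← F.mod.ρ_mul _ F.mod.t_mem _ (p.X_mem hr)]
        rcases hcase r.1 with e | e
        · rw [show ((t3, (1 : Perm (Fin 6))) * r) = r * (t3, 1) from Prod.ext e.symm (by simp),
            F.mod.ρ_mul _ (p.X_mem hr) _ F.mod.t_mem]
          exact congrArg _ hcT
        · rw [show ((t3, (1 : Perm (Fin 6))) * r) = r * ((t3, 1) * (t3, 1)) from Prod.ext e.symm (by simp),
            F.mod.ρ_mul _ (p.X_mem hr) _ (mul_mem F.mod.t_mem F.mod.t_mem), F.mod.ρ_mul _ F.mod.t_mem _ F.mod.t_mem]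
          exact congrArg _ (show F.mod.T (F.mod.T vC) = vC by rw [hcT, hcT])
      have e0 : (F.mod.ρ r (va + vC) + (va + vC)) + (F.mod.ρ r vC + vC) = 0 := by
        rw [map_add, hv']
        calc va + F.mod.ρ r vC + (va + vC) + (F.mod.ρ r vC + vC) =
            (va + va) + (F.mod.ρ r vC + F.mod.ρ r vC) + (vC + vC) := by abel
          _ = 0 := by simp only [htwo, add_zero]
      have h3 := F.mod.eq_of_add_zero e0
      have : F.mod.ρ r (va + vC) + (va + vC) = 0 := hcU (F.mod.U_add hU1 hvU) (by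
        rw [h3, F.mod.T_add, hcfix, hcT])
      exact F.mod.eq_of_add_zero this
    set u := va + vC with hu'
    -- acting trivially on the plane
    have key : ∀ r ∈ p.ψ.range, F.mod.ρ r (F.mod.T u) = F.mod.T u → ∀ w ∈ p.W, F.mod.ρ r w = w := by
      intro r hr hTu w hw
      have hfixU : ∀ z, F.mod.U z → F.mod.ρ r z = z := by
        intro z hz
        have hu0 : u ≠ 0 := hu
        have := plane_base F.mod hxU hU hvU hu0
        rcases this z hz with rfl | rfl | rfl | rfl
        · exact map_zero _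
        · exact hfixu r hr
        · exact hTu
        · rw [map_add, hfixu r hr, hTu]
      refine F.mod.eq_of_add_zero ((p.X_W hr hw).resolve_right fun e => ?_)
      -- `va` is not fixed by the scalar
      have hTw : F.mod.T (F.mod.ρ r w + w) = F.mod.ρ r w + w := by
        have hw' : F.mod.ρ r w + w = F.mod.ρ r (w + F.mod.T w + F.mod.T (F.mod.T w)) + (w + F.mod.T w + F.mod.T (F.mod.T w)) := by
          have h' := hfixU _ (F.mod.U_proj w)
          rw [map_add] at h'
          calc F.mod.ρ r w + w = F.mod.ρ r w + w + ((w + F.mod.T w + F.mod.T (F.mod.T w)) + (w + F.mod.T w + F.mod.T (F.mod.T w)))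
              + (F.mod.ρ r (w + F.mod.T w + F.mod.T (F.mod.T w)) + F.mod.ρ r (w + F.mod.T w + F.mod.T (F.mod.T w))) := by
                rw [htwo, htwo, add_zero, add_zero]
            _ = (F.mod.ρ r w + F.mod.ρ r (w + F.mod.T w + F.mod.T (F.mod.T w))) +
                (w + (w + F.mod.T w + F.mod.T (F.mod.T w))) + (F.mod.ρ r (w + F.mod.T w + F.mod.T (F.mod.T w)) +
                (w + F.mod.T w + F.mod.T (F.mod.T w))) := by abel
            _ = _ := by rw [h', htwo, zero_add]
        rw [hw']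
        have hC := F.mod.C_proj w
        generalize w + F.mod.T w + F.mod.T (F.mod.T w) = c at hC
        rw [F.mod.T_add, hC]
        congr 1
        have hcase : ∀ s : Perm (Fin 3), s * t3 = t3 * s ∨ s * (t3 * t3) = t3 * s := by decide +kernel
        show F.mod.ρ _ (F.mod.ρ r c) = _
        rw [← F.mod.ρ_mul _ F.mod.t_mem _ (p.X_mem hr)]
        rcases hcase r.1 with e | e
        · rw [show ((t3, (1 : Perm (Fin 6))) * r) = r * (t3, 1) from Prod.ext e.symm (by simp),
            F.mod.ρ_mul _ (p.X_mem hr) _ F.mod.t_mem]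
          exact congrArg _ hC
        · rw [show ((t3, (1 : Perm (Fin 6))) * r) = r * ((t3, 1) * (t3, 1)) from Prod.ext e.symm (by simp),
            F.mod.ρ_mul _ (p.X_mem hr) _ (mul_mem F.mod.t_mem F.mod.t_mem), F.mod.ρ_mul _ F.mod.t_mem _ F.mod.t_mem]
          exact congrArg _ (show F.mod.T (F.mod.T c) = c by rw [hC, hC])
      rw [e] at hTw
      refine hu ?_
      rw [hu', hvC, hTw, hTw, htwo va, zero_add, htwo]
    have hD := p.card_actions' (fun y => decide (F.mod.ρ (p.ψ y) (F.mod.T u) = F.mod.T u)) (fun y w e v hv => by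
      have hy : p.ψ y ∈ p.ψ.range := ⟨y, rfl⟩
      have hw : p.ψ w ∈ p.ψ.range := ⟨w, rfl⟩
      have hcomb : F.mod.ρ (p.ψ y * p.ψ w) v = v := by
        refine key _ (mul_mem hy hw) ?_ v hv
        rw [F.mod.ρ_mul _ (p.X_mem hy) _ (p.X_mem hw)]
        have e' := decide_eq_decide.1 e
        have hinv : ∀ z, F.mod.ρ (p.ψ y) (F.mod.ρ (p.ψ y) z) = z := fun z => by
          rw [← F.mod.ρ_mul _ (p.X_mem hy) _ (p.X_mem hy), hsq hy, F.mod.ρ_one]
        by_cases hq : F.mod.ρ (p.ψ w) (F.mod.T u) = F.mod.T u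
        · rw [hq, e'.2 hq]
        · -- both exchange the two vectors outside the fixed line
          have hother : ∀ r ∈ p.ψ.range, F.mod.ρ r (F.mod.T u) ≠ F.mod.T u → F.mod.ρ r (F.mod.T u) = u + F.mod.T u := by
            intro r hr hne
            have hu0 : u ≠ 0 := hu
            have hz := hT (p.X_mem hr) _ (F.mod.U_T hvU)
            have hback : ∀ z, F.mod.ρ r (F.mod.ρ r z) = z := fun z => by
              rw [← F.mod.ρ_mul _ (p.X_mem hr) _ (p.X_mem hr), hsq hr, F.mod.ρ_one]
            have := plane_base F.mod hxU hU hvU hu0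
            rcases this _ hz with h0 | h0 | h0 | h0
            · exfalso
              have := hback (F.mod.T u)
              rw [h0, map_zero] at this
              exact hu0 (by rw [← F.mod.TT u, ← this, F.mod.T_zero, F.mod.T_zero])
            · exfalso
              have := hback (F.mod.T u)
              rw [h0, hfixu r hr] at this
              exact hu0 (hcU hvU this.symm)
            · exact absurd h0 hne
            · exact h0
          have hy' : F.mod.ρ (p.ψ y) (F.mod.T u) ≠ F.mod.T u := fun h => hq (e'.1 h)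
          rw [hother _ hw hq, map_add, hfixu _ hy, hother _ hy hy', ← add_assoc, htwo, zero_add]
      rw [F.mod.ρ_mul _ (p.X_mem hy) _ (p.X_mem hw)] at hcomb
      have h2 := congrArg (F.mod.ρ (p.ψ y)) hcomb
      rw [← F.mod.ρ_mul _ (p.X_mem hy) _ (p.X_mem hy), hsq hy, F.mod.ρ_one] at h2
      exact h2.symm)
    have hrange : Nat.card ↥(Set.range fun y => decide (F.mod.ρ (p.ψ y) (F.mod.T u) = F.mod.T u)) ≤ 2 := by
      refine (Finite.card_subtype_le _).trans ?_
      simp
    nlinarith

end Pair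

end Frame

end Cfsg.Agent.Invol.ExtraEight
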