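import Cfsg.Agent.Lib.Invol.ExtraEight.Split

/-!
# An involution centraliser of shape 2^{1+8} by (C3 x A6) by 2: the module is the model or only a plane moves
-/

set_option autoImplicit false
set_option linter.unusedSimpArgs false

namespace Cfsg.Agent.Invol.ExtraEight

open Equiv

universe u

theorem card_alt6 : Nat.card ↥(alternatingGroup (Fin 6)) = 360 := by
  have := two_mul_nat_card_alternatingGroup (α := Fin 6)
  rw [Nat.card_perm, Nat.card_fin, show Nat.factorial 6 = 720 from rfl] at this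
  omega

/-- The form of the small orthogonal space. -/
def q4 (v : ℕ) : Bool := (v % 4 == 0) ^^ (v / 4 == 0)

theorem tupS_mem : ∀ a < 16, ∀ x < 16, ∀ y < 16, ∀ z < 16, q4 a = true → q4 x = true → q4 y = true → q4 z = true →
    q4 (a ^^^ x) = true → q4 (a ^^^ y) = false → q4 (a ^^^ z) = false → q4 (x ^^^ y) = false → q4 (x ^^^ z) = false →
    q4 (y ^^^ z) = true → [a, x, y, z] ∈ tupS := by
  intro a ha x hx y hy z hz h1 h2 h3 h4 h5 h6 h7 h8 h9 h10
  simp only [tupS, List.mem_flatMap, List.mem_map, List.mem_filter, List.mem_range]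
  simp only [q4] at *
  refine ⟨a, ⟨ha, h1⟩, x, ⟨hx, ?_⟩, y, ⟨hy, ?_⟩, z, ⟨hz, ?_⟩, rfl⟩ <;> simp [*]

namespace Mod

variable {V : Type u} [AddCommGroup V] [Finite V] (m : Mod V)

theorem rho_comp {p q : Perm (Fin 6)} (hp : Perm.sign p = 1) (hq : Perm.sign q = 1) (v : V) :
    m.ρ (1, p) (m.ρ (1, q) v) = m.ρ (1, p * q) v := by
  rw [← m.ρ_mul _ (m.alt _ _ (map_one _) hp) _ (m.alt _ _ (map_one _) hq)]; simp

theorem T_rho {q : Perm (Fin 6)} (hq : Perm.sign q = 1) (v : V) : m.T (m.ρ (1, q) v) = m.ρ (1, q) (m.T v) := by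
  rw [T, T, ← m.ρ_mul _ m.t_mem _ (m.alt _ _ (map_one _) hq), ← m.ρ_mul _ (m.alt _ _ (map_one _) hq) _ m.t_mem]
  simp

theorem U_rho {q : Perm (Fin 6)} (hq : Perm.sign q = 1) {v : V} (h : m.U v) : m.U (m.ρ (1, q) v) := by
  unfold U at *
  rw [m.T_rho hq, m.T_rho hq, ← map_add, ← map_add, h, map_zero]

theorem alt_fix (h : ∀ v, m.U v → m.A false 0 v = v) :
    ∀ q : Perm (Fin 6), Perm.sign q = 1 → ∀ y, m.U y → m.ρ (1, q) y = y := by
  haveI : IsSimpleGroup ↥(alternatingGroup (Fin 6)) := alternatingGroup.isSimpleGroup (by simp)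
  have hs : ∀ q : ↥(alternatingGroup (Fin 6)), Perm.sign (q : Perm (Fin 6)) = 1 := fun q => Perm.mem_alternatingGroup.1 q.2
  let S : Subgroup ↥(alternatingGroup (Fin 6)) :=
    { carrier := {q | ∀ y, m.U y → m.ρ (1, (q : Perm (Fin 6))) y = y}
      one_mem' := fun y _ => m.ρ_one y
      mul_mem' := fun {p q} hp hq y hy => by
        show m.ρ (1, (p : Perm (Fin 6)) * q) y = y
        rw [← m.rho_comp (hs p) (hs q), hq y hy, hp y hy]
      inv_mem' := fun {p} hp y hy => by
        show m.ρ (1, ((p : Perm (Fin 6)))⁻¹) y = y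
        have := congrArg (m.ρ (1, ((p : Perm (Fin 6)))⁻¹)) (hp y hy)
        rw [m.rho_comp (by rw [map_inv, hs p, inv_one]) (hs p), inv_mul_cancel] at this
        exact this.symm.trans (m.ρ_one y) }
  haveI hn : S.Normal := ⟨fun q hq σ y hy => by
    show m.ρ (1, ((σ * q * σ⁻¹ : ↥(alternatingGroup (Fin 6))) : Perm (Fin 6))) y = y
    push_cast
    rw [← m.rho_comp (by rw [map_mul, hs σ, hs q, one_mul]) (by rw [map_inv, hs σ, inv_one]),
      ← m.rho_comp (hs σ) (hs q), hq _ (m.U_rho (by rw [map_inv, hs σ, inv_one]) hy),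
      m.rho_comp (hs σ) (by rw [map_inv, hs σ, inv_one]), mul_inv_cancel]
    exact m.ρ_one y⟩
  rcases hn.eq_bot_or_eq_top with hS | hS
  · have : (⟨_, Perm.mem_alternatingGroup.2 (perm_even false 0)⟩ : ↥(alternatingGroup (Fin 6))) ∈ S := h
    rw [hS, Subgroup.mem_bot] at this
    exact absurd (congrArg Subtype.val this) (perms_props false).2.2.2.1
  · intro q hq
    exact (hS ▸ Subgroup.mem_top _ : (⟨q, Perm.mem_alternatingGroup.2 hq⟩ : ↥(alternatingGroup (Fin 6))) ∈ S)

theorem orth_a {b : Bool} {y z : V} (hy : m.A b 0 y = y) (hz : z + m.A b 0 z + m.A b 0 (m.A b 0 z) = 0) :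
    polar m.q z y = false := by
  have h1 : polar m.q (m.A b 0 z) y = polar m.q z y := by
    conv_lhs => rw [← hy]
    exact m.polar_inv (m.a_mem b 0) z y
  have h2 : polar m.q (m.A b 0 (m.A b 0 z)) y = polar m.q z y := by
    conv_lhs => rw [← hy]
    exact (m.polar_inv (m.a_mem b 0) (m.A b 0 z) y).trans h1
  have := congrArg (fun t => polar m.q t y) hz
  simp only [m.bil, h1, h2, m.polar_zero] at this
  revert this; cases polar m.q z y <;> simp

theorem orth_U {c y : V} (hc : m.T c = c) (hy : m.U y) : polar m.q c y = false :=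
  m.orth hy fun z _ => by
    conv_lhs => rw [← hc]
    exact m.polar_inv m.t_mem c z

theorem fix_data (v : V) (hv : m.T v = v) (hav : m.A false 0 v ≠ v) : ∃ b w, w ≠ 0 ∧ m.T w = w ∧
    m.A b 1 w = w ∧ w + m.A b 0 w + m.A b 0 (m.A b 0 w) = 0 := by
  have hTA : ∀ {b : Bool} {i : ℕ} {x : V}, m.T x = x → m.T (m.A b i x) = m.A b i x := fun hx => by rw [m.T_A, hx]
  have hTs : ∀ {x y : V}, m.T x = x → m.T y = y → m.T (x + y) = x + y := fun hx hy => by rw [m.T_add, hx, hy]
  obtain ⟨u, hu0, huT, hua⟩ : ∃ u, u ≠ 0 ∧ m.T u = u ∧ u + m.A false 0 u + m.A false 0 (m.A false 0 u) = 0 := by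
    refine ⟨m.A false 0 v + m.A false 0 (m.A false 0 v), fun e => hav ?_, hTs (hTA hv) (hTA (hTA hv)), ?_⟩
    · have := congrArg (fun x => m.A false 0 (m.A false 0 x)) (m.eq_of_add_zero e)
      simp only [m.a3] at this
      exact this.symm
    · simp only [A_add, m.a3]
      calc _ = (m.A false 0 v + m.A false 0 v) + (m.A false 0 (m.A false 0 v) + m.A false 0 (m.A false 0 v)) +
            (v + v) := by abel
        _ = 0 := by simp [m.two]
  have hab : ∀ x, m.A false 0 (m.A false 1 x) = m.A false 1 (m.A false 0 x) := m.ab false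
  by_cases hbu : m.A false 0 u = m.A false 1 u
  · refine ⟨true, u, hu0, huT, ?_, ?_⟩
    · rw [(m.A_true u).2.1, ← hbu, m.a3]
    · have e : ∀ x, m.A false 0 x = m.A false 1 x → m.A true 0 x = m.A false 0 (m.A false 0 x) := fun x hx => by
        rw [(m.A_true x).1, ← hx]
      rw [e u hbu, e _ (by rw [← hab, ← hab, ← hbu]), m.a3, ← hua]
      abel
  by_cases hpb : u + m.A false 1 u + m.A false 1 (m.A false 1 u) = 0
  · set x := m.A false 0 u + m.A false 1 u with hx
    have hx0 : x ≠ 0 := fun e => hbu (m.eq_of_add_zero e)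
    have haa : m.A false 0 (m.A false 0 u) = u + m.A false 0 u := (m.eq_of_add_zero hua).symm
    have hbb : m.A false 1 (m.A false 1 u) = u + m.A false 1 u := (m.eq_of_add_zero hpb).symm
    have habx : m.A true 0 x = x := by
      rw [(m.A_true x).1, hx]
      simp only [A_add, ← hab]
      rw [hbb, A_add, show m.A false 0 (m.A false 0 (m.A false 1 u)) = m.A false 1 (m.A false 0 (m.A false 0 u)) by
        rw [hab, hab], haa, A_add, hab]
      calc _ = m.A false 1 u + m.A false 0 u + (m.A false 1 (m.A false 0 u) + m.A false 1 (m.A false 0 u)) := by abel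
        _ = _ := by rw [m.two]; abel
    have hb' : m.A true 1 x = m.A false 0 x := by
      rw [(m.A_true x).2.1]
      congr 1
      rw [← (m.A_true x).1, habx]
    have hxa : x + m.A false 0 x + m.A false 0 (m.A false 0 x) = 0 := by
      rw [hx]; simp only [A_add, hab]
      calc _ = m.A false 0 (u + m.A false 0 u + m.A false 0 (m.A false 0 u)) +
            m.A false 1 (u + m.A false 0 u + m.A false 0 (m.A false 0 u)) := by simp only [A_add]; abel
        _ = 0 := by rw [hua, m.A_zero, m.A_zero, add_zero]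
    have hb'x : m.A true 1 (m.A true 1 x) = m.A false 0 (m.A false 0 x) := by
      rw [hb', (m.A_true _).2.1, ← hab]
      congr 2
      rw [← (m.A_true x).1, habx]
    refine ⟨true, m.A true 2 x, ?_, ?_, ?_, ?_⟩
    · exact fun e => hx0 (by rw [← m.j4 true x, e, m.A_zero, m.A_zero, m.A_zero])
    · exact hTA (hTs (hTA huT) (hTA huT))
    · rw [← m.j_a, habx]
    · have e1 : ∀ y, m.A true 0 (m.A true 2 y) = m.A true 2 (m.A true 1 (m.A true 1 y)) := fun y => by
        have := m.j_b true (m.A true 1 (m.A true 1 y))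
        rwa [m.b3] at this
      rw [e1, e1, m.b3, ← A_add, ← A_add, hb'x, hb', show x + m.A false 0 (m.A false 0 x) + m.A false 0 x =
        x + m.A false 0 x + m.A false 0 (m.A false 0 x) by abel, hxa, m.A_zero]
  · refine ⟨false, u + m.A false 1 u + m.A false 1 (m.A false 1 u), hpb, hTs (hTs huT (hTA huT)) (hTA (hTA huT)), ?_, ?_⟩
    · simp only [A_add, m.b3]; abel
    · simp only [A_add, hab]
      calc _ = (u + m.A false 0 u + m.A false 0 (m.A false 0 u)) +
            m.A false 1 (u + m.A false 0 u + m.A false 0 (m.A false 0 u)) +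
            m.A false 1 (m.A false 1 (u + m.A false 0 u + m.A false 0 (m.A false 0 u))) := by simp only [A_add]; abel
        _ = 0 := by rw [hua, m.A_zero, m.A_zero, add_zero, add_zero]

set_option maxHeartbeats 800000 in
/-- Either coordinates exist, or only a plane is moved by the scalar. -/
theorem split : (∃ b, Nonempty (m.Coords b)) ∨ m.Small := by
  classical
  rcases m.dichotomy with ⟨b, w, hU, h0, hc⟩ | hP
  · exact Or.inl ⟨b, m.coords_of_char hU h0 hc⟩
  refine Or.inr ?_
  have hfix := m.alt_fix fun v hv => (hP v hv).1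
  have hp0 : ∀ v, m.T (v + m.T v + m.T (m.T v)) = v + m.T v + m.T (m.T v) := m.C_proj
  obtain ⟨x, hx0, hxU⟩ : ∃ x, x ≠ 0 ∧ m.U x := by
    by_contra hcon
    push Not at hcon
    have hall : ∀ v, m.T v = v := fun v => by
      have h : v + (v + m.T v + m.T (m.T v)) = 0 := by
        by_contra h; exact hcon _ h (m.U_proj v)
      rw [m.eq_of_add_zero h, hp0]
    exact absurd (m.faith _ m.t_mem hall) (by decide)
  obtain ⟨v, hv, hav⟩ : ∃ v, m.T v = v ∧ m.A false 0 v ≠ v := by
    by_contra hcon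
    push Not at hcon
    have hall : ∀ v, m.A false 0 v = v := fun v => by
      have h1 := hfix _ (perm_even false 0) _ (m.U_proj v)
      have h2 := hcon _ (hp0 v)
      calc m.A false 0 v = m.A false 0 ((v + m.T v + m.T (m.T v)) + (v + (v + m.T v + m.T (m.T v)))) := by
            congr 1
            rw [show (v + m.T v + m.T (m.T v)) + (v + (v + m.T v + m.T (m.T v))) =
              v + ((v + m.T v + m.T (m.T v)) + (v + m.T v + m.T (m.T v))) by abel, m.two, add_zero]
        _ = (v + m.T v + m.T (m.T v)) + (v + (v + m.T v + m.T (m.T v))) := by rw [A_add, h2]; congr 1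
        _ = v := by
            rw [show (v + m.T v + m.T (m.T v)) + (v + (v + m.T v + m.T (m.T v))) =
              v + ((v + m.T v + m.T (m.T v)) + (v + m.T v + m.T (m.T v))) by abel, m.two, add_zero]
    exact (perms_props false).2.2.2.1 (congrArg Prod.snd (m.faith _ (m.a_mem false 0) hall))
  refine ⟨x, hx0, hxU, ?_, hfix⟩
  by_contra hcon
  push Not at hcon
  obtain ⟨y, hyU, hy0, hy1, hy2, hy3⟩ := hcon
  obtain ⟨b, w, hw0, hwT, hbw, hwa⟩ := m.fix_data v hv hav
  set w' := m.A b 2 w with hw'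
  have haw' : m.A b 0 w' = w' := by
    have := m.j_b b w
    rwa [hbw] at this
  have hw'0 : w' ≠ 0 := fun e => hw0 (by rw [← m.j4 b w, ← hw', e, m.A_zero, m.A_zero, m.A_zero])
  have hbw' : w' + m.A b 1 w' + m.A b 1 (m.A b 1 w') = 0 := by
    rw [hw', ← m.j_a, ← m.j_a, ← A_add, ← A_add, hwa, m.A_zero]
  let cU : ℕ → V := comb [x, m.T x, y, m.T y]
  let cC : ℕ → V := comb [w, m.A b 0 w, w', m.A b 1 w']
  have cUU : ∀ n, m.U (cU n) := fun n => by
    show m.U (comb _ n)
    rw [comb_cons_two, comb_cons_two, comb, add_zero]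
    exact m.U_add (m.dig_U hxU _) (m.dig_U hyU _)
  have cCT : ∀ n, m.T (cC n) = cC n := fun n => by
    show m.T (comb _ n) = comb _ n
    simp only [comb]
    cases (n % 2 == 1) <;> cases (n / 2 % 2 == 1) <;> cases (n / 2 / 2 % 2 == 1) <;> cases (n / 2 / 2 / 2 % 2 == 1) <;>
      simp [T_add, T_zero, m.T_A, hwT, hw']
  have injU : ∀ n < 16, cU n = 0 → n = 0 := by
    intro n hn he
    replace he : m.dig (n % 4) x + m.dig (n / 4 % 4) y = 0 := by
      rw [← he]
      show _ = comb _ n
      rw [comb_cons_two, comb_cons_two, comb, add_zero]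
    have e := (m.eq_of_add_zero he).symm
    have hx4 : ∀ k, m.dig k x = 0 ∨ m.dig k x = x ∨ m.dig k x = m.T x ∨ m.dig k x = x + m.T x := fun k => by
      rcases k with _ | _ | _ | _ | k <;> simp [dig]
    have hT4 : ∀ {t : V}, (t = 0 ∨ t = x ∨ t = m.T x ∨ t = x + m.T x) →
        (m.T t = 0 ∨ m.T t = x ∨ m.T t = m.T x ∨ m.T t = x + m.T x) := by
      intro t ht
      rcases ht with rfl | rfl | rfl | rfl
      · exact Or.inl m.T_zero
      · exact Or.inr (Or.inr (Or.inl rfl))
      · exact Or.inr (Or.inr (Or.inr (m.U_sum hxU).symm))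
      · exact Or.inr (Or.inl (by rw [m.U_sum hxU, m.TT]))
    have ny : ¬ (y = 0 ∨ y = x ∨ y = m.T x ∨ y = x + m.T x) := by simp [hy0, hy1, hy2, hy3]
    have h4 : n / 4 % 4 = 0 := by
      have := Nat.mod_lt (n / 4) (show 4 > 0 by omega)
      generalize n / 4 % 4 = k at e this
      have he' := e ▸ hx4 (n % 4)
      rcases k with _ | _ | _ | _ | k
      · rfl
      · exact absurd he' ny
      · exact absurd (by have := hT4 (hT4 he'); rwa [show m.dig 2 y = m.T y from rfl, m.TT] at this) ny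
      · exact absurd (by have := hT4 he'; rwa [show m.dig 3 y = y + m.T y from rfl, m.U_sum hyU, m.TT] at this) ny
      · omega
    rw [h4, show m.dig 0 y = 0 from rfl, add_zero] at he
    have := m.dig_eq_zero hxU hx0 (Nat.mod_lt _ (by omega)) he
    omega
  have haC : ∀ n, cC n + m.A b 0 (cC n) = cond (n % 2 == 1) (w + m.A b 0 w) 0 + cond (n / 2 % 2 == 1) (m.A b 0 w + m.A b 0 (m.A b 0 w)) 0 := by
    intro n
    show comb _ n + m.A b 0 (comb _ n) = _
    have h2 : ∀ t : V, t + t = 0 := m.two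
    simp only [comb]
    cases (n % 2 == 1) <;> cases (n / 2 % 2 == 1) <;> cases (n / 2 / 2 % 2 == 1) <;> cases (n / 2 / 2 / 2 % 2 == 1) <;>
      simp [A_add, A_zero, m.ab, haw'] <;>
      (abel_nf <;> simp [two_smul, h2])
  have h2aw : w + m.A b 0 w ≠ 0 := fun e => hw0 (by
    have e' := m.eq_of_add_zero e
    rw [← e', ← e', m.two, zero_add] at hwa
    exact hwa)
  have injC : ∀ n < 16, cC n = 0 → n = 0 := by
    intro n hn he
    have h := haC n
    rw [he, m.A_zero, add_zero] at h
    have h3 : m.A b 0 w + m.A b 0 (m.A b 0 w) = w := by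
      rw [m.eq_of_add_zero (show (m.A b 0 w + m.A b 0 (m.A b 0 w)) + w = 0 by rw [← hwa]; abel)]
    rw [h3] at h
    have h01 : n % 2 = 0 ∧ n / 2 % 2 = 0 := by
      rcases Nat.mod_two_eq_zero_or_one n with a | a <;> rcases Nat.mod_two_eq_zero_or_one (n / 2) with c | c <;>
        simp [a, c] at h ⊢
      · exact hw0 h.symm
      · exact h2aw h.symm
      · exact hw0 (by
          have := congrArg (m.A b 0) (m.eq_of_add_zero (show (w + w) + m.A b 0 w = 0 by rw [h]; abel))
          rw [m.two, m.A_zero] at this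
          have := congrArg (m.A b 0) this.symm
          rw [m.A_zero] at this
          rw [← m.a3 b w, this])
    replace he : comb [w, m.A b 0 w, w', m.A b 1 w'] n = 0 := he
    simp [comb, h01.1, h01.2] at he
    rcases Nat.mod_two_eq_zero_or_one (n / 2 / 2) with a | a <;>
      rcases Nat.mod_two_eq_zero_or_one (n / 2 / 2 / 2) with c | c <;> simp [a, c] at he
    · omega
    · exact absurd he fun e => hw'0 (by rw [← m.b3 b w', e, m.A_zero, m.A_zero])
    · exact absurd he hw'0
    · exfalso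
      apply hw'0
      rw [← m.eq_of_add_zero he, ← m.eq_of_add_zero he, m.two, zero_add] at hbw'
      exact hbw'
  have addU : ∀ u v, cU (u ^^^ v) = cU u + cU v := comb_xor m.two _
  have addC : ∀ u v, cC (u ^^^ v) = cC u + cC v := comb_xor m.two _
  have sep : ∀ {u c : V}, m.U u → m.T c = c → u + c = 0 → u = 0 := fun {u c} hu hc h => by
    have := m.eq_of_add_zero h
    exact m.U_fixed hu (this ▸ hc)
  have hb : Function.Bijective (fun p : Fin 16 × Fin 16 => cU p.1 + cC p.2) := by
    refine (Nat.bijective_iff_injective_and_card _).2 ⟨?_, by rw [Nat.card_prod, Nat.card_fin, m.card]⟩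
    rintro ⟨n, k⟩ ⟨n', k'⟩ e
    have e' : cU (n.val ^^^ n'.val) + cC (k.val ^^^ k'.val) = 0 := by
      rw [addU, addC, show cU n + cU n' + (cC k + cC k') = (cU n + cC k) + (cU n' + cC k') by abel,
        show cU n + cC k = cU n' + cC k' from e, m.two]
    have hu := sep (cUU _) (cCT _) e'
    rw [hu, zero_add] at e'
    have xx : ∀ {a c : Fin 16}, a.val ^^^ c.val = 0 → a = c := fun {a c} h => Fin.ext (by
      calc a.val = (a.val ^^^ c.val) ^^^ c.val := by rw [Nat.xor_assoc, Nat.xor_self, Nat.xor_zero]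
        _ = c.val := by rw [h, Nat.zero_xor])
    exact Prod.ext (xx (injU _ (Nat.xor_lt_two_pow (n := 4) n.2 n'.2) hu))
      (xx (injC _ (Nat.xor_lt_two_pow (n := 4) k.2 k'.2) e'))
  have surC : ∀ c, m.T c = c → ∃ k < 16, cC k = c := by
    intro c hc
    obtain ⟨⟨n, k⟩, e⟩ := hb.2 c
    refine ⟨k, k.2, ?_⟩
    have h1 : cU n = cC k + c := by
      rw [← show cU n + cC k = c from e, show cC k + (cU n + cC k) = cU n + (cC k + cC k) by abel, m.two, add_zero]
    have : cU n = 0 := m.U_fixed (cUU n) (by rw [h1, m.T_add, cCT, hc])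
    rw [← show cU n + cC k = c from e, this, zero_add]
  have bil' : ∀ a c d, polar m.q a (c + d) = (polar m.q a c ^^ polar m.q a d) := fun a c d => by
    rw [m.polar_comm, m.bil, m.polar_comm c, m.polar_comm d]
  have ow : polar m.q w w' = false := m.orth_a haw' hwa
  have oaw : polar m.q (m.A b 0 w) w' = false := m.orth_a haw' (by
    rw [← A_add, ← A_add, hwa, m.A_zero])
  have obw : polar m.q w (m.A b 1 w') = false := by
    rw [← hbw]; exact (m.polar_inv (m.a_mem b 1) w w').trans ow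
  have oabw : polar m.q (m.A b 0 w) (m.A b 1 w') = false := by
    rw [← hbw, m.ab]; exact (m.polar_inv (m.a_mem b 1) _ w').trans oaw
  have nd : ∀ {t t' : V}, m.T t = t → t ≠ 0 → (∀ k, polar m.q (cC k) t = true → polar m.q t' t = true) →
      polar m.q t' t = true := by
    intro t t' ht ht0 h
    obtain ⟨u, hu⟩ := m.nondeg t ht0
    obtain ⟨⟨n, k⟩, rfl⟩ := hb.2 u
    refine h k ?_
    rw [m.bil, m.polar_comm (cU n), m.orth_U ht (cUU n), Bool.false_xor] at hu
    exact hu
  have hwN : polar m.q (m.A b 0 w) w = true := nd hwT hw0 fun k hk => by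
    have : ∀ k, polar m.q (cC k) w = (k / 2 % 2 == 1 && polar m.q (m.A b 0 w) w) := fun k => by
      show polar m.q (comb _ k) w = _
      simp only [comb]
      cases (k % 2 == 1) <;> cases (k / 2 % 2 == 1) <;> cases (k / 2 / 2 % 2 == 1) <;> cases (k / 2 / 2 / 2 % 2 == 1) <;>
        simp [m.bil, m.polar_zero, m.polar_self, m.polar_comm w', ow, m.polar_comm (m.A b 1 w'), obw]
    rw [this] at hk
    exact (Bool.and_eq_true_iff.1 hk).2
  have hw'N : polar m.q (m.A b 1 w') w' = true := by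
    rw [hw', ← m.j_a]; exact (m.polar_inv (m.a_mem b 2) _ w).trans hwN
  have qw : m.q w = true := by
    have h := m.q_add w (m.A b 0 w)
    rw [m.eq_of_add_zero hwa, show m.q (m.A b 0 (m.A b 0 w)) = m.q w from
      (m.q_inv _ (m.a_mem b 0) _).trans (m.q_inv _ (m.a_mem b 0) _),
      show m.q (m.A b 0 w) = m.q w from m.q_inv _ (m.a_mem b 0) _, m.polar_comm, hwN] at h
    revert h; cases m.q w <;> simp
  have qaw : m.q (m.A b 0 w) = true := (m.q_inv _ (m.a_mem b 0) _).trans qw
  have qw' : m.q w' = true := (m.q_inv _ (m.a_mem b 2) _).trans qw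
  have qbw' : m.q (m.A b 1 w') = true := (m.q_inv _ (m.a_mem b 1) _).trans qw'
  have qC : ∀ k < 16, m.q (cC k) = q4 k := fun k hk => by
    show m.q (comb _ k) = _
    rcases k with _|_|_|_|_|_|_|_|_|_|_|_|_|_|_|_|k
    iterate 16
      simp [comb, q4, m.q_zero, m.q_add, bil', m.bil, qw, qaw, qw', qbw', ow, oaw, obw, oabw,
        m.polar_comm w (m.A b 0 w), hwN, m.polar_comm w' (m.A b 1 w'), hw'N]
    omega
  have hsgn : ∀ s : ↥(alternatingGroup (Fin 6)), Perm.sign (s : Perm (Fin 6)) = 1 := fun s =>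
    Perm.mem_alternatingGroup.1 s.2
  have hex : ∀ (s : ↥(alternatingGroup (Fin 6))) (l : ℕ), ∃ k < 16, cC k = m.ρ (1, (s : Perm (Fin 6))) (cC l) :=
    fun s l => surC _ (by rw [m.T_rho (hsgn s), cCT])
  choose f hf hfe using hex
  have hq4 : ∀ s l, l < 16 → q4 (f s l) = q4 l := fun s l hl => by
    rw [← qC _ (hf s l), hfe, m.q_inv _ (m.alt _ _ (map_one _) (hsgn s)), qC l hl]
  have hq4x : ∀ s l l', l < 16 → l' < 16 → q4 (f s l ^^^ f s l') = q4 (l ^^^ l') := fun s l l' hl hl' => by
    rw [← qC _ (Nat.xor_lt_two_pow (n := 4) (hf s l) (hf s l')), addC, hfe, hfe, ← map_add, ← addC,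
      m.q_inv _ (m.alt _ _ (map_one _) (hsgn s)), qC _ (Nat.xor_lt_two_pow (n := 4) hl hl')]
  let Φ : ↥(alternatingGroup (Fin 6)) → {t : List ℕ // t ∈ tupS} := fun s =>
    ⟨[f s 1, f s 2, f s 4, f s 8], tupS_mem _ (hf s 1) _ (hf s 2) _ (hf s 4) _ (hf s 8)
      (by rw [hq4 s 1 (by omega)]; rfl) (by rw [hq4 s 2 (by omega)]; rfl) (by rw [hq4 s 4 (by omega)]; rfl)
      (by rw [hq4 s 8 (by omega)]; rfl) (by rw [hq4x s 1 2 (by omega) (by omega)]; rfl)
      (by rw [hq4x s 1 4 (by omega) (by omega)]; rfl) (by rw [hq4x s 1 8 (by omega) (by omega)]; rfl)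
      (by rw [hq4x s 2 4 (by omega) (by omega)]; rfl) (by rw [hq4x s 2 8 (by omega) (by omega)]; rfl)
      (by rw [hq4x s 4 8 (by omega) (by omega)]; rfl)⟩
  have hΦ : Function.Injective Φ := by
    intro s t e
    have e' : [f s 1, f s 2, f s 4, f s 8] = [f t 1, f t 2, f t 4, f t 8] := congrArg Subtype.val e
    simp only [List.cons.injEq, and_true] at e'
    obtain ⟨e1, e2, e4, e8⟩ := e'
    have h : ∀ l, f s l = f t l → m.ρ (1, (s : Perm (Fin 6))) (cC l) = m.ρ (1, (t : Perm (Fin 6))) (cC l) :=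
      fun l hl => by rw [← hfe, ← hfe, hl]
    have b1 : cC 1 = w := by simp [cC, comb]
    have b2 : cC 2 = m.A b 0 w := by simp [cC, comb]
    have b4 : cC 4 = w' := by simp [cC, comb]
    have b8 : cC 8 = m.A b 1 w' := by simp [cC, comb]
    have h1 := b1 ▸ h 1 e1
    have h2 := b2 ▸ h 2 e2
    have h4 := b4 ▸ h 4 e4
    have h8 := b8 ▸ h 8 e8
    have hC : ∀ k, m.ρ (1, (s : Perm (Fin 6))) (cC k) = m.ρ (1, (t : Perm (Fin 6))) (cC k) := fun k => by
      show m.ρ _ (comb _ k) = m.ρ _ (comb _ k)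
      simp only [comb]
      cases (k % 2 == 1) <;> cases (k / 2 % 2 == 1) <;> cases (k / 2 / 2 % 2 == 1) <;> cases (k / 2 / 2 / 2 % 2 == 1) <;>
        simp [h1, h2, h4, h8]
    have hts : Perm.sign (((t : Perm (Fin 6)))⁻¹) = 1 := by rw [map_inv, hsgn t, inv_one]
    have hall : ∀ v, m.ρ (1, ((t : Perm (Fin 6)))⁻¹ * s) v = v := fun v => by
      obtain ⟨⟨n, k⟩, rfl⟩ := hb.2 v
      rw [map_add]
      congr 1
      · exact hfix _ (by rw [map_mul, hts, hsgn s, one_mul]) _ (cUU n)
      · rw [← m.rho_comp hts (hsgn s), hC k, m.rho_comp hts (hsgn t), inv_mul_cancel]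
        exact m.ρ_one _
    have := congrArg Prod.snd (m.faith _ (m.alt _ _ (map_one _) (by rw [map_mul, hts, hsgn s, one_mul])) hall)
    exact Subtype.ext (inv_mul_eq_one.1 this).symm
  haveI : Finite {t : List ℕ // t ∈ tupS} := tupS.finite_toSet.to_subtype
  have := Nat.card_le_card_of_injective Φ hΦ
  rw [card_alt6, Nat.card_congr (Equiv.subtypeEquivRight (fun t => (List.mem_toFinset (l := tupS) (a := t)).symm)),
    Nat.card_eq_finsetCard] at this
  have h72 := this.trans ((List.toFinset_card_le tupS).trans tupS_length.le)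
  omega

end Mod

end Cfsg.Agent.Invol.ExtraEight
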