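import Cfsg.Agent.Lib.Invol.ExtraEight.Local
import Cfsg.Agent.Lib.Invol.ExtraEight.Small

/-!
# An involution centraliser of shape 2^{1+8} by (C3 x A6) by 2: `Q/⟨z⟩` as a module
-/

set_option autoImplicit false
set_option linter.unusedSectionVars false

namespace Cfsg.Agent.Invol.ExtraEight

open Subgroup

universe u

theorem mul_conj_of_pm {G : Type u} [Group G] {x z c : G} (h : c * x = x * c * z) : c * x * c⁻¹ = x * (c * z * c⁻¹) := by
  rw [h]; group

namespace Frame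

variable {G : Type u} [Group G] [Finite G] (F : Frame G)

/-- The centre inside `Q`. -/
def Zq : Subgroup ↥F.Q := (zpowers F.z).subgroupOf F.Q

theorem mem_Zq {x : ↥F.Q} : x ∈ F.Zq ↔ (x : G) = 1 ∨ (x : G) = F.z := by
  rw [Zq, mem_subgroupOf]
  refine ⟨F.z_zpowers, ?_⟩
  rintro (h | h) <;> rw [h]
  · exact one_mem _
  · exact mem_zpowers _

instance Zq_normal : F.Zq.Normal := ⟨fun x hx y => by
  rw [F.mem_Zq] at hx ⊢
  push_cast
  rcases hx with h | h <;> rw [h]
  · left; group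
  · right
    rw [F.z_comm y y.2]; group⟩

instance quotGroup : CommGroup (↥F.Q ⧸ F.Zq) :=
  { (inferInstance : Group (↥F.Q ⧸ F.Zq)) with
    mul_comm := fun a b => by
      obtain ⟨x, rfl⟩ := QuotientGroup.mk_surjective a
      obtain ⟨y, rfl⟩ := QuotientGroup.mk_surjective b
      rw [← QuotientGroup.mk_mul, ← QuotientGroup.mk_mul, QuotientGroup.eq, F.mem_Zq]
      push_cast
      rcases F.comm' (inv_mem y.2) (inv_mem x.2) with h | h
      · left; rw [← h]; group
      · right; rw [← h]; group }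

/-- The module. -/
abbrev V : Type u := Additive (↥F.Q ⧸ F.Zq)

open Classical in
/-- The class of an element of `Q` (zero outside). -/
noncomputable def cls (x : G) : F.V :=
  if h : x ∈ F.Q then Additive.ofMul (QuotientGroup.mk (s := F.Zq) ⟨x, h⟩) else 0

theorem cls_eq {x : G} (h : x ∈ F.Q) : F.cls x = Additive.ofMul (QuotientGroup.mk (s := F.Zq) ⟨x, h⟩) := dif_pos h

theorem cls_mul {x y : G} (hx : x ∈ F.Q) (hy : y ∈ F.Q) : F.cls (x * y) = F.cls x + F.cls y := by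
  rw [F.cls_eq hx, F.cls_eq hy, F.cls_eq (mul_mem hx hy)]; rfl

theorem cls_zero_iff {x : G} (hx : x ∈ F.Q) : F.cls x = 0 ↔ x = 1 ∨ x = F.z := by
  rw [F.cls_eq hx, ← ofMul_one, Additive.ofMul.injective.eq_iff, QuotientGroup.eq_one_iff, F.mem_Zq]

theorem cls_one : F.cls 1 = 0 := (F.cls_zero_iff (one_mem _)).2 (Or.inl rfl)

theorem cls_z : F.cls F.z = 0 := (F.cls_zero_iff F.z_mem).2 (Or.inr rfl)

theorem cls_surj (v : F.V) : ∃ x ∈ F.Q, F.cls x = v := by
  obtain ⟨x, hx⟩ := QuotientGroup.mk_surjective (Additive.toMul v)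
  exact ⟨x, x.2, by rw [F.cls_eq x.2, Subtype.coe_eta, hx]; rfl⟩

theorem cls_eq_iff {x y : G} (hx : x ∈ F.Q) (hy : y ∈ F.Q) : F.cls x = F.cls y ↔ x = y ∨ x = y * F.z := by
  rw [F.cls_eq hx, F.cls_eq hy, Additive.ofMul.injective.eq_iff, eq_comm, QuotientGroup.eq, F.mem_Zq]
  push_cast
  constructor
  · rintro (h | h)
    · exact Or.inl (inv_mul_eq_one.1 h).symm
    · exact Or.inr (by rw [← h]; group)
  · rintro (rfl | rfl)
    · exact Or.inl (inv_mul_cancel _)
    · exact Or.inr (by group)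

theorem cls_inv {x : G} (hx : x ∈ F.Q) : F.cls x⁻¹ = - F.cls x := by
  rw [F.cls_eq hx, F.cls_eq (inv_mem hx)]; rfl

theorem two_eq (v : F.V) : v + v = 0 := by
  obtain ⟨x, hx, rfl⟩ := F.cls_surj v
  rw [← F.cls_mul hx hx, F.cls_zero_iff (mul_mem hx hx)]
  exact F.sq x hx

theorem card_V : Nat.card F.V = 256 := by
  have h : Nat.card F.V = Nat.card (↥F.Q ⧸ F.Zq) := Nat.card_congr Additive.toMul
  have h2 : Nat.card ↥F.Zq = 2 := by
    rw [Zq, Nat.card_congr (subgroupOfEquivOfLe (zpowers_le.2 F.z_mem)).toEquiv, F.card_z]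
  have := F.Zq.card_mul_index
  rw [h2, index_eq_card, F.card_Q] at this
  omega

open Classical in
/-- The quadratic form. -/
noncomputable def qv (v : F.V) : Bool := decide (∃ x ∈ F.Q, F.cls x = v ∧ x * x = F.z)

theorem sq_mul_z {x : G} (hx : x ∈ F.Q) : x * F.z * (x * F.z) = x * x := by
  rw [show x * F.z * (x * F.z) = x * (F.z * x) * F.z by group, ← F.z_comm x hx,
    show x * (x * F.z) * F.z = x * x * (F.z * F.z) by group, F.zz, mul_one]

open Classical in
theorem qv_cls {x : G} (hx : x ∈ F.Q) : F.qv (F.cls x) = decide (x * x = F.z) := by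
  refine decide_eq_decide.2 ⟨fun ⟨y, hy, he, h⟩ => ?_, fun h => ⟨x, hx, rfl, h⟩⟩
  rcases (F.cls_eq_iff hy hx).1 he with rfl | rfl
  · exact h
  · rwa [F.sq_mul_z hx] at h

open Classical in
theorem polar_cls {x y : G} (hx : x ∈ F.Q) (hy : y ∈ F.Q) :
    polar F.qv (F.cls x) (F.cls y) = decide (x * y ≠ y * x) := by
  unfold polar
  rw [← F.cls_mul hx hy, F.qv_cls hx, F.qv_cls hy, F.qv_cls (mul_mem hx hy)]
  have hne : (1 : G) ≠ F.z := fun e => F.z_ne e.symm
  have hzy := F.z_comm y hy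
  have hzx := F.z_comm x hx
  rcases F.comm x hx y hy with h | h
  · have e : x * y * (x * y) = x * x * (y * y) := by
      calc x * y * (x * y) = x * (y * x) * y := by group
        _ = _ := by rw [← h]; group
    rw [e]
    rcases F.sq x hx with a | a <;> rcases F.sq y hy with b | b <;> simp [a, b, hne, F.zz, h]
  · have hn : x * y ≠ y * x := by
      rw [h]; exact fun e => F.z_ne (by simpa using e)
    have e : x * y * (x * y) = x * x * (y * y) * F.z := by
      have h' : y * x = x * y * F.z := by rw [h, mul_assoc, F.zz, mul_one]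
      calc x * y * (x * y) = x * (y * x) * y := by group
        _ = x * x * y * (F.z * y) := by rw [h']; group
        _ = _ := by rw [← hzy]; group
    rw [e]
    rcases F.sq x hx with a | a <;> rcases F.sq y hy with b | b <;> simp [a, b, hne, F.zz, hn]

/-- The image of `C(z)`. -/
def R : Subgroup P36 where
  carrier := {r | ∃ m ∈ F.M, F.π m = r}
  one_mem' := ⟨1, one_mem _, F.π_one⟩
  mul_mem' := by
    rintro _ _ ⟨m, hm, rfl⟩ ⟨n, hn, rfl⟩
    exact ⟨m * n, mul_mem hm hn, F.π_mul' hm hn⟩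
  inv_mem' := by
    rintro _ ⟨m, hm, rfl⟩
    exact ⟨m⁻¹, inv_mem hm, F.π_inv hm⟩

theorem cls_conj_Q {y x : G} (hy : y ∈ F.Q) (hx : x ∈ F.Q) : F.cls (y * x * y⁻¹) = F.cls x := by
  rw [F.cls_mul (mul_mem hy hx) (inv_mem hy), F.cls_mul hy hx, F.cls_inv hy]; abel

theorem cls_conj_indep {m n : G} (hm : m ∈ F.M) (hn : n ∈ F.M) (h : F.π m = F.π n) {x : G} (hx : x ∈ F.Q) :
    F.cls (m * x * m⁻¹) = F.cls (n * x * n⁻¹) := by
  have hy : m * n⁻¹ ∈ F.Q := (F.π_iff (mul_mem hm (inv_mem hn))).1 (by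
    rw [F.π_mul' hm (inv_mem hn), F.π_inv hn, h, mul_inv_cancel])
  rw [show m * x * m⁻¹ = m * n⁻¹ * (n * x * n⁻¹) * (m * n⁻¹)⁻¹ by group, F.cls_conj_Q hy (F.norm' hn hx)]

/-- Conjugation on the module. -/
noncomputable def conjHom (m : G) (hm : m ∈ F.M) : F.V →+ F.V :=
  MonoidHom.toAdditive (QuotientGroup.map F.Zq F.Zq
    (MonoidHom.mk' (fun x => (⟨m * x * m⁻¹, F.norm' hm x.2⟩ : ↥F.Q)) fun x y => by
      ext; push_cast; group) (fun x hx => by
    rw [mem_comap, F.mem_Zq]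
    rw [F.mem_Zq] at hx
    show m * (x : G) * m⁻¹ = 1 ∨ m * (x : G) * m⁻¹ = F.z
    rcases hx with h | h <;> rw [h]
    · left; group
    · right
      rw [F.mem_M.1 hm]; group))

theorem conjHom_cls {m : G} (hm : m ∈ F.M) {x : G} (hx : x ∈ F.Q) :
    F.conjHom m hm (F.cls x) = F.cls (m * x * m⁻¹) := by
  rw [F.cls_eq hx, F.cls_eq (F.norm' hm hx)]; rfl

open Classical in
/-- The action of the image of `C(z)`. -/
noncomputable def act (r : P36) : F.V →+ F.V :=
  if h : r ∈ F.R then F.conjHom h.choose h.choose_spec.1 else 0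

theorem act_cls {m : G} (hm : m ∈ F.M) {x : G} (hx : x ∈ F.Q) :
    F.act (F.π m) (F.cls x) = F.cls (m * x * m⁻¹) := by
  have h : F.π m ∈ F.R := ⟨m, hm, rfl⟩
  rw [act, dif_pos h, F.conjHom_cls _ hx]
  exact F.cls_conj_indep h.choose_spec.1 hm h.choose_spec.2 hx

/-- The module with its form. -/
noncomputable def mod : Mod F.V where
  R := F.R
  alt p q hp hq := by
    obtain ⟨m, hm, e⟩ := F.lift p q hp hq
    exact ⟨m, F.mem_M.2 hm, e⟩
  ρ := F.act
  ρ_one v := by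
    obtain ⟨x, hx, rfl⟩ := F.cls_surj v
    rw [← F.π_one, F.act_cls (one_mem _) hx]; simp
  ρ_mul := by
    rintro _ ⟨m, hm, rfl⟩ _ ⟨n, hn, rfl⟩ v
    obtain ⟨x, hx, rfl⟩ := F.cls_surj v
    rw [← F.π_mul' hm hn, F.act_cls (mul_mem hm hn) hx, F.act_cls hn hx, F.act_cls hm (F.norm' hn hx)]
    congr 1; group
  faith := by
    rintro _ ⟨m, hm, rfl⟩ h
    refine (F.π_iff hm).2 (F.trivial_mem hm fun x hx => ?_)
    have := h (F.cls x)
    rw [F.act_cls hm hx, F.cls_eq_iff (F.norm' hm hx) hx] at this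
    rcases this with e | e
    · exact Or.inl (mul_inv_eq_iff_eq_mul.1 e)
    · right
      rw [mul_inv_eq_iff_eq_mul.1 e, mul_assoc, ← F.mem_M.1 hm, mul_assoc]
  card := F.card_V
  two := F.two_eq
  q := F.qv
  q_zero := by
    classical
    rw [← F.cls_one, F.qv_cls (one_mem _), decide_eq_false_iff_not, one_mul]
    exact fun e => F.z_ne e.symm
  q_inv := by
    classical
    rintro _ ⟨m, hm, rfl⟩ v
    obtain ⟨x, hx, rfl⟩ := F.cls_surj v
    rw [F.act_cls hm hx, F.qv_cls (F.norm' hm hx), F.qv_cls hx]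
    refine decide_eq_decide.2 ⟨fun e => ?_, fun e => ?_⟩
    · calc x * x = m⁻¹ * (m * x * m⁻¹ * (m * x * m⁻¹)) * m := by group
        _ = m⁻¹ * (F.z * m) := by rw [e]; group
        _ = F.z := by rw [← F.mem_M.1 hm]; group
    · calc m * x * m⁻¹ * (m * x * m⁻¹) = m * (x * x) * m⁻¹ := by group
        _ = F.z := by rw [e, F.mem_M.1 hm]; group
  bil := by
    classical
    intro u v w
    obtain ⟨x, hx, rfl⟩ := F.cls_surj u
    obtain ⟨y, hy, rfl⟩ := F.cls_surj v
    obtain ⟨t, ht, rfl⟩ := F.cls_surj w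
    rw [← F.cls_mul hx hy, F.polar_cls (mul_mem hx hy) ht, F.polar_cls hx ht, F.polar_cls hy ht]
    have hz' : F.z ≠ 1 := F.z_ne
    have hzt := F.z_comm t ht
    rcases F.comm x hx t ht with a | a <;> rcases F.comm y hy t ht with b | b
    · have : x * y * t = t * (x * y) := by
        calc x * y * t = x * (y * t) := by group
          _ = x * t * y := by rw [b]; group
          _ = _ := by rw [a]; group
      simp [a, b, this]
    · have : x * y * t = t * (x * y) * F.z := by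
        calc x * y * t = x * (y * t) := by group
          _ = x * t * y * F.z := by rw [b]; group
          _ = _ := by rw [a]; group
      simp [a, b, this, hz']
    · have : x * y * t = t * (x * y) * F.z := by
        calc x * y * t = x * (y * t) := by group
          _ = x * t * y := by rw [b]; group
          _ = t * x * (F.z * y) := by rw [a]; group
          _ = _ := by rw [← F.z_comm y hy]; group
      simp [a, b, this, hz']
    · have : x * y * t = t * (x * y) := by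
        calc x * y * t = x * (y * t) := by group
          _ = x * t * y * F.z := by rw [b]; group
          _ = t * x * (F.z * y) * F.z := by rw [a]; group
          _ = t * (x * y) * (F.z * F.z) := by rw [← F.z_comm y hy]; group
          _ = _ := by rw [F.zz, mul_one]
      simp [a, b, this, hz']
  nondeg v hv := by
    classical
    obtain ⟨x, hx, rfl⟩ := F.cls_surj v
    by_contra hcon
    push Not at hcon
    refine hv ((F.cls_zero_iff hx).2 (F.centre x hx fun y hy => ?_))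
    have := hcon (F.cls y)
    rw [F.polar_cls hy hx] at this
    by_contra hn
    simp [Ne.symm hn] at this

namespace Pair

variable {F} (p : F.Pair)

/-- The subspace of a pair. -/
def W : Set F.V := F.cls '' (p.D : Set G)

theorem D_Q {d : G} (hd : d ∈ p.D) : d ∈ F.Q := (p.mem_D.1 hd).1

theorem card_D : Nat.card ↥p.D = 2 * Nat.card ↥p.W := by
  classical
  let f : ↥p.D →* (↥F.Q ⧸ F.Zq) := (QuotientGroup.mk' F.Zq).comp (inclusion inf_le_left)
  have hk : f.ker = (zpowers F.z).subgroupOf p.D := by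
    ext d
    rw [MonoidHom.mem_ker, MonoidHom.comp_apply, QuotientGroup.mk'_apply, QuotientGroup.eq_one_iff, Zq,
      mem_subgroupOf, mem_subgroupOf]
    rfl
  have hr : Nat.card ↥f.range = Nat.card ↥p.W := by
    refine Nat.card_congr (Equiv.subtypeEquiv Additive.ofMul fun v => ?_)
    constructor
    · rintro ⟨d, rfl⟩; exact ⟨d, d.2, F.cls_eq _⟩
    · rintro ⟨d, hd, e⟩
      refine ⟨⟨d, hd⟩, ?_⟩
      rw [F.cls_eq (p.D_Q hd)] at e
      exact Additive.ofMul.injective e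
  have h := f.ker.card_mul_index
  rw [index_ker, hk, Nat.card_congr (subgroupOfEquivOfLe (zpowers_le.2 p.z_D)).toEquiv, F.card_z, hr] at h
  omega

theorem a_W : F.cls p.a ∈ p.W := ⟨p.a, p.a_D, rfl⟩

theorem W_zero : (0 : F.V) ∈ p.W := ⟨1, one_mem _, F.cls_one⟩

theorem W_add {v w : F.V} (hv : v ∈ p.W) (hw : w ∈ p.W) : v + w ∈ p.W := by
  obtain ⟨c, hc, rfl⟩ := hv
  obtain ⟨d, hd, rfl⟩ := hw
  exact ⟨c * d, mul_mem hc hd, F.cls_mul (p.D_Q hc) (p.D_Q hd)⟩

theorem W_q {v : F.V} (hv : v ∈ p.W) : F.qv v = false := by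
  classical
  obtain ⟨d, hd, rfl⟩ := hv
  rw [F.qv_cls (p.D_Q hd), p.D_sq hd, decide_eq_false_iff_not]
  exact fun e => F.z_ne e.symm

theorem X_mem {r : P36} (hr : r ∈ p.ψ.range) : r ∈ F.R := by
  obtain ⟨y, rfl⟩ := hr
  exact ⟨_, p.Cb_M y.2, rfl⟩

theorem X_fix {r : P36} (hr : r ∈ p.ψ.range) : F.mod.ρ r (F.cls p.a) = F.cls p.a := by
  obtain ⟨y, rfl⟩ := hr
  show F.act (F.π _) _ = _
  rw [F.act_cls (p.Cb_M y.2) p.a_mem]
  congr 1
  exact mul_inv_eq_iff_eq_mul.2 (p.Cb_a y.2)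

theorem X_perp {r : P36} (hr : r ∈ p.ψ.range) {v : F.V} (hv : polar F.qv v (F.cls p.a) = false) :
    F.mod.ρ r v + v ∈ p.W := by
  classical
  obtain ⟨y, rfl⟩ := hr
  obtain ⟨x, hx, rfl⟩ := F.cls_surj v
  rw [F.polar_cls hx p.a_mem, decide_eq_false_iff_not, not_not] at hv
  show F.act (F.π _) _ + _ ∈ _
  rw [F.act_cls (p.Cb_M y.2) hx]
  refine ⟨_, p.comm_D y.2 hx hv, ?_⟩
  rw [F.cls_mul (F.norm' (p.Cb_M y.2) hx) (inv_mem hx), F.cls_inv hx,
    neg_eq_of_add_eq_zero_right (F.two_eq _)]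

theorem X_W {r : P36} (hr : r ∈ p.ψ.range) {w : F.V} (hw : w ∈ p.W) :
    F.mod.ρ r w + w = 0 ∨ F.mod.ρ r w + w = F.cls p.a := by
  obtain ⟨y, rfl⟩ := hr
  obtain ⟨d, hd, rfl⟩ := hw
  show F.act (F.π (p.g * y * p.g⁻¹)) _ + _ = 0 ∨ F.act (F.π (p.g * y * p.g⁻¹)) _ + _ = _
  rw [F.act_cls (p.Cb_M y.2) (p.D_Q hd)]
  have e : F.cls (p.g * y * p.g⁻¹ * d * (p.g * y * p.g⁻¹)⁻¹ * d⁻¹) =
      F.cls (p.g * y * p.g⁻¹ * d * (p.g * y * p.g⁻¹)⁻¹) + F.cls d := by
    rw [F.cls_mul (F.norm' (p.Cb_M y.2) (p.D_Q hd)) (inv_mem (p.D_Q hd)), F.cls_inv (p.D_Q hd),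
      neg_eq_of_add_eq_zero_right (F.two_eq _)]
  rcases p.comm_a y.2 hd with h | h <;> rw [h] at e
  · exact Or.inl (e.symm.trans F.cls_one)
  · exact Or.inr e.symm

theorem W_inv {r : P36} (hr : r ∈ F.R) (ha : F.mod.ρ r (F.cls p.a) = F.cls p.a) {w : F.V} (hw : w ∈ p.W) :
    F.mod.ρ r w ∈ p.W := by
  obtain ⟨m, hm, rfl⟩ := hr
  obtain ⟨d, hd, rfl⟩ := hw
  change F.act _ _ = _ at ha
  rw [F.act_cls hm p.a_mem] at ha
  obtain ⟨m', hm', hma, e⟩ := p.lift_a hm ((F.cls_eq_iff (F.norm' hm p.a_mem) p.a_mem).1 ha)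
  show F.act _ _ ∈ _
  rw [← e, F.act_cls hm' (p.D_Q hd)]
  exact ⟨_, p.conj_D hm' hma hd, rfl⟩

/-- Distinguishing the actions on the subspace. -/
theorem card_actions' {β : Type*} [Finite β] (Φ : ↥p.Cb → β)
    (h : ∀ y w, Φ y = Φ w → ∀ v ∈ p.W, F.mod.ρ (p.ψ y) v = F.mod.ρ (p.ψ w) v) :
    Nat.card ↥p.D ≤ 4 * Nat.card ↥(Set.range Φ) := by
  refine p.card_actions Φ fun y w e d hd => ?_
  have h' := h y w e _ ⟨d, hd, rfl⟩
  change F.act (F.π _) _ = F.act (F.π _) _ at h'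
  rw [F.act_cls (p.Cb_M y.2) (p.D_Q hd), F.act_cls (p.Cb_M w.2) (p.D_Q hd)] at h'
  have hy := p.comm_a y.2 hd
  have hw := p.comm_a w.2 hd
  generalize p.g * (y : G) * p.g⁻¹ * d * (p.g * (y : G) * p.g⁻¹)⁻¹ = A at h' hy ⊢
  generalize p.g * (w : G) * p.g⁻¹ * d * (p.g * (w : G) * p.g⁻¹)⁻¹ = B at h' hw ⊢
  have hA : A = d ∨ A = p.a * d := by
    rcases hy with e | e
    · exact Or.inl (mul_inv_eq_one.1 e)
    · exact Or.inr (mul_inv_eq_iff_eq_mul.1 e)
  have hB : B = d ∨ B = p.a * d := by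
    rcases hw with e | e
    · exact Or.inl (mul_inv_eq_one.1 e)
    · exact Or.inr (mul_inv_eq_iff_eq_mul.1 e)
  have hdQ := p.D_Q hd
  have hane : F.cls p.a ≠ 0 := fun e => by
    rcases (F.cls_zero_iff p.a_mem).1 e with e | e
    · exact p.a_one e
    · exact p.ne e
  have hinj : ∀ c, (c = d ∨ c = p.a * d) → F.cls c = F.cls d → c = d := by
    rintro c (rfl | rfl) e
    · rfl
    · rw [F.cls_mul p.a_mem hdQ, add_eq_right] at e
      exact absurd e hane
  rcases hA with rfl | rfl <;> rcases hB with rfl | rfl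
  · rfl
  · exact (hinj _ (Or.inr rfl) h'.symm).symm
  · exact hinj _ (Or.inr rfl) h'
  · rfl

end Pair

end Frame

end Cfsg.Agent.Invol.ExtraEight
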