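import Mathlib.GroupTheory.Index
import Mathlib.GroupTheory.Sylow
import Mathlib.GroupTheory.Perm.Sign
import Mathlib.Algebra.Group.Subgroup.Finite
import Mathlib.Tactic.Group
import Mathlib.Tactic.Ring
import Mathlib.Tactic.Push

/-!
# An involution centraliser of shape 2^{1+8} by (C3 x A6) by 2: the setting

`Q` is extraspecial of order 2^9 with centre `⟨z⟩`, normal in `C(z)`, and `π` embeds `C(z)/Q` in `S3 x S6`.
-/

set_option autoImplicit false

namespace Cfsg.Agent.Invol.ExtraEight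

open Subgroup

universe u

/-- The product of the symmetric groups of degrees 3 and 6. -/
abbrev P36 := Equiv.Perm (Fin 3) × Equiv.Perm (Fin 6)

/-- The data of the centraliser. -/
structure Frame (G : Type u) [Group G] where
  z : G
  Q : Subgroup G
  π : G → P36
  zz : z * z = 1
  z_ne : z ≠ 1
  z_mem : z ∈ Q
  z_comm : ∀ x ∈ Q, x * z = z * x
  norm : ∀ m : G, m * z = z * m → ∀ x ∈ Q, m * x * m⁻¹ ∈ Q
  card_Q : Nat.card ↥Q = 512
  sq : ∀ x ∈ Q, x * x = 1 ∨ x * x = z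
  comm : ∀ x ∈ Q, ∀ y ∈ Q, x * y = y * x ∨ x * y = y * x * z
  centre : ∀ x ∈ Q, (∀ y ∈ Q, x * y = y * x) → x = 1 ∨ x = z
  cent : ∀ m : G, (∀ x ∈ Q, m * x = x * m) → m ∈ Q
  π_mul : ∀ m n : G, m * z = z * m → n * z = z * n → π (m * n) = π m * π n
  π_eq_one : ∀ m : G, m * z = z * m → (π m = 1 ↔ m ∈ Q)
  lift : ∀ p : Equiv.Perm (Fin 3), ∀ q : Equiv.Perm (Fin 6), Equiv.Perm.sign p = 1 → Equiv.Perm.sign q = 1 →
    ∃ m : G, m * z = z * m ∧ π m = (p, q)

namespace Frame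

variable {G : Type u} [Group G] [Finite G] (F : Frame G)

/-- The centraliser of the involution. -/
def M : Subgroup G := centralizer ({F.z} : Set G)

theorem mem_M {m : G} : m ∈ F.M ↔ m * F.z = F.z * m := by
  rw [M, mem_centralizer_singleton_iff]

theorem Q_le : F.Q ≤ F.M := fun x hx => F.mem_M.2 (F.z_comm x hx)

theorem z_M : F.z ∈ F.M := F.Q_le F.z_mem

theorem z_inv : F.z⁻¹ = F.z := inv_eq_of_mul_eq_one_right F.zz

theorem norm' {m : G} (hm : m ∈ F.M) {x : G} (hx : x ∈ F.Q) : m * x * m⁻¹ ∈ F.Q :=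
  F.norm m (F.mem_M.1 hm) x hx

theorem π_mul' {m n : G} (hm : m ∈ F.M) (hn : n ∈ F.M) : F.π (m * n) = F.π m * F.π n :=
  F.π_mul m n (F.mem_M.1 hm) (F.mem_M.1 hn)

theorem π_iff {m : G} (hm : m ∈ F.M) : F.π m = 1 ↔ m ∈ F.Q := F.π_eq_one m (F.mem_M.1 hm)

theorem π_one : F.π 1 = 1 := (F.π_iff (one_mem _)).2 (one_mem _)

theorem π_inv {m : G} (hm : m ∈ F.M) : F.π m⁻¹ = (F.π m)⁻¹ := by
  apply eq_inv_of_mul_eq_one_left
  rw [← F.π_mul' (inv_mem hm) hm, inv_mul_cancel, F.π_one]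

theorem conj_M {g y : G} (h : y * (g * F.z * g⁻¹) = (g * F.z * g⁻¹) * y) : g⁻¹ * y * g ∈ F.M := by
  rw [F.mem_M]
  calc g⁻¹ * y * g * F.z = g⁻¹ * (y * (g * F.z * g⁻¹)) * g := by group
    _ = _ := by rw [h]; group

/-- The commutator is trivial or `z`. -/
theorem comm' {x y : G} (hx : x ∈ F.Q) (hy : y ∈ F.Q) :
    x * y * x⁻¹ * y⁻¹ = 1 ∨ x * y * x⁻¹ * y⁻¹ = F.z := by
  rcases F.comm x hx y hy with h | h
  · left; rw [h]; group
  · right
    rw [h]
    have h1 := F.z_comm x⁻¹ (inv_mem hx)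
    have h2 := F.z_comm y⁻¹ (inv_mem hy)
    calc y * x * F.z * x⁻¹ * y⁻¹ = y * x * (x⁻¹ * F.z) * y⁻¹ := by rw [h1]; group
      _ = y * (y⁻¹ * F.z) := by rw [h2]; group
      _ = F.z := by group

theorem mem_pm {D : Subgroup G} (hD : F.z ∈ D) {c : G} (h : c = 1 ∨ c = F.z) : c ∈ D := by
  rcases h with rfl | rfl
  · exact one_mem _
  · exact hD

/-- The centraliser of `D` in `Q`. -/
def CQ (D : Subgroup G) : Subgroup G := F.Q ⊓ centralizer (D : Set G)

theorem mem_CQ {D : Subgroup G} {w : G} : w ∈ F.CQ D ↔ w ∈ F.Q ∧ ∀ d ∈ D, d * w = w * d := by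
  rw [CQ, mem_inf, mem_centralizer_iff]; rfl

/-- Adjoining one element of `Q`. -/
def adj (D : Subgroup G) (hz : F.z ∈ D) (hD : D ≤ F.Q) (x : G) (hx : x ∈ F.Q) : Subgroup G where
  carrier := {y | y ∈ D ∨ x * y ∈ D}
  one_mem' := Or.inl (one_mem _)
  inv_mem' := fun {y} h => by
    rcases h with h | h
    · exact Or.inl (inv_mem h)
    · right
      have hyQ : y ∈ F.Q := by simpa using mul_mem (inv_mem hx) (hD h)
      -- `x y⁻¹ = c (x²) (x y)⁻¹`
      have hc : x * (x * y)⁻¹ * x⁻¹ * ((x * y)⁻¹)⁻¹ ∈ D :=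
        F.mem_pm hz (F.comm' hx (inv_mem (hD h)))
      have hq : x * x ∈ D := F.mem_pm hz (F.sq x hx)
      have : x * y⁻¹ = x * (x * y)⁻¹ * x⁻¹ * ((x * y)⁻¹)⁻¹ * (x * y)⁻¹ * (x * x) := by group
      rw [this]
      exact mul_mem (mul_mem hc (inv_mem h)) hq
  mul_mem' := fun {y w} hy hw => by
    have hq : x * x ∈ D := F.mem_pm hz (F.sq x hx)
    rcases hy with hy | hy <;> rcases hw with hw | hw
    · exact Or.inl (mul_mem hy hw)
    · right
      have hc : x * y * x⁻¹ * y⁻¹ ∈ D := F.mem_pm hz (F.comm' hx (hD hy))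
      have : x * (y * w) = x * y * x⁻¹ * y⁻¹ * y * (x * w) := by group
      rw [this]; exact mul_mem (mul_mem hc hy) hw
    · right
      rw [← mul_assoc]; exact mul_mem hy hw
    · left
      have hc : x⁻¹ * (x * y) * (x⁻¹)⁻¹ * (x * y)⁻¹ ∈ D := F.mem_pm hz (F.comm' (inv_mem hx) (hD hy))
      have : y * w = x⁻¹ * (x * y) * (x⁻¹)⁻¹ * (x * y)⁻¹ * (x * y) * (x * x)⁻¹ * (x * w) := by group
      rw [this]; exact mul_mem (mul_mem (mul_mem hc hy) (inv_mem hq)) hw

theorem le_adj {D : Subgroup G} {hz : F.z ∈ D} {hD : D ≤ F.Q} {x : G} {hx : x ∈ F.Q} :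
    D ≤ F.adj D hz hD x hx := fun _ h => Or.inl h

theorem mem_adj_self {D : Subgroup G} {hz : F.z ∈ D} {hD : D ≤ F.Q} {x : G} {hx : x ∈ F.Q} :
    x ∈ F.adj D hz hD x hx := Or.inr (F.mem_pm hz (F.sq x hx))

theorem adj_le {D : Subgroup G} {hz : F.z ∈ D} {hD : D ≤ F.Q} {x : G} {hx : x ∈ F.Q} :
    F.adj D hz hD x hx ≤ F.Q := by
  rintro y (h | h)
  · exact hD h
  · simpa using mul_mem (inv_mem hx) (hD h)

theorem z_zpowers {y : G} (hy : y ∈ zpowers F.z) : y = 1 ∨ y = F.z := by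
  obtain ⟨k, rfl⟩ := mem_zpowers_iff.1 hy
  rcases Int.even_or_odd k with ⟨j, rfl⟩ | ⟨j, rfl⟩
  · left; rw [show j + j = 2 * j by ring, zpow_mul, show F.z ^ (2 : ℤ) = F.z * F.z from zpow_two _, F.zz, one_zpow]
  · right; rw [zpow_add, zpow_mul, show F.z ^ (2 : ℤ) = F.z * F.z from zpow_two _, F.zz, one_zpow, one_mul, zpow_one]

theorem card_z : Nat.card ↥(zpowers F.z) = 2 := by
  haveI : Fact (Nat.Prime 2) := ⟨Nat.prime_two⟩
  rw [Nat.card_zpowers]
  exact orderOf_eq_prime (by rw [pow_two]; exact F.zz) F.z_ne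

/-- Induction over the subgroups of `Q` containing `z`. -/
theorem induction_Q {P : Subgroup G → Prop} (h0 : P (zpowers F.z))
    (hs : ∀ (D : Subgroup G) (hz : F.z ∈ D) (hD : D ≤ F.Q) (x : G) (hx : x ∈ F.Q), x ∉ D → P D →
      P (F.adj D hz hD x hx))
    (D : Subgroup G) (hz : F.z ∈ D) (hD : D ≤ F.Q) : P D := by
  suffices ∀ n, ∀ E : Subgroup G, F.z ∈ E → E ≤ D → P E → Nat.card ↥D ≤ Nat.card ↥E + n → P D from
    this _ _ (mem_zpowers _) (zpowers_le.2 hz) h0 (Nat.le_add_left _ _)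
  intro n
  induction n with
  | zero => exact fun E _ hE hP hc => (eq_of_le_of_card_ge hE (by omega)) ▸ hP
  | succ n ih =>
    intro E hzE hE hP hc
    by_cases he : D ≤ E
    · exact (le_antisymm hE he) ▸ hP
    obtain ⟨x, hxD, hxE⟩ := SetLike.not_le_iff_exists.1 he
    refine ih (F.adj E hzE (hE.trans hD) x (hD hxD)) (F.le_adj hzE) ?_ (hs _ _ _ _ _ hxE hP) ?_
    · rintro y (h | h)
      · exact hE h
      · simpa using mul_mem (inv_mem hxD) (hE h)
    · have : Nat.card ↥E < Nat.card ↥(F.adj E hzE (hE.trans hD) x (hD hxD)) := by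
        by_contra h
        exact hxE ((eq_of_le_of_card_ge (F.le_adj (x := x) (hx := hD hxD)) (not_lt.1 h)).symm ▸ F.mem_adj_self)
      omega

theorem card_adj {D : Subgroup G} {hz : F.z ∈ D} {hD : D ≤ F.Q} {x : G} {hx : x ∈ F.Q} (hn : x ∉ D) :
    Nat.card ↥(F.adj D hz hD x hx) = 2 * Nat.card ↥D := by
  classical
  refine Nat.card_congr (α := ↥(F.adj D hz hD x hx)) (β := ↥D ⊕ ↥D)
    { toFun := fun y => if h : (y : G) ∈ D then .inl ⟨y, h⟩ else .inr ⟨x * y, (y.2.resolve_left h)⟩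
      invFun := Sum.elim (fun d => ⟨d, Or.inl d.2⟩) (fun d => ⟨x⁻¹ * d, Or.inr (by simp)⟩)
      left_inv := fun y => by
        by_cases h : (y : G) ∈ D <;> simp [h]
      right_inv := ?_ } |>.trans ?_
  · rintro (d | d)
    · simp
    · have : x⁻¹ * (d : G) ∉ D := fun h => hn (by simpa using mul_mem d.2 (inv_mem h))
      simp [this]
  · rw [Nat.card_sum, two_mul]

/-- The centraliser in `Q` of a subgroup, and the double centraliser. -/
theorem perp (D : Subgroup G) (hz : F.z ∈ D) (hD : D ≤ F.Q) :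
    Nat.card ↥D * Nat.card ↥(F.CQ D) = 1024 ∧ ∀ w ∈ F.Q, (∀ v ∈ F.CQ D, w * v = v * w) → w ∈ D := by
  classical
  refine F.induction_Q (P := fun D => Nat.card ↥D * Nat.card ↥(F.CQ D) = 1024 ∧
    ∀ w ∈ F.Q, (∀ v ∈ F.CQ D, w * v = v * w) → w ∈ D) ⟨?_, fun w hw h => ?_⟩ (fun D hz hD x hx hn ih => ?_) D hz hD
  · rw [F.card_z, show F.CQ (zpowers F.z) = F.Q from le_antisymm inf_le_left fun w hw =>
      F.mem_CQ.2 ⟨hw, fun d hd => by rcases F.z_zpowers hd with rfl | rfl <;> simp [F.z_comm w hw]⟩, F.card_Q]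
  · rcases F.centre w hw (fun v hv => h v (F.mem_CQ.2 ⟨hv, fun d hd => by
      rcases F.z_zpowers hd with rfl | rfl <;> simp [F.z_comm v hv]⟩)) with rfl | rfl
    · exact one_mem _
    · exact mem_zpowers _
  set E := F.adj D hz hD x hx
  obtain ⟨v0, hv0, hv0x⟩ : ∃ v0 ∈ F.CQ D, x * v0 ≠ v0 * x := by
    by_contra h; push Not at h; exact hn (ih.2 x hx h)
  have hmem : ∀ {v : G}, v ∈ F.CQ E ↔ v ∈ F.CQ D ∧ x * v = v * x := fun {v} => by
    refine ⟨fun h => ⟨F.mem_CQ.2 ⟨(F.mem_CQ.1 h).1, fun d hd => (F.mem_CQ.1 h).2 d (F.le_adj hd)⟩,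
      (F.mem_CQ.1 h).2 x F.mem_adj_self⟩, fun ⟨h, hx'⟩ => F.mem_CQ.2 ⟨(F.mem_CQ.1 h).1, ?_⟩⟩
    rintro d (hd | hd)
    · exact (F.mem_CQ.1 h).2 d hd
    · have h1 := (F.mem_CQ.1 h).2 (x * d) hd
      have h2 : x⁻¹ * v = v * x⁻¹ := (Commute.inv_left hx').eq
      calc d * v = x⁻¹ * (x * d * v) := by group
        _ = x⁻¹ * v * (x * d) := by rw [h1]; group
        _ = v * d := by rw [h2]; group
  -- products of two elements not commuting with `x` commute with it
  have hprod : ∀ {v w : G}, v ∈ F.Q → w ∈ F.Q → x * v ≠ v * x → x * w ≠ w * x → x * (v * w) = v * w * x := by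
    intro v w hv hw h1 h2
    have e1 := (F.comm x hx v hv).resolve_left h1
    have e2 := (F.comm x hx w hw).resolve_left h2
    calc x * (v * w) = v * (x * F.z) * w := by rw [← mul_assoc, e1]; group
      _ = v * (F.z * (x * w)) := by rw [F.z_comm x hx]; group
      _ = v * w * x * (F.z * F.z) := by
          rw [e2, show F.z * (w * x * F.z) = (F.z * (w * x)) * F.z by group,
            ← F.z_comm _ (mul_mem hw hx)]
          group
      _ = v * w * x := by rw [F.zz, mul_one]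
  have hC : Nat.card ↥(F.CQ D) = 2 * Nat.card ↥(F.CQ E) := by
    refine Nat.card_congr (α := ↥(F.CQ D)) (β := ↥(F.CQ E) ⊕ ↥(F.CQ E))
      { toFun := fun v => if h : x * (v : G) = v * x then .inl ⟨v, hmem.2 ⟨v.2, h⟩⟩
          else .inr ⟨v0 * v, hmem.2 ⟨mul_mem hv0 v.2, hprod (F.mem_CQ.1 hv0).1 (F.mem_CQ.1 v.2).1 hv0x h⟩⟩
        invFun := Sum.elim (fun v => ⟨v, (hmem.1 v.2).1⟩) (fun v => ⟨v0⁻¹ * v, mul_mem (inv_mem hv0) (hmem.1 v.2).1⟩)
        left_inv := fun v => by by_cases h : x * (v : G) = v * x <;> simp [h]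
        right_inv := ?_ } |>.trans (by rw [Nat.card_sum, two_mul])
    rintro (v | v)
    · simp [(hmem.1 v.2).2]
    · have : ¬ x * (v0⁻¹ * (v : G)) = v0⁻¹ * v * x := fun h => hv0x (by
        have hv := (hmem.1 v.2).2
        have e : v0 = (v : G) * (v0⁻¹ * v)⁻¹ := by group
        rw [e]
        exact (Commute.mul_right hv (Commute.inv_right h)).eq)
      simp [this]
  refine ⟨?_, fun w hw h => ?_⟩
  · rw [F.card_adj hn, mul_assoc, mul_left_comm, ← hC]; exact ih.1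
  · by_cases hc : w * v0 = v0 * w
    · refine Or.inl (ih.2 w hw fun v hv => ?_)
      by_cases hxv : x * v = v * x
      · exact h v (hmem.2 ⟨hv, hxv⟩)
      · have h1 := h (v0 * v) (hmem.2 ⟨mul_mem hv0 hv, hprod (F.mem_CQ.1 hv0).1 (F.mem_CQ.1 hv).1 hv0x hxv⟩)
        calc w * v = v0⁻¹ * (v0 * w) * v := by group
          _ = v0⁻¹ * (w * (v0 * v)) := by rw [← hc]; group
          _ = v * w := by rw [h1]; group
    · refine Or.inr (ih.2 (x * w) (mul_mem hx hw) fun v hv => ?_)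
      have hvQ := (F.mem_CQ.1 hv).1
      have key : ∀ u ∈ F.CQ D, x * u ≠ u * x → w * u ≠ u * w := fun u hu hxu hwu => by
        have h1 := h (v0 * u) (hmem.2 ⟨mul_mem hv0 hu, hprod (F.mem_CQ.1 hv0).1 (F.mem_CQ.1 hu).1 hv0x hxu⟩)
        refine hc ?_
        calc w * v0 = w * (v0 * u) * u⁻¹ := by group
          _ = v0 * (u * w) * u⁻¹ := by rw [h1]; group
          _ = v0 * w := by rw [← hwu]; group
      by_cases hxv : x * v = v * x
      · calc x * w * v = x * (w * v) := by group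
          _ = x * v * w := by rw [h v (hmem.2 ⟨hv, hxv⟩)]; group
          _ = v * (x * w) := by rw [hxv]; group
      · have e1 := (F.comm x hx v hvQ).resolve_left hxv
        have e2 := (F.comm w hw v hvQ).resolve_left (key v hv hxv)
        calc x * w * v = x * (v * w) * F.z := by rw [mul_assoc x w v, e2]; group
          _ = v * x * (F.z * w) * F.z := by rw [← mul_assoc x v w, e1]; group
          _ = v * (x * w) * (F.z * F.z) := by rw [← F.z_comm w hw]; group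
          _ = v * (x * w) := by rw [F.zz, mul_one]

/-- An element of `C(z)` acting trivially on `Q/⟨z⟩` lies in `Q`. -/
theorem trivial_mem {m : G} (hm : m ∈ F.M)
    (h : ∀ x ∈ F.Q, m * x = x * m ∨ m * x = x * m * F.z) : m ∈ F.Q := by
  suffices ∃ y ∈ F.Q, ∀ d ∈ F.Q, m * y * d = d * (m * y) by
    obtain ⟨y, hy, hc⟩ := this
    simpa using mul_mem (F.cent (m * y) hc) (inv_mem hy)
  refine F.induction_Q (P := fun D => ∃ y ∈ F.Q, ∀ d ∈ D, m * y * d = d * (m * y)) ⟨1, one_mem _, fun d hd => ?_⟩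
    (fun D hz hD x hx hn ⟨y, hy, hc⟩ => ?_) F.Q F.z_mem le_rfl
  · rw [mul_one]
    rcases F.z_zpowers hd with rfl | rfl
    · simp
    · exact F.mem_M.1 hm
  have hext : ∀ {t : G}, t * x = x * t → (∀ d ∈ D, t * d = d * t) → ∀ d ∈ F.adj D hz hD x hx, t * d = d * t := by
    intro t h1 h2 d hd
    rcases hd with hd | hd
    · exact h2 d hd
    · calc t * d = t * x⁻¹ * (x * d) := by group
        _ = x⁻¹ * (t * (x * d)) := by rw [(Commute.inv_right h1).eq]; group
        _ = d * t := by rw [h2 _ hd]; group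
  by_cases hyx : m * y * x = x * (m * y)
  · exact ⟨y, hy, hext hyx hc⟩
  obtain ⟨v0, hv0, hv0x⟩ : ∃ v0 ∈ F.CQ D, x * v0 ≠ v0 * x := by
    by_contra h'; push Not at h'; exact hn ((F.perp D hz hD).2 x hx h')
  have hv0Q := (F.mem_CQ.1 hv0).1
  have e1 : m * y * x = x * (m * y) * F.z := by
    rcases h x hx with h1 | h1 <;> rcases F.comm y hy x hx with h2 | h2
    · exact absurd (by rw [mul_assoc, h2, ← mul_assoc, h1, mul_assoc]) hyx
    · rw [mul_assoc, h2, ← mul_assoc, ← mul_assoc, h1]; group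
    · rw [mul_assoc, h2, ← mul_assoc, h1]
      calc x * m * F.z * y = x * m * (F.z * y) := by group
        _ = x * (m * y) * F.z := by rw [← F.z_comm y hy]; group
    · refine absurd ?_ hyx
      calc m * y * x = m * (y * x) := by group
        _ = m * x * (y * F.z) := by rw [h2]; group
        _ = x * m * (F.z * y) * F.z := by rw [h1]; group
        _ = x * (m * y) * (F.z * F.z) := by rw [← F.z_comm y hy]; group
        _ = x * (m * y) := by rw [F.zz, mul_one]
  refine ⟨y * v0, mul_mem hy hv0Q, hext ?_ fun d hd => ?_⟩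
  · have e2 := (F.comm v0 hv0Q x hx).resolve_left (Ne.symm hv0x)
    calc m * (y * v0) * x = m * y * (v0 * x) := by group
      _ = m * y * x * (v0 * F.z) := by rw [e2]; group
      _ = x * (m * y) * (F.z * v0) * F.z := by rw [e1]; group
      _ = x * (m * (y * v0)) * (F.z * F.z) := by rw [← F.z_comm v0 hv0Q]; group
      _ = x * (m * (y * v0)) := by rw [F.zz, mul_one]
  · calc m * (y * v0) * d = m * y * (v0 * d) := by group
      _ = m * y * d * v0 := by rw [← (F.mem_CQ.1 hv0).2 d hd]; group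
      _ = d * (m * (y * v0)) := by rw [hc d hd]; group

end Frame

end Cfsg.Agent.Invol.ExtraEight
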