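import Cfsg.Agent.Lib.Invol.ExtraEight.Linear
import Cfsg.Agent.Lib.Invol.ExtraEight.Setting
import Cfsg.Agent.Lib.Invol.ExtraEight.FactsPerm
import Mathlib.Tactic.Abel

/-!
# An involution centraliser of shape 2^{1+8} by (C3 x A6) by 2: the module `Q/⟨z⟩`

Either the module is the model, or the normal subgroup of order 3 moves only a plane.
-/

set_option autoImplicit false

namespace Cfsg.Agent.Invol.ExtraEight

open Equiv

universe u

/-- The polar form of a boolean function. -/
def polar {V : Type*} [Add V] (q : V → Bool) (x y : V) : Bool := q (x + y) ^^ q x ^^ q y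

/-- A module with invariant quadratic form for a subgroup of `S3 x S6` containing `C3 x A6`. -/
structure Mod (V : Type u) [AddCommGroup V] where
  R : Subgroup P36
  alt : ∀ p : Perm (Fin 3), ∀ q : Perm (Fin 6), Perm.sign p = 1 → Perm.sign q = 1 → (p, q) ∈ R
  ρ : P36 → V →+ V
  ρ_one : ∀ v, ρ 1 v = v
  ρ_mul : ∀ r ∈ R, ∀ s ∈ R, ∀ v, ρ (r * s) v = ρ r (ρ s v)
  faith : ∀ r ∈ R, (∀ v, ρ r v = v) → r = 1
  card : Nat.card V = 256
  two : ∀ v : V, v + v = 0
  q : V → Bool
  q_zero : q 0 = false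
  q_inv : ∀ r ∈ R, ∀ v, q (ρ r v) = q v
  bil : ∀ u v w, polar q (u + v) w = (polar q u w ^^ polar q v w)
  nondeg : ∀ v, v ≠ 0 → ∃ u, polar q u v = true

/-- The permutation of order 3 of three letters. -/
def t3 : Perm (Fin 3) := swap 0 1 * swap 1 2

/-- The elements behind the generators of the model. -/
def gen36 (b : Bool) (i : ℕ) : P36 := if i < 4 then (1, (perms b).getD i 1) else (t3, 1)

namespace Mod

variable {V : Type u} [AddCommGroup V] [Finite V] (m : Mod V)

/-- The scalar of order 3. -/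
def T (v : V) : V := m.ρ (t3, 1) v

/-- The generators of the alternating group. -/
def A (b : Bool) (i : ℕ) (v : V) : V := m.ρ (1, (perms b).getD i 1) v

theorem perm_even (b : Bool) (i : ℕ) : Perm.sign ((perms b).getD i 1) = 1 := by
  rcases i with _ | _ | _ | _ | i
  iterate 4 exact (perms_props b).2.2.2.2 _ (by omega)
  cases b <;> rfl

theorem t_mem : ((t3, 1) : P36) ∈ m.R := m.alt _ _ (by decide) (map_one _)

theorem a_mem (b : Bool) (i : ℕ) : ((1, (perms b).getD i 1) : P36) ∈ m.R := m.alt _ _ (map_one _) (perm_even b i)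

theorem TT (v : V) : m.T (m.T (m.T v)) = v := by
  rw [T, T, T, ← m.ρ_mul _ m.t_mem _ m.t_mem, ← m.ρ_mul _ (mul_mem m.t_mem m.t_mem) _ m.t_mem]
  convert m.ρ_one v
  decide

theorem T_A (b : Bool) (i : ℕ) (v : V) : m.T (m.A b i v) = m.A b i (m.T v) := by
  rw [T, A, T, A, ← m.ρ_mul _ m.t_mem _ (m.a_mem b i), ← m.ρ_mul _ (m.a_mem b i) _ m.t_mem]
  simp

theorem A_A (b : Bool) (i j : ℕ) (v : V) :
    m.A b i (m.A b j v) = m.ρ (1, (perms b).getD i 1 * (perms b).getD j 1) v := by
  rw [A, A, ← m.ρ_mul _ (m.a_mem b i) _ (m.a_mem b j)]; simp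

theorem a3 (b : Bool) (v : V) : m.A b 0 (m.A b 0 (m.A b 0 v)) = v := by
  rw [A_A, A, ← m.ρ_mul _ (m.alt _ _ (map_one _) (by simp only [map_mul, perm_even, mul_one])) _ (m.a_mem b 0)]
  convert m.ρ_one v
  exact Prod.ext (one_mul _) (perms_props b).1.1

theorem b3 (b : Bool) (v : V) : m.A b 1 (m.A b 1 (m.A b 1 v)) = v := by
  rw [A_A, A, ← m.ρ_mul _ (m.alt _ _ (map_one _) (by simp only [map_mul, perm_even, mul_one])) _ (m.a_mem b 1)]
  convert m.ρ_one v
  exact Prod.ext (one_mul _) (perms_props b).1.2.1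

theorem ab (b : Bool) (v : V) : m.A b 0 (m.A b 1 v) = m.A b 1 (m.A b 0 v) := by
  rw [A_A, A_A, (perms_props b).1.2.2]

theorem j_a (b : Bool) (v : V) : m.A b 2 (m.A b 0 v) = m.A b 1 (m.A b 2 v) := by
  have h : (perms b).getD 2 1 * (perms b).getD 0 1 * ((perms b).getD 2 1)⁻¹ = (perms b).getD 1 1 :=
    (perms_props b).2.1.1
  rw [A_A, A_A, ← h, inv_mul_cancel_right]

theorem j_b (b : Bool) (v : V) : m.A b 0 (m.A b 2 (m.A b 1 v)) = m.A b 2 v := by
  rw [A_A, A, A, ← m.ρ_mul _ (m.alt _ _ (map_one _) (by simp only [map_mul, perm_even, mul_one])) _ (m.a_mem b 1)]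
  congr 2
  refine Prod.ext (one_mul _) ?_
  have h : (perms b).getD 2 1 * (perms b).getD 1 1 * ((perms b).getD 2 1)⁻¹ = ((perms b).getD 0 1)⁻¹ :=
    (perms_props b).2.1.2.1
  show _ * _ * _ = _
  rw [mul_assoc, mul_inv_eq_iff_eq_mul.1 h, mul_inv_cancel_left]

theorem j4 (b : Bool) (v : V) : m.A b 2 (m.A b 2 (m.A b 2 (m.A b 2 v))) = v := by
  rw [A_A, A_A, ← m.ρ_mul _ (m.alt _ _ (map_one _) (by simp only [map_mul, perm_even, mul_one])) _ (m.alt _ _ (map_one _) (by simp only [map_mul, perm_even, mul_one]))]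
  convert m.ρ_one v
  exact Prod.ext (one_mul _) (perms_props b).2.1.2.2

theorem T_add (u v : V) : m.T (u + v) = m.T u + m.T v := map_add _ _ _

theorem A_add (b : Bool) (i : ℕ) (u v : V) : m.A b i (u + v) = m.A b i u + m.A b i v := map_add _ _ _

theorem T_zero : m.T 0 = 0 := map_zero _

theorem A_zero (b : Bool) (i : ℕ) : m.A b i 0 = 0 := map_zero _

omit [Finite V] in
theorem eq_of_add_zero (m : Mod V) {x y : V} (h : x + y = 0) : x = y := by
  have := congrArg (· + y) h
  simpa [add_assoc, m.two] using this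

/-- The part moved by the scalar. -/
def U (v : V) : Prop := v + m.T v + m.T (m.T v) = 0

theorem U_add {u v : V} (hu : m.U u) (hv : m.U v) : m.U (u + v) := by
  unfold U at *
  rw [m.T_add, m.T_add]
  calc _ = (u + m.T u + m.T (m.T u)) + (v + m.T v + m.T (m.T v)) := by abel
    _ = 0 := by rw [hu, hv, add_zero]

theorem U_zero : m.U 0 := by simp [U, T_zero]

theorem U_A {v : V} (b : Bool) (i : ℕ) (h : m.U v) : m.U (m.A b i v) := by
  unfold U at *
  rw [m.T_A, m.T_A, ← m.A_add, ← m.A_add, h, m.A_zero]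

theorem U_T {v : V} (h : m.U v) : m.U (m.T v) := by
  unfold U at *
  rw [← m.T_add, ← m.T_add, h, m.T_zero]

theorem U_sum {v : V} (h : m.U v) : v + m.T v = m.T (m.T v) := m.eq_of_add_zero h

theorem U_fixed {v : V} (h : m.U v) (h' : m.T v = v) : v = 0 := by
  unfold U at h
  rwa [h', h', m.two, zero_add] at h

theorem C_proj (v : V) : m.T (v + m.T v + m.T (m.T v)) = v + m.T v + m.T (m.T v) := by
  rw [m.T_add, m.T_add, m.TT]; abel

theorem U_proj (v : V) : m.U (v + (v + m.T v + m.T (m.T v))) := by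
  unfold U
  rw [m.T_add v, m.C_proj, m.T_add (m.T v), m.C_proj]
  calc _ = (v + m.T v + m.T (m.T v)) + (v + m.T v + m.T (m.T v))
      + ((v + m.T v + m.T (m.T v)) + (v + m.T v + m.T (m.T v))) := by abel
    _ = 0 := by simp [m.two]

/-- The eigen components for a generator of order 3. -/
def E (b : Bool) (i : ℕ) : Fin 3 → V → V
  | 0, v => v + m.A b i v + m.A b i (m.A b i v)
  | 1, v => v + m.T (m.T (m.A b i v)) + m.T (m.A b i (m.A b i v))
  | 2, v => v + m.T (m.A b i v) + m.T (m.T (m.A b i (m.A b i v)))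

/-- Powers of the scalar. -/
def Tn : Fin 3 → V → V
  | 0, v => v
  | 1, v => m.T v
  | 2, v => m.T (m.T v)

theorem E_eigen (b : Bool) {i : ℕ} (hi : i < 2) (c : Fin 3) (v : V) :
    m.A b i (m.E b i c v) = m.Tn c (m.E b i c v) := by
  have h3 : m.A b i (m.A b i (m.A b i v)) = v := by
    rcases i with _ | _ | i
    · exact m.a3 b v
    · exact m.b3 b v
    · omega
  fin_cases c <;> simp only [E, Tn, T_add, A_add, ← T_A, h3, TT] <;> abel

theorem E_sum (b : Bool) (i : ℕ) {v : V} (hv : m.U v) :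
    v = m.E b i 0 v + m.E b i 1 v + m.E b i 2 v := by
  simp only [E]
  have h1 := m.U_A b i hv
  have h2 := m.U_A b i h1
  unfold U at h1 h2
  calc v = v + (v + v) + (m.A b i v + m.T (m.A b i v) + m.T (m.T (m.A b i v))) +
      (m.A b i (m.A b i v) + m.T (m.A b i (m.A b i v)) + m.T (m.T (m.A b i (m.A b i v)))) := by
        rw [h1, h2, m.two, add_zero, add_zero, add_zero]
    _ = _ := by abel

theorem U_E (b : Bool) (i : ℕ) (c : Fin 3) {v : V} (hv : m.U v) : m.U (m.E b i c v) := by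
  fin_cases c <;> simp only [E] <;>
    repeat' first | exact hv | apply U_add | apply U_T | apply U_A

/-- `w` is a common eigenvector. -/
def Char (b : Bool) (w : V) (c d : Fin 3) : Prop := m.A b 0 w = m.Tn c w ∧ m.A b 1 w = m.Tn d w

theorem Tn_A (b : Bool) (i : ℕ) (c : Fin 3) (v : V) : m.Tn c (m.A b i v) = m.A b i (m.Tn c v) := by
  fin_cases c <;> simp only [Tn, T_A]

theorem Tn_Tn (c d : Fin 3) (v : V) : m.Tn c (m.Tn d v) = m.Tn (c + d) v := by
  fin_cases c <;> fin_cases d <;> simp [Tn, TT]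

theorem char_shift {b : Bool} {w : V} {c d : Fin 3} (h : m.Char b w c d) :
    m.Char b (m.A b 2 w) (-d) c := by
  refine ⟨?_, ?_⟩
  · have := congrArg (m.Tn (-d)) (m.j_b b w)
    rwa [h.2, ← m.Tn_A b 2, ← m.Tn_A b 0, m.Tn_Tn, neg_add_cancel] at this
  · rw [← m.j_a, h.1, m.Tn_A]

theorem A_true (v : V) :
    m.A true 0 v = m.A false 0 (m.A false 1 v) ∧ m.A true 1 v = m.A false 0 (m.A false 0 (m.A false 1 v)) ∧
      m.A true 2 v = m.A false 2 v := by
  obtain ⟨h0, h1, h2⟩ := perms_primed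
  refine ⟨?_, ?_, ?_⟩
  · rw [A_A, A, h0]
  · rw [A_A, A, A, ← m.ρ_mul _ (m.alt _ _ (map_one _) (by simp only [map_mul, perm_even, mul_one])) _ (m.a_mem false 1), h1]
    simp
  · rw [A, A, h2]

theorem char_true {w : V} {c d : Fin 3} (h : m.Char false w c d) : m.Char true w (c + d) (c + c + d) := by
  obtain ⟨h0, h1, -⟩ := m.A_true w
  refine ⟨?_, ?_⟩
  · rw [h0, h.2, ← m.Tn_A, h.1, m.Tn_Tn, add_comm]
  · rw [h1, h.2, ← m.Tn_A, h.1, m.Tn_Tn, ← m.Tn_A, h.1, m.Tn_Tn]
    congr 1; abel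

theorem shift_to {b : Bool} {w : V} (hw : m.U w) (h0 : w ≠ 0) {c d : Fin 3} (h : m.Char b w c d)
    (hcd : (c = 0) ≠ (d = 0)) : ∃ x, m.U x ∧ x ≠ 0 ∧ m.Char b x 1 0 := by
  have hne : ∀ {x : V}, x ≠ 0 → m.A b 2 x ≠ 0 := fun {x} hx e => hx (by
    rw [← m.j4 b x, e, m.A_zero, m.A_zero, m.A_zero])
  have u1 := m.U_A b 2 hw
  have u2 := m.U_A b 2 u1
  have u3 := m.U_A b 2 u2
  have h1 := m.char_shift h
  have h2 := m.char_shift h1
  have h3 := m.char_shift h2
  fin_cases c <;> fin_cases d <;> simp at hcd <;>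
    first
      | exact ⟨w, hw, h0, h⟩
      | exact ⟨_, u1, hne h0, h1⟩
      | exact ⟨_, u2, hne (hne h0), h2⟩
      | exact ⟨_, u3, hne (hne (hne h0)), h3⟩

/-- Either some vector moved by the scalar is an eigenvector, or the alternating group fixes them all. -/
theorem dichotomy : (∃ b w, m.U w ∧ w ≠ 0 ∧ m.Char b w 1 0) ∨
    ∀ v, m.U v → m.A false 0 v = v ∧ m.A false 1 v = v := by
  by_cases hex : ∃ b w, m.U w ∧ w ≠ 0 ∧ m.Char b w 1 0
  · exact Or.inl hex
  refine Or.inr fun v hv => ?_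
  have key : ∀ c d : Fin 3, (c ≠ 0 ∨ d ≠ 0) → m.E false 1 d (m.E false 0 c v) = 0 := by
    intro c d hcd
    by_contra hne
    have hU := m.U_E false 1 d (m.U_E false 0 c hv)
    have hch : m.Char false (m.E false 1 d (m.E false 0 c v)) c d := by
      refine ⟨?_, m.E_eigen false (by omega) d _⟩
      have hc := m.E_eigen false (i := 0) (by omega) c v
      generalize m.E false 0 c v = y at hc ⊢
      fin_cases d <;> simp only [E, A_add, ← T_A, ab, hc, ← Tn_A] <;>
        fin_cases c <;> simp only [Tn, T_add] <;> abel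
    by_cases hx : (c = 0) ≠ (d = 0)
    · exact hex ⟨false, m.shift_to hU hne hch hx⟩
    · refine hex ⟨true, m.shift_to hU hne (m.char_true hch) ?_⟩
      revert hcd hx
      fin_cases c <;> fin_cases d <;> decide
  have hc : ∀ c, m.E false 0 c v = m.E false 1 0 (m.E false 0 c v) := fun c => by
    conv_lhs => rw [m.E_sum false 1 (m.U_E false 0 c hv), key c 1 (by simp), key c 2 (by simp), add_zero, add_zero]
  have e : v = m.E false 1 0 (m.E false 0 0 v) := by
    conv_lhs => rw [m.E_sum false 0 hv, hc 1, hc 2, key 1 0 (by simp), key 2 0 (by simp), add_zero, add_zero, hc 0]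
  have e0 : v = m.E false 0 0 v := e.trans (hc 0).symm
  refine ⟨?_, ?_⟩
  · rw [e0]; exact m.E_eigen false (i := 0) (by omega) 0 v
  · rw [e]; exact m.E_eigen false (i := 1) (by omega) 0 _

/-- The four multiples of a vector. -/
def dig : ℕ → V → V
  | 1, x => x
  | 2, x => m.T x
  | 3, x => x + m.T x
  | _, _ => 0

theorem comb_cons_two (x : V) (e : List V) (v : ℕ) :
    comb (x :: m.T x :: e) v = m.dig (v % 4) x + comb e (v / 4) := by
  simp only [comb]
  have h1 : v % 2 = v % 4 % 2 := by omega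
  have h2 : v / 2 % 2 = v % 4 / 2 := by omega
  rw [h1, h2, show v / 2 / 2 = v / 4 by omega]
  have := Nat.mod_lt v (show 4 > 0 by omega)
  generalize v % 4 = r at *
  rcases r with _ | _ | _ | _ | r
  · simp [dig]
  · simp [dig]
  · simp [dig]
  · simp [dig, add_assoc]
  · omega

theorem dig_eq_zero {x : V} (hU : m.U x) (hx : x ≠ 0) {n : ℕ} (hn : n < 4) (h : m.dig n x = 0) : n = 0 := by
  rcases n with _ | _ | _ | _ | n
  · rfl
  · exact absurd h hx
  · exact absurd (by rw [← m.TT x, show m.T x = 0 from h, m.T_zero, m.T_zero]) hx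
  · refine absurd ?_ hx
    rw [← m.TT x, ← m.U_sum hU]
    simp only [dig] at h
    rw [h, m.T_zero]
  · omega

theorem polar_comm (u v : V) : polar m.q u v = polar m.q v u := by
  simp only [polar, add_comm u v]; cases m.q u <;> cases m.q v <;> simp

theorem polar_zero (v : V) : polar m.q 0 v = false := by simp [polar, m.q_zero]

theorem polar_self (v : V) : polar m.q v v = false := by simp [polar, m.two, m.q_zero]

theorem polar_inv {r : P36} (hr : r ∈ m.R) (u v : V) : polar m.q (m.ρ r u) (m.ρ r v) = polar m.q u v := by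
  simp [polar, ← map_add, m.q_inv r hr]

theorem q_add (u v : V) : m.q (u + v) = (m.q u ^^ m.q v ^^ polar m.q u v) := by
  unfold polar; cases m.q u <;> cases m.q v <;> simp

/-- A scalar shift forces orthogonality on the moved part. -/
theorem orth {x y : V} (hy : m.U y) (h : ∀ z, z = y ∨ z = m.T y → polar m.q x (m.T z) = polar m.q x z) :
    polar m.q x y = false := by
  have h1 := h y (Or.inl rfl)
  have h2 := h (m.T y) (Or.inr rfl)
  have h3 : polar m.q x (y + m.T y + m.T (m.T y)) = false := by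
    rw [show y + m.T y + m.T (m.T y) = 0 from hy, m.polar_comm, m.polar_zero]
  rw [m.polar_comm, m.bil, m.bil, m.polar_comm y, m.polar_comm (m.T y), m.polar_comm (m.T (m.T y)), h2, h1] at h3
  revert h3
  cases polar m.q x y <;> simp

theorem q_one {x : V} (hU : m.U x) (h : polar m.q (m.T x) x = true) : m.q x = true := by
  have h1 := m.q_add x (m.T x)
  rw [m.U_sum hU, m.polar_comm, h] at h1
  have e : ∀ v, m.q (m.T v) = m.q v := fun v => m.q_inv _ m.t_mem v
  rw [e, e] at h1
  revert h1; cases m.q x <;> simp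

end Mod

end Cfsg.Agent.Invol.ExtraEight
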