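import Cfsg.Agent.Lib.Invol.ExtraEight.Space
import Mathlib.GroupTheory.SpecificGroups.Alternating.Simple

/-!
# An involution centraliser of shape 2^{1+8} by (C3 x A6) by 2: coordinates on the module
-/

set_option autoImplicit false
set_option linter.unusedSimpArgs false

namespace Cfsg.Agent.Invol.ExtraEight

open Equiv

universe u

theorem perms_kj (b : Bool) : (perms b).getD 3 1 * (perms b).getD 2 1 =
    (perms b).getD 2 1 * (perms b).getD 2 1 * (perms b).getD 2 1 * (perms b).getD 3 1 := by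
  cases b <;> decide +kernel

/-- Images of a basis of the small orthogonal space. -/
def tupS : List (List ℕ) :=
  let q4 := fun v : ℕ => ((v % 4 == 0) ^^ (v / 4 == 0))
  let b4 := fun u v : ℕ => q4 (u ^^^ v) ^^ q4 u ^^ q4 v
  ((List.range 16).filter q4).flatMap fun a => ((List.range 16).filter fun x => q4 x && b4 a x).flatMap fun x =>
    ((List.range 16).filter fun y => q4 y && !b4 a y && !b4 x y).flatMap fun y =>
      ((List.range 16).filter fun z => q4 z && !b4 a z && !b4 x z && b4 y z).map fun z => [a, x, y, z]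

theorem tupS_length : tupS.length = 72 := by decide +kernel

namespace Mod

variable {V : Type u} [AddCommGroup V] [Finite V]

/-- Coordinates in which the group is the model. -/
structure Coords (m : Mod V) (b : Bool) where
  c : ℕ → V
  add : ∀ u v, c (u ^^^ v) = c u + c v
  inj : ∀ u < 256, ∀ v < 256, c u = c v → u = v
  surj : ∀ x, ∃ v < 256, c v = x
  q : ∀ v < 256, m.q (c v) = qf v
  gen : ∀ i < 5, ∀ v < 256, m.ρ (gen36 b i) (c v) = c (app (mats.getD i idm) v)

variable (m : Mod V)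

/-- Only a plane is moved by the scalar. -/
def Small : Prop :=
  ∃ x, x ≠ 0 ∧ m.U x ∧ (∀ y, m.U y → y = 0 ∨ y = x ∨ y = m.T x ∨ y = x + m.T x) ∧
    ∀ q : Perm (Fin 6), Perm.sign q = 1 → ∀ y, m.U y → m.ρ (1, q) y = y

theorem dig_U {x : V} (h : m.U x) (n : ℕ) : m.U (m.dig n x) := by
  rcases n with _ | _ | _ | _ | n <;>
    first | exact m.U_zero | exact h | exact m.U_T h | exact m.U_add h (m.U_T h)

theorem dig_comm (f : V →+ V) (hf : ∀ v, f (m.T v) = m.T (f v)) (n : ℕ) (x : V) : f (m.dig n x) = m.dig n (f x) := by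
  rcases n with _ | _ | _ | _ | n <;> simp [dig, hf]

theorem A_dig (b : Bool) (i n : ℕ) (x : V) : m.A b i (m.dig n x) = m.dig n (m.A b i x) :=
  m.dig_comm (m.ρ (1, (perms b).getD i 1)) (fun v => (m.T_A b i v).symm) n x

theorem T_dig (n : ℕ) (x : V) : m.T (m.dig n x) = m.dig n (m.T x) := m.dig_comm (m.ρ (t3, 1)) (fun _ => rfl) n x

theorem Tn_dig (c : Fin 3) (n : ℕ) (x : V) : m.Tn c (m.dig n x) = m.dig n (m.Tn c x) := by
  fin_cases c <;> simp only [Tn, T_dig]

theorem E_add (b : Bool) (i : ℕ) (c : Fin 3) (u v : V) : m.E b i c (u + v) = m.E b i c u + m.E b i c v := by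
  fin_cases c <;> simp only [E, A_add, T_add] <;> abel

theorem E_of_eigen (b : Bool) (i : ℕ) (c d : Fin 3) {y : V} (hy : m.U y) (h : m.A b i y = m.Tn d y) :
    m.E b i c y = if c = d then y else 0 := by
  have h0 : y + m.T y + m.T (m.T y) = 0 := hy
  have h1 : y + y + y = y := by rw [m.two, zero_add]
  fin_cases c <;> fin_cases d <;> simp only [Tn] at h <;>
    simp only [E, Tn, h, ← T_A, TT] <;>
    first | done | exact h1 | (rw [if_neg (by decide), ← h0] <;> abel)

theorem orth_char {b : Bool} {i : ℕ} {c d : Fin 3} (hcd : c ≠ d) {x y : V} (hy : m.U y)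
    (hax : m.A b i x = m.Tn c x) (hay : m.A b i y = m.Tn d y) : polar m.q x y = false := by
  have hT : ∀ u v, polar m.q (m.T u) (m.T v) = polar m.q u v := m.polar_inv m.t_mem
  have hTn : ∀ k u v, polar m.q (m.Tn k u) (m.Tn k v) = polar m.q u v := fun k u v => by
    fin_cases k <;> simp only [Tn, hT]
  have step : ∀ z, m.A b i z = m.Tn d z → polar m.q x (m.Tn (d - c) z) = polar m.q x z := fun z hz => by
    rw [← hTn c x (m.Tn (d - c) z), m.Tn_Tn, add_sub_cancel, ← hax, ← hz]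
    exact m.polar_inv (m.a_mem b i) x z
  have hTz : ∀ z, m.A b i z = m.Tn d z → m.A b i (m.T z) = m.Tn d (m.T z) := fun z hz => by
    rw [← m.T_A, hz]; fin_cases d <;> simp only [Tn]
  refine m.orth hy fun z hz => ?_
  have haz : m.A b i z = m.Tn d z := by
    rcases hz with rfl | rfl
    · exact hay
    · exact hTz y hay
  have hne : d - c ≠ 0 := sub_ne_zero.2 hcd.symm
  generalize hk : d - c = k at hne step
  fin_cases k
  · exact absurd rfl hne
  · exact step z haz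
  · have := step (m.T z) (hTz z haz)
    simp only [Tn, TT] at this
    exact this.symm

/-- The coordinate map of a vector. -/
def cmap (b : Bool) (w : V) : ℕ → V :=
  comb [w, m.T w, m.A b 2 w, m.T (m.A b 2 w), m.A b 2 (m.A b 2 w), m.T (m.A b 2 (m.A b 2 w)),
    m.A b 2 (m.A b 2 (m.A b 2 w)), m.T (m.A b 2 (m.A b 2 (m.A b 2 w)))]

theorem cmap_eq (b : Bool) (w : V) (v : ℕ) : m.cmap b w v = m.dig (v % 4) w + (m.dig (v / 4 % 4) (m.A b 2 w) +
    (m.dig (v / 16 % 4) (m.A b 2 (m.A b 2 w)) + (m.dig (v / 64 % 4) (m.A b 2 (m.A b 2 (m.A b 2 w))) + 0))) := by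
  rw [cmap, comb_cons_two, comb_cons_two, comb_cons_two, comb_cons_two]
  simp only [comb, show v / 4 / 4 = v / 16 by omega, show v / 16 / 4 = v / 64 by omega]

theorem cmap_xor (b : Bool) (w : V) (u v : ℕ) : m.cmap b w (u ^^^ v) = m.cmap b w u + m.cmap b w v :=
  comb_xor m.two _ u v

theorem cmap_zero (b : Bool) (w : V) : m.cmap b w 0 = 0 := comb_zero _

theorem cmap_ext (b : Bool) (w : V) (f : V →+ V) (g : List ℕ)
    (h : ∀ l ∈ idm, f (m.cmap b w l) = m.cmap b w (app g l)) {v : ℕ} (hv : v < 256) :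
    f (m.cmap b w v) = m.cmap b w (app g v) := by
  rw [eq_comb (fun v => f (m.cmap b w v)) (by simp [cmap_zero])
      (fun u _ v _ => by rw [cmap_xor, map_add]) hv,
    eq_comb (fun v => m.cmap b w (app g v)) (by simp [cmap_zero, app_zero])
      (fun u _ v _ => by rw [app_xor, cmap_xor]) hv]
  congr 1
  exact List.map_congr_left h

set_option maxHeartbeats 1000000 in
theorem coords_of_char {b : Bool} {w : V} (hU : m.U w) (h0 : w ≠ 0) (hc : m.Char b w 1 0) :
    Nonempty (m.Coords b) := by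
  classical
  have hc1 : m.Char b _ 0 1 := m.char_shift hc
  have hc2 : m.Char b _ 2 0 := m.char_shift hc1
  have hc3 : m.Char b _ 0 2 := m.char_shift hc2
  have hne : ∀ {x : V}, x ≠ 0 → m.A b 2 x ≠ 0 := fun {x} hx e => hx (by
    rw [← m.j4 b x, e, m.A_zero, m.A_zero, m.A_zero])
  have u1 := m.U_A b 2 hU
  have u2 := m.U_A b 2 u1
  have u3 := m.U_A b 2 u2
  set w1 := m.A b 2 w with hw1
  set w2 := m.A b 2 w1 with hw2
  set w3 := m.A b 2 w2 with hw3
  -- the projections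
  have pr : ∀ (i : ℕ) (k : Fin 3) (n : ℕ) (x : V) (d : Fin 3), m.U x → m.A b i x = m.Tn d x →
      m.E b i k (m.dig n x) = if k = d then m.dig n x else 0 := fun i k n x d hx h =>
    m.E_of_eigen b i k d (m.dig_U hx n) (by rw [A_dig, h, Tn_dig])
  have hE0 : ∀ i k, m.E b i k 0 = 0 := fun i k => by
    have := m.E_of_eigen b i k k m.U_zero (by rw [m.A_zero]; fin_cases k <;> simp [Tn, T_zero])
    simpa using this
  have hcm : ∀ v, m.cmap b w v = m.dig (v % 4) w + (m.dig (v / 4 % 4) w1 + (m.dig (v / 16 % 4) w2 +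
      m.dig (v / 64 % 4) w3)) := fun v => (m.cmap_eq b w v).trans (by rw [add_zero])
  have hinj0 : ∀ v < 256, m.cmap b w v = 0 → v = 0 := by
    intro v hv he
    rw [hcm] at he
    have e0 := congrArg (m.E b 0 1) he
    have e1 := congrArg (m.E b 1 1) he
    have e2 := congrArg (m.E b 0 2) he
    have e3 := congrArg (m.E b 1 2) he
    simp only [E_add, pr _ _ _ _ _ hU hc.1, pr _ _ _ _ _ hU hc.2, pr _ _ _ _ _ u1 hc1.1, pr _ _ _ _ _ u1 hc1.2,
      pr _ _ _ _ _ u2 hc2.1, pr _ _ _ _ _ u2 hc2.2, pr _ _ _ _ _ u3 hc3.1, pr _ _ _ _ _ u3 hc3.2, hE0] at e0 e1 e2 e3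
    simp at e0 e1 e2 e3
    have := m.dig_eq_zero hU h0 (Nat.mod_lt _ (by omega)) e0
    have := m.dig_eq_zero u1 (hne h0) (Nat.mod_lt _ (by omega)) e1
    have := m.dig_eq_zero u2 (hne (hne h0)) (Nat.mod_lt _ (by omega)) e2
    have := m.dig_eq_zero u3 (hne (hne (hne h0))) (Nat.mod_lt _ (by omega)) e3
    omega
  have hinj : ∀ u < 256, ∀ v < 256, m.cmap b w u = m.cmap b w v → u = v := fun u hu v hv e => by
    have := hinj0 (u ^^^ v) (Nat.xor_lt_two_pow (n := 8) hu hv) (by rw [cmap_xor, e, m.two])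
    calc u = (u ^^^ v) ^^^ v := by rw [Nat.xor_assoc, Nat.xor_self, Nat.xor_zero]
      _ = v := by rw [this, Nat.zero_xor]
  have hsurj : ∀ x, ∃ v < 256, m.cmap b w v = x := by
    have hb : Function.Bijective (fun v : Fin 256 => m.cmap b w v) :=
      (Nat.bijective_iff_injective_and_card _).2
        ⟨fun u v e => Fin.ext (hinj _ u.2 _ v.2 e), by rw [Nat.card_fin, m.card]⟩
    intro x
    obtain ⟨v, hv⟩ := hb.2 x
    exact ⟨v, v.2, hv⟩
  -- the quadratic form
  have hq : ∀ x < 256, m.q (m.cmap b w x) = qf x := by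
    have d : ∀ {x y : V} {i : ℕ} {k l : Fin 3} (n n' : ℕ), k ≠ l → m.U y → m.A b i x = m.Tn k x →
        m.A b i y = m.Tn l y → polar m.q (m.dig n x) (m.dig n' y) = false := fun {x y i k l} n n' hkl hy hx' hy' =>
      m.orth_char hkl (m.dig_U hy n') (by rw [A_dig, hx', Tn_dig]) (by rw [A_dig, hy', Tn_dig])
    have o01 := fun n n' => d n n' (show (1 : Fin 3) ≠ 0 by decide) u1 hc.1 hc1.1
    have o02 := fun n n' => d n n' (show (1 : Fin 3) ≠ 2 by decide) u2 hc.1 hc2.1
    have o03 := fun n n' => d n n' (show (1 : Fin 3) ≠ 0 by decide) u3 hc.1 hc3.1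
    have o12 := fun n n' => d n n' (show (0 : Fin 3) ≠ 2 by decide) u2 hc1.1 hc2.1
    have o13 := fun n n' => d n n' (show (1 : Fin 3) ≠ 2 by decide) u3 hc1.2 hc3.2
    have o23 := fun n n' => d n n' (show (0 : Fin 3) ≠ 2 by decide) u3 hc2.2 hc3.2
    have bil' : ∀ x y z, polar m.q x (y + z) = (polar m.q x y ^^ polar m.q x z) := fun x y z => by
      rw [m.polar_comm, m.bil, m.polar_comm y, m.polar_comm z]
    have hline : ∀ {y : V}, m.U y → y ≠ 0 →
        (∀ v, polar m.q (m.cmap b w v) y = true → ∃ n, polar m.q (m.dig n y) y = true) → m.q y = true := by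
      intro y hy hy0 hh
      obtain ⟨u, hu⟩ := m.nondeg y hy0
      obtain ⟨v, -, rfl⟩ := hsurj u
      obtain ⟨n, hn⟩ := hh v hu
      rcases n with _ | _ | _ | _ | n
      · rw [show m.dig 0 y = 0 from rfl, m.polar_zero] at hn; cases hn
      · rw [show m.dig 1 y = y from rfl, m.polar_self] at hn; cases hn
      · exact m.q_one hy hn
      · rw [show m.dig 3 y = y + m.T y from rfl, m.bil, m.polar_self, Bool.false_xor] at hn
        exact m.q_one hy hn
      · rw [show m.dig (n + 4) y = 0 from rfl, m.polar_zero] at hn; cases hn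
    have q0 : m.q w = true := hline hU h0 fun v hv => ⟨v % 4, by
      simpa only [hcm, m.bil, show polar m.q (m.dig _ w1) w = false from
        (m.polar_comm _ _).trans (o01 1 (v / 4 % 4)), show polar m.q (m.dig _ w2) w = false from
        (m.polar_comm _ _).trans (o02 1 (v / 16 % 4)), show polar m.q (m.dig _ w3) w = false from
        (m.polar_comm _ _).trans (o03 1 (v / 64 % 4)), Bool.xor_false] using hv⟩
    have hqi : ∀ (y : V), m.q (m.A b 2 y) = m.q y := fun y => m.q_inv _ (m.a_mem b 2) y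
    have hqT : ∀ y, m.q (m.T y) = m.q y := fun y => m.q_inv _ m.t_mem y
    have qd : ∀ {y : V} {n : ℕ}, m.U y → m.q y = true → n < 4 → m.q (m.dig n y) = !(n == 0) := by
      intro y n hy hq1 hn
      rcases n with _ | _ | _ | _ | n
      · exact m.q_zero
      · exact hq1
      · exact (hqT y).trans hq1
      · show m.q (y + m.T y) = _
        rw [m.U_sum hy, hqT, hqT, hq1]; rfl
      · omega
    intro x hx
    rw [hcm]
    simp only [m.q_add (m.dig _ w), m.q_add (m.dig _ w1), m.q_add (m.dig _ w2), bil', o01, o02, o03, o12, o13, o23,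
      Bool.xor_false, Bool.false_xor]
    rw [qd hU q0 (Nat.mod_lt _ (by omega)), qd u1 (by rw [hw1, hqi, q0]) (Nat.mod_lt _ (by omega)),
      qd u2 (by rw [hw2, hw1, hqi, hqi, q0]) (Nat.mod_lt _ (by omega)),
      qd u3 (by rw [hw3, hw2, hw1, hqi, hqi, hqi, q0]) (Nat.mod_lt _ (by omega))]
    simp only [qf]
    cases x % 4 == 0 <;> cases x / 4 % 4 == 0 <;> cases x / 16 % 4 == 0 <;> cases x / 64 % 4 == 0 <;> rfl
  -- the generators
  have gA : ∀ v < 256, m.ρ (gen36 b 0) (m.cmap b w v) = m.cmap b w (app MA v) := fun v hv => by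
    refine m.cmap_ext b w _ _ ?_ hv
    show ∀ l ∈ idm, m.A b 0 (m.cmap b w l) = _
    simp [idm, cmap, comb, app, MA, A_zero, A_add, ← hw1, ← hw2, ← hw3, ← T_A, hc.1, hc1.1, hc2.1, hc3.1,
      Tn, TT, T_add, m.U_sum hU, m.U_sum u1, m.U_sum u2, m.U_sum u3]
  have gB : ∀ v < 256, m.ρ (gen36 b 1) (m.cmap b w v) = m.cmap b w (app MB v) := fun v hv => by
    refine m.cmap_ext b w _ _ ?_ hv
    show ∀ l ∈ idm, m.A b 1 (m.cmap b w l) = _
    simp [idm, cmap, comb, app, MB, A_zero, A_add, ← hw1, ← hw2, ← hw3, ← T_A, hc.2, hc1.2, hc2.2, hc3.2,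
      Tn, TT, T_add, m.U_sum hU, m.U_sum u1, m.U_sum u2, m.U_sum u3]
  have gJ : ∀ v < 256, m.ρ (gen36 b 2) (m.cmap b w v) = m.cmap b w (app MJ v) := fun v hv => by
    refine m.cmap_ext b w _ _ ?_ hv
    show ∀ l ∈ idm, m.A b 2 (m.cmap b w l) = _
    have h4 : m.A b 2 w3 = w := m.j4 b w
    simp [idm, cmap, comb, app, MJ, A_zero, A_add, ← hw1, ← hw2, ← hw3, ← T_A, h4]
  have gO : ∀ v < 256, m.ρ (gen36 b 4) (m.cmap b w v) = m.cmap b w (app OM v) := fun v hv => by
    refine m.cmap_ext b w _ _ ?_ hv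
    show ∀ l ∈ idm, m.T (m.cmap b w l) = _
    simp [idm, cmap, comb, app, OM, T_zero, T_add, ← hw1, ← hw2, ← hw3, m.U_sum hU, m.U_sum u1, m.U_sum u2,
      m.U_sum u3]
  -- the involution
  obtain ⟨c0, hc0, hk⟩ := hsurj (m.A b 3 w)
  have ltO : ∀ {x : ℕ}, app OM x < 256 := fun {x} => app_lt (mats_lt OM (by decide)) x
  have ltJ : ∀ {x : ℕ}, app MJ x < 256 := fun {x} => app_lt (mats_lt MJ (by decide)) x
  have kj : ∀ x, m.A b 3 (m.A b 2 x) = m.A b 2 (m.A b 2 (m.A b 2 (m.A b 3 x))) := fun x => by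
    simp only [A]
    rw [← m.ρ_mul _ (m.a_mem b 3) _ (m.a_mem b 2), ← m.ρ_mul _ (m.a_mem b 2) _ (m.a_mem b 3),
      ← m.ρ_mul _ (m.a_mem b 2) _ (mul_mem (m.a_mem b 2) (m.a_mem b 3)),
      ← m.ρ_mul _ (m.a_mem b 2) _ (mul_mem (m.a_mem b 2) (mul_mem (m.a_mem b 2) (m.a_mem b 3)))]
    simp only [Prod.mk_mul_mk, mul_one, perms_kj, mul_assoc]
  have gJ' : ∀ v < 256, m.A b 2 (m.cmap b w v) = m.cmap b w (app MJ v) := gJ
  have gO' : ∀ v < 256, m.T (m.cmap b w v) = m.cmap b w (app OM v) := gO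
  have ek1 : m.A b 3 w1 = m.cmap b w (app MJ (app MJ (app MJ c0))) := by
    rw [hw1, kj, ← hk, gJ' _ hc0, gJ' _ ltJ, gJ' _ ltJ]
  have ek2 : m.A b 3 w2 = m.cmap b w (app MJ (app MJ c0)) := by
    rw [hw2, kj, ek1, gJ' _ ltJ, gJ' _ ltJ, gJ' _ ltJ]
    congr 1
    have h4 : ∀ x < 256, app MJ (app MJ (app MJ (app MJ x))) = x := fun x hx =>
      hinj _ ltJ _ hx (by rw [← gJ' _ ltJ, ← gJ' _ ltJ, ← gJ' _ ltJ, ← gJ' _ hx, m.j4])
    exact h4 _ ltJ
  have ek3 : m.A b 3 w3 = m.cmap b w (app MJ c0) := by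
    rw [hw3, kj, ek2, gJ' _ ltJ, gJ' _ ltJ, gJ' _ ltJ]
    congr 1
    exact hinj _ ltJ _ ltJ (by rw [← gJ' _ ltJ, ← gJ' _ ltJ, ← gJ' _ ltJ, ← gJ' _ ltJ, m.j4])
  have gK : ∀ v < 256, m.ρ (gen36 b 3) (m.cmap b w v) = m.cmap b w (app (kOf c0) v) := fun v hv => by
    refine m.cmap_ext b w _ _ ?_ hv
    show ∀ l ∈ idm, m.A b 3 (m.cmap b w l) = _
    have eL : m.cmap b w 1 = w ∧ m.cmap b w 2 = m.T w ∧ m.cmap b w 4 = w1 ∧ m.cmap b w 8 = m.T w1 ∧
        m.cmap b w 16 = w2 ∧ m.cmap b w 32 = m.T w2 ∧ m.cmap b w 64 = w3 ∧ m.cmap b w 128 = m.T w3 := by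
      simp [cmap, comb, ← hw1, ← hw2, ← hw3]
    obtain ⟨a1, a2, a3, a4, a5, a6, a7, a8⟩ := eL
    simp [idm, app, kOf, a1, a2, a3, a4, a5, a6, a7, a8, ← T_A]
    rw [← hk, ek1, ek2, ek3]
    exact ⟨rfl, gO' _ hc0, rfl, gO' _ ltJ, rfl, gO' _ ltJ, rfl, gO' _ ltJ⟩
  have hlt : ∀ x ∈ kOf c0, x < 256 := by
    simp [kOf, hc0, ltO, ltJ]
  have mat_eq : ∀ g h : List ℕ, (∀ x ∈ g, x < 256) → (∀ x ∈ h, x < 256) → idm.map (app g) = g → idm.map (app h) = h →
      (∀ v < 256, m.cmap b w (app g v) = m.cmap b w (app h v)) → g = h := fun g h hg hh eg eh H => by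
    rw [← eg, ← eh]
    exact List.map_congr_left fun l hl => hinj _ (app_lt hg _) _ (app_lt hh _) (H l (idm_lt l hl))
  have hidm : idm.map (app idm) = idm := by decide +kernel
  have hmu : ∀ g h : List ℕ, h.length = 8 → idm.map (app (mu g h)) = mu g h := fun g h hl => by
    match h, hl with
    | [a, b, c, d, e, f, i, j], _ => simp [idm, mu, app]
  have hK : kOf c0 = MK := by
    refine kOf_determined c0 hc0 (mat_eq _ _ ?_ idm_lt (hmu _ _ rfl) hidm fun v hv => ?_)
      (mat_eq _ _ ?_ idm_lt (hmu _ _ rfl) hidm fun v hv => ?_) ?_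
    · exact List.forall_mem_map.2 fun x _ => app_lt hlt x
    · rw [app_mu _ hlt, app_idm v hv, ← gK _ (app_lt hlt _), ← gK _ hv]
      show m.A b 3 (m.A b 3 _) = _
      rw [A_A, (perms_props b).2.2.1.1]
      exact m.ρ_one _
    · exact List.forall_mem_map.2 fun x _ => app_lt (List.forall_mem_map.2 fun y _ => app_lt (mats_lt MA (by decide)) y) x
    · have h1 : ∀ x ∈ mu MA (kOf c0), x < 256 := List.forall_mem_map.2 fun y _ => app_lt (mats_lt MA (by decide)) y
      have h2 : ∀ y ∈ mu (mu MA (kOf c0)) (mu MA (kOf c0)), y < 256 := List.forall_mem_map.2 fun y _ => app_lt h1 y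
      rw [app_mu _ h2, app_mu _ h1, app_idm v hv]
      have step : ∀ x < 256, m.cmap b w (app (mu MA (kOf c0)) x) = m.A b 0 (m.A b 3 (m.cmap b w x)) := fun x hx => by
        rw [app_mu _ hlt, ← gA _ (app_lt hlt _), ← gK _ hx]; rfl
      rw [step _ (app_lt h1 _), step _ (app_lt h1 _), step _ hv]
      simp only [A_A]
      have hmem : ((1, (perms b).getD 0 1 * (perms b).getD 3 1) : P36) ∈ m.R :=
        m.alt _ _ (map_one _) (by simp only [map_mul, perm_even, mul_one])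
      rw [← m.ρ_mul _ hmem _ hmem, ← m.ρ_mul _ (mul_mem hmem hmem) _ hmem]
      convert m.ρ_one _
      refine Prod.ext (by simp) ?_
      simpa [mul_assoc] using (perms_props b).2.2.1.2.2
    · refine List.all_eq_true.2 fun v hv => ?_
      rw [beq_iff_eq]
      have hv' : v < 256 := List.mem_range.1 hv
      rw [← hq v hv', ← hq _ (app_lt hlt v), ← gK v hv']
      exact m.q_inv _ (m.a_mem b 3) _
  refine ⟨⟨m.cmap b w, m.cmap_xor b w, hinj, hsurj, hq, fun i hi v hv => ?_⟩⟩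
  rcases i with _ | _ | _ | _ | _ | i
  · exact gA v hv
  · exact gB v hv
  · exact gJ v hv
  · rw [gK v hv, hK]; rfl
  · exact gO v hv
  · omega

end Mod

end Cfsg.Agent.Invol.ExtraEight
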