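import Cfsg.Agent.Lib.Invol.ExtraEight.Code

/-!
# An involution centraliser of shape 2^{1+8} by (C3 x A6) by 2: words for the alternating group of degree 6
-/

set_option autoImplicit false
set_option linter.style.longLine false

namespace Cfsg.Agent.Invol.ExtraEight

/-- A word for every even permutation, in either system of generators. -/
def permWords : Bool → List (List ℕ)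
  | false => [[], [0], [1], [2], [3], [0, 0], [1, 0], [2, 0], [3, 0], [1, 1], [2, 1], [3, 1], [0, 2], [2, 2], [3, 2], [0, 3], [1, 3], [2, 3], [1, 0, 0], [2, 0, 0], [3, 0, 0], [1, 1, 0], [2, 1, 0], [3, 1, 0], [0, 2, 0], [2, 2, 0], [3, 2, 0], [0, 3, 0], [1, 3, 0], [2, 3, 0], [3, 1, 1], [2, 2, 1], [3, 2, 1], [0, 3, 1], [1, 3, 1], [2, 3, 1], [2, 0, 2], [3, 0, 2], [0, 2, 2], [2, 2, 2], [3, 2, 2], [0, 3, 2], [1, 3, 2], [0, 0, 3], [1, 0, 3], [2, 0, 3], [3, 0, 3], [1, 1, 3], [2, 1, 3], [3, 1, 3], [0, 2, 3], [1, 1, 0, 0], [2, 1, 0, 0], [3, 1, 0, 0], [0, 2, 0, 0], [3, 2, 0, 0], [0, 3, 0, 0], [1, 3, 0, 0], [2, 3, 0, 0], [3, 1, 1, 0], [2, 2, 1, 0], [3, 2, 1, 0], [0, 3, 1, 0], [1, 3, 1, 0], [2, 3, 1,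 0], [2, 0, 2, 0], [3, 0, 2, 0], [2, 2, 2, 0], [3, 2, 2, 0], [0, 3, 2, 0], [1, 3, 2, 0], [0, 0, 3, 0], [1, 0, 3, 0], [2, 0, 3, 0], [1, 1, 3, 0], [2, 1, 3, 0], [3, 1, 3, 0], [0, 2, 3, 0], [0, 3, 1, 1], [1, 3, 1, 1], [2, 3, 1, 1], [0, 2, 2, 1], [2, 2, 2, 1], [3, 2, 2, 1], [0, 3, 2, 1], [1, 3, 2, 1], [0, 0, 3, 1], [1, 0, 3, 1], [2, 0, 3, 1], [3, 0, 3, 1], [1, 1, 3, 1], [2, 1, 3, 1], [3, 1, 3, 1], [0, 2, 3, 1], [0, 2, 0, 2], [2, 2, 0, 2], [3, 2, 0, 2], [0, 3, 0, 2], [1, 3, 0, 2], [2, 0, 2, 2], [3, 0, 2, 2], [0, 3, 2, 2], [1, 3, 2, 2], [0, 0, 3, 2], [1, 0, 3, 2], [3, 0, 3, 2], [1, 1, 3, 2], [1, 0, 0, 3], [2, 0, 0, 3], [1, 1, 0, 3], [2, 1, 0, 3], [3, 1, 0, 3], [0, 2, 0, 3], [2, 2, 0, 3], [3, 2,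 0, 3], [1, 3, 0, 3], [2, 3, 0, 3], [3, 1, 1, 3], [2, 2, 1, 3], [0, 3, 1, 3], [1, 3, 1, 3], [3, 0, 2, 3], [3, 1, 1, 0, 0], [3, 2, 1, 0, 0], [0, 3, 1, 0, 0], [1, 3, 1, 0, 0], [2, 3, 1, 0, 0], [3, 0, 2, 0, 0], [0, 3, 2, 0, 0], [1, 0, 3, 0, 0], [2, 0, 3, 0, 0], [1, 1, 3, 0, 0], [2, 1, 3, 0, 0], [3, 1, 3, 0, 0], [0, 2, 3, 0, 0], [0, 3, 1, 1, 0], [1, 3, 1, 1, 0], [2, 3, 1, 1, 0], [2, 2, 2, 1, 0], [3, 2, 2, 1, 0], [0, 3, 2, 1, 0], [1, 3, 2, 1, 0], [0, 0, 3, 1, 0], [1, 0, 3, 1, 0], [2, 0, 3, 1, 0], [1, 1, 3, 1, 0], [2, 1, 3, 1, 0], [3, 1, 3, 1, 0], [0, 2, 3, 1, 0], [2, 2, 0, 2, 0], [3, 2, 0, 2, 0], [0, 3, 0, 2, 0], [1, 3, 0, 2, 0], [0, 3, 2, 2, 0], [1, 3, 2, 2, 0], [0, 0, 3, 2, 0], [1, 0, 3, 2, 0],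 [3, 0, 3, 2, 0], [1, 1, 3, 2, 0], [1, 0, 0, 3, 0], [2, 0, 0, 3, 0], [1, 1, 0, 3, 0], [2, 1, 0, 3, 0], [3, 1, 0, 3, 0], [0, 2, 0, 3, 0], [2, 2, 0, 3, 0], [3, 1, 1, 3, 0], [2, 2, 1, 3, 0], [0, 3, 1, 3, 0], [1, 3, 1, 3, 0], [3, 0, 2, 3, 0], [0, 0, 3, 1, 1], [1, 0, 3, 1, 1], [2, 0, 3, 1, 1], [3, 0, 3, 1, 1], [1, 1, 3, 1, 1], [0, 2, 3, 1, 1], [2, 0, 2, 2, 1], [3, 0, 2, 2, 1], [0, 3, 2, 2, 1], [1, 0, 3, 2, 1], [3, 0, 3, 2, 1], [1, 1, 3, 2, 1], [1, 0, 0, 3, 1], [2, 0, 0, 3, 1], [1, 1, 0, 3, 1], [2, 1, 0, 3, 1], [3, 1, 0, 3, 1], [0, 2, 0, 3, 1], [2, 2, 0, 3, 1], [3, 2, 0, 3, 1], [1, 3, 0, 3, 1], [2, 3, 0, 3, 1], [0, 3, 1, 3, 1], [2, 0, 2, 0, 2], [3, 0, 2, 0, 2], [0, 3, 2, 0, 2], [1, 0, 3, 0, 2],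 [1, 1, 3, 0, 2], [3, 1, 3, 0, 2], [0, 3, 0, 2, 2], [1, 3, 0, 2, 2], [1, 0, 3, 2, 2], [1, 0, 0, 3, 2], [1, 1, 0, 3, 2], [3, 1, 0, 3, 2], [1, 3, 0, 3, 2], [1, 1, 0, 0, 3], [2, 1, 0, 0, 3], [3, 1, 0, 0, 3], [0, 2, 0, 0, 3], [3, 1, 1, 0, 3], [2, 2, 1, 0, 3], [3, 2, 1, 0, 3], [0, 3, 1, 0, 3], [1, 3, 1, 0, 3], [2, 3, 1, 0, 3], [2, 0, 2, 0, 3], [3, 0, 2, 0, 3], [0, 3, 2, 0, 3], [1, 3, 2, 0, 3], [1, 1, 3, 0, 3], [2, 1, 3, 0, 3], [3, 1, 3, 0, 3], [0, 2, 3, 0, 3], [0, 3, 1, 1, 3], [0, 2, 2, 1, 3], [0, 0, 3, 1, 3], [1, 0, 3, 1, 3], [3, 0, 3, 1, 3], [1, 3, 0, 2, 3], [0, 3, 1, 1, 0, 0], [1, 3, 1, 1, 0, 0], [2, 3, 1, 1, 0, 0], [0, 3, 2, 1, 0, 0], [1, 0, 3, 1, 0, 0], [2, 0, 3, 1, 0, 0], [1, 1, 3, 1, 0,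 0], [2, 1, 3, 1, 0, 0], [3, 1, 3, 1, 0, 0], [0, 2, 3, 1, 0, 0], [0, 3, 0, 2, 0, 0], [1, 3, 0, 2, 0, 0], [0, 0, 3, 2, 0, 0], [3, 0, 3, 2, 0, 0], [1, 1, 0, 3, 0, 0], [2, 1, 0, 3, 0, 0], [3, 1, 0, 3, 0, 0], [0, 2, 0, 3, 0, 0], [2, 2, 0, 3, 0, 0], [3, 1, 1, 3, 0, 0], [2, 2, 1, 3, 0, 0], [0, 3, 1, 3, 0, 0], [1, 3, 1, 3, 0, 0], [3, 0, 2, 3, 0, 0], [0, 0, 3, 1, 1, 0], [1, 0, 3, 1, 1, 0], [1, 1, 3, 1, 1, 0], [0, 3, 2, 2, 1, 0], [3, 0, 3, 2, 1, 0], [1, 1, 3, 2, 1, 0], [1, 0, 0, 3, 1, 0], [2, 0, 0, 3, 1, 0], [1, 1, 0, 3, 1, 0], [2, 1, 0, 3, 1, 0], [0, 2, 0, 3, 1, 0], [2, 2, 0, 3, 1, 0], [0, 3, 2, 0, 2, 0], [1, 0, 3, 0, 2, 0], [1, 1, 3, 0, 2, 0], [3, 1, 3, 0, 2, 0], [1, 0, 3, 2, 2, 0], [1, 0, 0, 3,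 2, 0], [1, 1, 0, 3, 2, 0], [3, 1, 0, 3, 2, 0], [1, 3, 0, 3, 2, 0], [1, 1, 0, 0, 3, 0], [2, 1, 0, 0, 3, 0], [3, 1, 0, 0, 3, 0], [3, 1, 1, 0, 3, 0], [2, 2, 1, 0, 3, 0], [3, 2, 1, 0, 3, 0], [0, 3, 1, 0, 3, 0], [1, 3, 1, 0, 3, 0], [2, 3, 1, 0, 3, 0], [2, 0, 2, 0, 3, 0], [3, 0, 2, 0, 3, 0], [0, 3, 1, 1, 3, 0], [0, 2, 2, 1, 3, 0], [0, 0, 3, 1, 3, 0], [3, 0, 3, 1, 3, 0], [1, 3, 0, 2, 3, 0], [1, 0, 0, 3, 1, 1], [2, 0, 0, 3, 1, 1], [3, 1, 0, 3, 1, 1], [0, 2, 0, 3, 1, 1], [2, 2, 0, 3, 1, 1], [1, 3, 0, 3, 1, 1], [2, 3, 0, 3, 1, 1], [0, 3, 0, 2, 2, 1], [1, 1, 0, 3, 2, 1], [1, 3, 0, 3, 2, 1], [1, 1, 0, 0, 3, 1], [2, 1, 0, 0, 3, 1], [3, 1, 0, 0, 3, 1], [0, 2, 0, 0, 3, 1], [2, 2, 1, 0, 3, 1], [1, 3, 2,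 0, 3, 1], [1, 1, 3, 0, 3, 1], [2, 1, 3, 0, 3, 1], [3, 1, 3, 0, 3, 1], [0, 2, 3, 0, 3, 1], [0, 0, 3, 1, 3, 1], [3, 0, 3, 1, 3, 1], [0, 3, 0, 2, 0, 2], [3, 0, 3, 2, 0, 2], [3, 1, 0, 3, 0, 2], [0, 3, 1, 3, 0, 2], [1, 3, 1, 3, 0, 2], [1, 0, 3, 0, 2, 2], [3, 1, 0, 3, 2, 2], [1, 1, 0, 0, 3, 2], [3, 1, 0, 0, 3, 2], [2, 3, 1, 0, 3, 2], [1, 1, 3, 0, 3, 2], [3, 1, 3, 0, 3, 2], [3, 1, 1, 0, 0, 3], [3, 2, 1, 0, 0, 3], [0, 3, 1, 0, 0, 3], [1, 3, 1, 0, 0, 3], [1, 3, 1, 1, 0, 3], [3, 2, 2, 1, 0, 3], [0, 2, 3, 1, 0, 3], [3, 2, 0, 2, 0, 3], [0, 3, 0, 2, 0, 3], [0, 0, 3, 2, 0, 3], [3, 0, 3, 2, 0, 3], [2, 2, 1, 3, 0, 3], [0, 0, 3, 1, 1, 3], [3, 0, 3, 1, 1, 3], [2, 3, 0, 3, 1, 3], [1, 1, 3, 0, 2, 3], [3, 1,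 3, 0, 2, 3], [1, 1, 3, 1, 1, 0, 0], [2, 2, 0, 3, 1, 0, 0], [1, 0, 3, 0, 2, 0, 0], [1, 3, 0, 3, 2, 0, 0], [2, 2, 1, 0, 3, 0, 0], [3, 2, 1, 0, 3, 0, 0], [2, 0, 2, 0, 3, 0, 0], [0, 3, 1, 1, 3, 0, 0], [0, 0, 3, 1, 3, 0, 0], [3, 0, 3, 1, 3, 0, 0], [1, 3, 0, 2, 3, 0, 0], [1, 0, 0, 3, 1, 1, 0], [3, 0, 3, 2, 0, 2, 0], [1, 1, 3, 0, 3, 2, 0], [3, 2, 2, 1, 0, 3, 0], [0, 0, 3, 1, 1, 3, 0], [3, 1, 0, 0, 3, 1, 1]]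
  | true => [[], [0], [1], [2], [3], [0, 0], [1, 0], [2, 0], [3, 0], [1, 1], [2, 1], [3, 1], [0, 2], [2, 2], [3, 2], [0, 3], [1, 3], [2, 3], [1, 0, 0], [2, 0, 0], [3, 0, 0], [1, 1, 0], [2, 1, 0], [3, 1, 0], [0, 2, 0], [2, 2, 0], [3, 2, 0], [0, 3, 0], [1, 3, 0], [2, 3, 0], [3, 1, 1], [2, 2, 1], [3, 2, 1], [0, 3, 1], [1, 3, 1], [2, 3, 1], [2, 0, 2], [3, 0, 2], [0, 2, 2], [2, 2, 2], [3, 2, 2], [0, 3, 2], [1, 3, 2], [0, 0, 3], [1, 0, 3], [2, 0, 3], [3, 0, 3], [1, 1, 3], [2, 1, 3], [3, 1, 3], [0, 2, 3], [1, 1, 0, 0], [2, 1, 0, 0], [3, 1, 0, 0], [0, 2, 0, 0], [3, 2, 0, 0], [0, 3, 0, 0], [1, 3, 0, 0], [2, 3, 0, 0], [3, 1, 1, 0], [2, 2, 1, 0], [3, 2, 1, 0], [0, 3, 1, 0], [1, 3, 1, 0], [2, 3, 1, 0],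 [2, 0, 2, 0], [3, 0, 2, 0], [2, 2, 2, 0], [3, 2, 2, 0], [0, 3, 2, 0], [1, 3, 2, 0], [0, 0, 3, 0], [1, 0, 3, 0], [2, 0, 3, 0], [1, 1, 3, 0], [2, 1, 3, 0], [3, 1, 3, 0], [0, 2, 3, 0], [0, 3, 1, 1], [1, 3, 1, 1], [2, 3, 1, 1], [0, 2, 2, 1], [2, 2, 2, 1], [3, 2, 2, 1], [0, 3, 2, 1], [1, 3, 2, 1], [0, 0, 3, 1], [1, 0, 3, 1], [2, 0, 3, 1], [3, 0, 3, 1], [1, 1, 3, 1], [2, 1, 3, 1], [3, 1, 3, 1], [0, 2, 3, 1], [0, 2, 0, 2], [2, 2, 0, 2], [3, 2, 0, 2], [0, 3, 0, 2], [1, 3, 0, 2], [2, 0, 2, 2], [3, 0, 2, 2], [0, 3, 2, 2], [1, 3, 2, 2], [0, 0, 3, 2], [1, 0, 3, 2], [3, 0, 3, 2], [1, 1, 3, 2], [1, 0, 0, 3], [2, 0, 0, 3], [1, 1, 0, 3], [2, 1, 0, 3], [3, 1, 0, 3], [0, 2, 0, 3], [2, 2, 0, 3], [3, 2, 0, 3],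 [1, 3, 0, 3], [2, 3, 0, 3], [3, 1, 1, 3], [2, 2, 1, 3], [0, 3, 1, 3], [1, 3, 1, 3], [3, 0, 2, 3], [3, 1, 1, 0, 0], [3, 2, 1, 0, 0], [0, 3, 1, 0, 0], [1, 3, 1, 0, 0], [2, 3, 1, 0, 0], [3, 0, 2, 0, 0], [0, 3, 2, 0, 0], [1, 0, 3, 0, 0], [2, 0, 3, 0, 0], [1, 1, 3, 0, 0], [2, 1, 3, 0, 0], [3, 1, 3, 0, 0], [0, 2, 3, 0, 0], [0, 3, 1, 1, 0], [1, 3, 1, 1, 0], [2, 3, 1, 1, 0], [2, 2, 2, 1, 0], [3, 2, 2, 1, 0], [0, 3, 2, 1, 0], [1, 3, 2, 1, 0], [0, 0, 3, 1, 0], [1, 0, 3, 1, 0], [2, 0, 3, 1, 0], [1, 1, 3, 1, 0], [2, 1, 3, 1, 0], [3, 1, 3, 1, 0], [0, 2, 3, 1, 0], [2, 2, 0, 2, 0], [3, 2, 0, 2, 0], [0, 3, 0, 2, 0], [1, 3, 0, 2, 0], [0, 3, 2, 2, 0], [1, 3, 2, 2, 0], [0, 0, 3, 2, 0], [1, 0, 3, 2, 0], [3,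 0, 3, 2, 0], [1, 1, 3, 2, 0], [1, 0, 0, 3, 0], [2, 0, 0, 3, 0], [1, 1, 0, 3, 0], [2, 1, 0, 3, 0], [3, 1, 0, 3, 0], [0, 2, 0, 3, 0], [2, 2, 0, 3, 0], [3, 1, 1, 3, 0], [2, 2, 1, 3, 0], [0, 3, 1, 3, 0], [1, 3, 1, 3, 0], [3, 0, 2, 3, 0], [0, 0, 3, 1, 1], [1, 0, 3, 1, 1], [2, 0, 3, 1, 1], [3, 0, 3, 1, 1], [1, 1, 3, 1, 1], [0, 2, 3, 1, 1], [2, 0, 2, 2, 1], [3, 0, 2, 2, 1], [0, 3, 2, 2, 1], [1, 0, 3, 2, 1], [3, 0, 3, 2, 1], [1, 1, 3, 2, 1], [1, 0, 0, 3, 1], [2, 0, 0, 3, 1], [1, 1, 0, 3, 1], [2, 1, 0, 3, 1], [3, 1, 0, 3, 1], [0, 2, 0, 3, 1], [2, 2, 0, 3, 1], [3, 2, 0, 3, 1], [1, 3, 0, 3, 1], [2, 3, 0, 3, 1], [0, 3, 1, 3, 1], [2, 0, 2, 0, 2], [3, 0, 2, 0, 2], [0, 3, 2, 0, 2], [1, 0, 3, 0, 2], [1,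 1, 3, 0, 2], [3, 1, 3, 0, 2], [0, 3, 0, 2, 2], [1, 3, 0, 2, 2], [1, 0, 3, 2, 2], [1, 0, 0, 3, 2], [1, 1, 0, 3, 2], [3, 1, 0, 3, 2], [1, 3, 0, 3, 2], [1, 1, 0, 0, 3], [2, 1, 0, 0, 3], [3, 1, 0, 0, 3], [0, 2, 0, 0, 3], [3, 1, 1, 0, 3], [2, 2, 1, 0, 3], [3, 2, 1, 0, 3], [0, 3, 1, 0, 3], [1, 3, 1, 0, 3], [2, 3, 1, 0, 3], [2, 0, 2, 0, 3], [3, 0, 2, 0, 3], [0, 3, 2, 0, 3], [1, 3, 2, 0, 3], [1, 1, 3, 0, 3], [2, 1, 3, 0, 3], [3, 1, 3, 0, 3], [0, 2, 3, 0, 3], [0, 3, 1, 1, 3], [0, 2, 2, 1, 3], [0, 0, 3, 1, 3], [1, 0, 3, 1, 3], [3, 0, 3, 1, 3], [1, 3, 0, 2, 3], [0, 3, 1, 1, 0, 0], [1, 3, 1, 1, 0, 0], [2, 3, 1, 1, 0, 0], [0, 3, 2, 1, 0, 0], [1, 0, 3, 1, 0, 0], [2, 0, 3, 1, 0, 0], [1, 1, 3, 1, 0, 0],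 [2, 1, 3, 1, 0, 0], [3, 1, 3, 1, 0, 0], [0, 2, 3, 1, 0, 0], [0, 3, 0, 2, 0, 0], [1, 3, 0, 2, 0, 0], [0, 0, 3, 2, 0, 0], [3, 0, 3, 2, 0, 0], [1, 1, 0, 3, 0, 0], [2, 1, 0, 3, 0, 0], [3, 1, 0, 3, 0, 0], [0, 2, 0, 3, 0, 0], [2, 2, 0, 3, 0, 0], [3, 1, 1, 3, 0, 0], [2, 2, 1, 3, 0, 0], [0, 3, 1, 3, 0, 0], [1, 3, 1, 3, 0, 0], [3, 0, 2, 3, 0, 0], [0, 0, 3, 1, 1, 0], [1, 0, 3, 1, 1, 0], [1, 1, 3, 1, 1, 0], [0, 3, 2, 2, 1, 0], [3, 0, 3, 2, 1, 0], [1, 1, 3, 2, 1, 0], [1, 0, 0, 3, 1, 0], [2, 0, 0, 3, 1, 0], [1, 1, 0, 3, 1, 0], [2, 1, 0, 3, 1, 0], [0, 2, 0, 3, 1, 0], [2, 2, 0, 3, 1, 0], [0, 3, 2, 0, 2, 0], [1, 0, 3, 0, 2, 0], [1, 1, 3, 0, 2, 0], [3, 1, 3, 0, 2, 0], [1, 0, 3, 2, 2, 0], [1, 0, 0, 3, 2, 0],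 [1, 1, 0, 3, 2, 0], [3, 1, 0, 3, 2, 0], [1, 3, 0, 3, 2, 0], [1, 1, 0, 0, 3, 0], [2, 1, 0, 0, 3, 0], [3, 1, 0, 0, 3, 0], [3, 1, 1, 0, 3, 0], [2, 2, 1, 0, 3, 0], [3, 2, 1, 0, 3, 0], [0, 3, 1, 0, 3, 0], [1, 3, 1, 0, 3, 0], [2, 3, 1, 0, 3, 0], [2, 0, 2, 0, 3, 0], [3, 0, 2, 0, 3, 0], [0, 3, 1, 1, 3, 0], [0, 2, 2, 1, 3, 0], [0, 0, 3, 1, 3, 0], [3, 0, 3, 1, 3, 0], [1, 3, 0, 2, 3, 0], [1, 0, 0, 3, 1, 1], [2, 0, 0, 3, 1, 1], [3, 1, 0, 3, 1, 1], [0, 2, 0, 3, 1, 1], [2, 2, 0, 3, 1, 1], [1, 3, 0, 3, 1, 1], [2, 3, 0, 3, 1, 1], [0, 3, 0, 2, 2, 1], [1, 1, 0, 3, 2, 1], [1, 3, 0, 3, 2, 1], [1, 1, 0, 0, 3, 1], [2, 1, 0, 0, 3, 1], [3, 1, 0, 0, 3, 1], [0, 2, 0, 0, 3, 1], [2, 2, 1, 0, 3, 1], [1, 3, 2, 0, 3, 1],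 [1, 1, 3, 0, 3, 1], [2, 1, 3, 0, 3, 1], [3, 1, 3, 0, 3, 1], [0, 2, 3, 0, 3, 1], [0, 0, 3, 1, 3, 1], [3, 0, 3, 1, 3, 1], [0, 3, 0, 2, 0, 2], [3, 0, 3, 2, 0, 2], [3, 1, 0, 3, 0, 2], [0, 3, 1, 3, 0, 2], [1, 3, 1, 3, 0, 2], [1, 0, 3, 0, 2, 2], [3, 1, 0, 3, 2, 2], [1, 1, 0, 0, 3, 2], [3, 1, 0, 0, 3, 2], [2, 3, 1, 0, 3, 2], [1, 1, 3, 0, 3, 2], [3, 1, 3, 0, 3, 2], [3, 1, 1, 0, 0, 3], [3, 2, 1, 0, 0, 3], [0, 3, 1, 0, 0, 3], [1, 3, 1, 0, 0, 3], [1, 3, 1, 1, 0, 3], [3, 2, 2, 1, 0, 3], [0, 2, 3, 1, 0, 3], [3, 2, 0, 2, 0, 3], [0, 3, 0, 2, 0, 3], [0, 0, 3, 2, 0, 3], [3, 0, 3, 2, 0, 3], [2, 2, 1, 3, 0, 3], [0, 0, 3, 1, 1, 3], [3, 0, 3, 1, 1, 3], [2, 3, 0, 3, 1, 3], [1, 1, 3, 0, 2, 3], [3, 1, 3, 0, 2, 3],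 [1, 1, 3, 1, 1, 0, 0], [2, 2, 0, 3, 1, 0, 0], [1, 0, 3, 0, 2, 0, 0], [1, 3, 0, 3, 2, 0, 0], [2, 2, 1, 0, 3, 0, 0], [3, 2, 1, 0, 3, 0, 0], [2, 0, 2, 0, 3, 0, 0], [0, 3, 1, 1, 3, 0, 0], [0, 0, 3, 1, 3, 0, 0], [3, 0, 3, 1, 3, 0, 0], [1, 3, 0, 2, 3, 0, 0], [1, 0, 0, 3, 1, 1, 0], [3, 0, 3, 2, 0, 2, 0], [1, 1, 3, 0, 3, 2, 0], [3, 2, 2, 1, 0, 3, 0], [0, 0, 3, 1, 1, 3, 0], [3, 1, 0, 0, 3, 1, 1]]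

/-- The code of a permutation. -/
def pcode (σ : Equiv.Perm (Fin 6)) : ℕ :=
  (σ 0).val + 8 * ((σ 1).val + 8 * ((σ 2).val + 8 * ((σ 3).val + 8 * ((σ 4).val + 8 * (σ 5).val))))

end Cfsg.Agent.Invol.ExtraEight
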